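import Groth.Agent.S0543
import Mathlib.RingTheory.AdicCompletion.LocalRing
import Mathlib.RingTheory.AdicCompletion.AsTensorProduct
import Mathlib.RingTheory.Flat.Stability
import Mathlib.RingTheory.Flat.Localization
import Mathlib.RingTheory.Localization.AtPrime.Basic
import Mathlib.RingTheory.FiniteType
import Mathlib.RingTheory.Polynomial.Basic

/-!
# Descent to complete Noetherian local rings

Given a local ring `R` and finitely many elements of `R`, there are a local homomorphism `R → R'`,
flat, with `m_R R' = m_{R'}` and trivial residue field extension, and a complete Noetherian local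
ring `L` with a local homomorphism `L → R'`, whose image contains the given elements.
-/

set_option autoImplicit false
universe u

namespace Groth.Agent.FlatB.CompleteDescent

open TensorProduct IsLocalRing

section Construction

variable (L₀ R : Type u) [CommRing L₀] [IsLocalRing L₀] [IsNoetherianRing L₀] [CommRing R]
  [IsLocalRing R] [Algebra L₀ R] [IsLocalHom (algebraMap L₀ R)]

omit [IsNoetherianRing L₀] in
variable {L₀ R} in
theorem mem_max {a : L₀} (ha : a ∈ maximalIdeal L₀) : algebraMap L₀ R a ∈ maximalIdeal R := by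
  have h : (maximalIdeal L₀).map (algebraMap L₀ R) ≤ maximalIdeal R :=
    ((local_hom_TFAE (algebraMap L₀ R)).out 0 2).mp ‹_›
  exact h (Ideal.mem_map_of_mem _ ha)

/-- The completion. -/
abbrev Cpl : Type u := AdicCompletion (maximalIdeal L₀) L₀

/-- The map from the completion to the residue field of `R`. -/
noncomputable def toRes : Cpl L₀ →+* ResidueField R :=
  (Ideal.Quotient.lift (maximalIdeal L₀) ((residue R).comp (algebraMap L₀ R)) (fun a ha => by
    rw [RingHom.comp_apply, residue_eq_zero_iff]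
    exact mem_max ha)).comp
    (AdicCompletion.evalOneₐ (maximalIdeal L₀)).toRingHom

theorem toRes_algebraMap (a : L₀) : toRes L₀ R (algebraMap L₀ (Cpl L₀) a) =
    residue R (algebraMap L₀ R a) := by
  have : (AdicCompletion.evalOneₐ (maximalIdeal L₀)) (algebraMap L₀ (Cpl L₀) a) =
      Ideal.Quotient.mk _ a := by
    rw [AlgHom.commutes]; rfl
  simp only [toRes, RingHom.comp_apply, AlgHom.toRingHom_eq_coe, RingHom.coe_coe, this]
  rfl

theorem toRes_eq_zero {x : Cpl L₀} (hx : x ∈ maximalIdeal (Cpl L₀)) : toRes L₀ R x = 0 := by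
  have h : maximalIdeal (Cpl L₀) ≤ RingHom.ker (toRes L₀ R) := by
    rw [AdicCompletion.maximalIdeal_eq_map, Ideal.map_le_iff_le_comap]
    intro a ha
    rw [Ideal.mem_comap, RingHom.mem_ker, toRes_algebraMap, residue_eq_zero_iff]
    exact mem_max ha
  exact h hx

/-- `L = L₀ + m L` -/
theorem exists_sub_mem (x : Cpl L₀) : ∃ a : L₀, x - algebraMap L₀ (Cpl L₀) a ∈
    maximalIdeal (Cpl L₀) := by
  obtain ⟨y, hy⟩ := (AdicCompletion.residueField_map_bijective L₀).2 (residue _ x)
  obtain ⟨a, rfl⟩ := residue_surjective y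
  refine ⟨a, ?_⟩
  rw [ResidueField.map_residue] at hy
  rw [← residue_eq_zero_iff, map_sub, hy, sub_self]

/-- The tensor product. -/
abbrev T : Type u := R ⊗[L₀] Cpl L₀

noncomputable def toResAlg : Cpl L₀ →ₐ[L₀] ResidueField R :=
  { toRes L₀ R with
    commutes' := fun a => by
      exact toRes_algebraMap L₀ R a }

/-- The residue map of the tensor product. -/
noncomputable def θ : T L₀ R →ₐ[R] ResidueField R :=
  Algebra.TensorProduct.lift (Algebra.ofId R (ResidueField R)) (toResAlg L₀ R)
    (fun _ _ => Commute.all _ _)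

theorem θ_tmul (r : R) (x : Cpl L₀) : θ L₀ R (r ⊗ₜ x) = residue R r * toRes L₀ R x := rfl

theorem θ_surjective : Function.Surjective (θ L₀ R) := by
  intro y
  obtain ⟨r, rfl⟩ := residue_surjective y
  exact ⟨r ⊗ₜ 1, by rw [θ_tmul, map_one, mul_one]⟩

/-- The kernel of `θ`. -/
noncomputable def n : Ideal (T L₀ R) := RingHom.ker (θ L₀ R)

instance : (n L₀ R).IsMaximal :=
  RingHom.ker_isMaximal_of_surjective (θ L₀ R).toRingHom (θ_surjective L₀ R)

theorem exists_sub_mem_map (t : T L₀ R) : ∃ r : R, t - algebraMap R (T L₀ R) r ∈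
    (maximalIdeal R).map (algebraMap R (T L₀ R)) := by
  induction t using TensorProduct.induction_on with
  | zero => exact ⟨0, by simp⟩
  | add a b ha hb =>
    obtain ⟨r, hr⟩ := ha
    obtain ⟨s, hs⟩ := hb
    refine ⟨r + s, ?_⟩
    rw [map_add, add_sub_add_comm]
    exact add_mem hr hs
  | tmul r x =>
    obtain ⟨a, ha⟩ := exists_sub_mem L₀ x
    refine ⟨r * algebraMap L₀ R a, ?_⟩
    have h1 : r ⊗ₜ[L₀] x - algebraMap R (T L₀ R) (r * algebraMap L₀ R a) =
        r ⊗ₜ[L₀] (x - algebraMap L₀ (Cpl L₀) a) := by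
      rw [TensorProduct.tmul_sub, Algebra.TensorProduct.algebraMap_apply]
      congr 1
      rw [Algebra.algebraMap_eq_smul_one a, Algebra.algebraMap_eq_smul_one a,
        TensorProduct.tmul_smul, TensorProduct.smul_tmul', mul_smul_comm, mul_one]
      rfl
    rw [h1]
    have h2 : ∀ y ∈ maximalIdeal (Cpl L₀), (1 : R) ⊗ₜ[L₀] y ∈
        (maximalIdeal R).map (algebraMap R (T L₀ R)) := by
      have : maximalIdeal (Cpl L₀) ≤ ((maximalIdeal R).map (algebraMap R (T L₀ R))).comap
          (Algebra.TensorProduct.includeRight : Cpl L₀ →ₐ[L₀] T L₀ R).toRingHom := by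
        rw [AdicCompletion.maximalIdeal_eq_map, Ideal.map_le_iff_le_comap]
        intro a ha
        rw [Ideal.mem_comap, Ideal.mem_comap]
        have h3 : (Algebra.TensorProduct.includeRight : Cpl L₀ →ₐ[L₀] T L₀ R).toRingHom
            (algebraMap L₀ (Cpl L₀) a) = algebraMap R (T L₀ R) (algebraMap L₀ R a) := by
          rw [← IsScalarTower.algebraMap_apply]
          exact AlgHom.commutes _ _
        rw [h3]
        exact Ideal.mem_map_of_mem _ (mem_max ha)
      exact fun y hy => this hy
    have h4 : r ⊗ₜ[L₀] (x - algebraMap L₀ (Cpl L₀) a) = (r ⊗ₜ[L₀] (1 : Cpl L₀)) *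
        ((1 : R) ⊗ₜ[L₀] (x - algebraMap L₀ (Cpl L₀) a)) := by
      rw [Algebra.TensorProduct.tmul_mul_tmul, mul_one, one_mul]
    rw [h4]
    exact Ideal.mul_mem_left _ _ (h2 _ ha)

theorem n_eq_map : n L₀ R = (maximalIdeal R).map (algebraMap R (T L₀ R)) := by
  refine le_antisymm ?_ ?_
  · intro t ht
    obtain ⟨r, hr⟩ := exists_sub_mem_map L₀ R t
    have h1 : (maximalIdeal R).map (algebraMap R (T L₀ R)) ≤ n L₀ R := by
      rw [Ideal.map_le_iff_le_comap]
      intro a ha
      rw [Ideal.mem_comap]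
      change θ L₀ R _ = 0
      rw [AlgHom.commutes]
      exact (residue_eq_zero_iff _).mpr ha
    have h2 : algebraMap R (T L₀ R) r ∈ n L₀ R := by
      have := (n L₀ R).sub_mem ht (h1 hr)
      rwa [sub_sub_cancel] at this
    have h3 : r ∈ maximalIdeal R := by
      change θ L₀ R _ = 0 at h2
      rw [AlgHom.commutes] at h2
      exact (residue_eq_zero_iff _).mp h2
    have := Ideal.add_mem _ hr (Ideal.mem_map_of_mem (algebraMap R (T L₀ R)) h3)
    rwa [sub_add_cancel] at this
  · rw [Ideal.map_le_iff_le_comap]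
    intro a ha
    rw [Ideal.mem_comap]
    change θ L₀ R _ = 0
    rw [AlgHom.commutes]
    exact (residue_eq_zero_iff _).mpr ha

/-- The ring `R'`. -/
abbrev R' : Type u := Localization.AtPrime (n L₀ R)

theorem map_maximalIdeal :
    (maximalIdeal R).map (algebraMap R (R' L₀ R)) = maximalIdeal (R' L₀ R) := by
  rw [IsScalarTower.algebraMap_eq R (T L₀ R) (R' L₀ R), ← Ideal.map_map, ← n_eq_map,
    Localization.AtPrime.map_eq_maximalIdeal]

instance : IsLocalHom (algebraMap R (R' L₀ R)) :=
  ((local_hom_TFAE (algebraMap R (R' L₀ R))).out 0 2).mpr (map_maximalIdeal L₀ R).le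

instance : Module.Flat R (R' L₀ R) :=
  Module.Flat.trans R (T L₀ R) (R' L₀ R)

theorem residue_surjective' :
    Function.Surjective ((residue (R' L₀ R)).comp (algebraMap R (R' L₀ R))) := by
  intro y
  obtain ⟨y, rfl⟩ := residue_surjective y
  obtain ⟨t, s, rfl⟩ := IsLocalization.exists_mk'_eq (n L₀ R).primeCompl y
  obtain ⟨r, hr⟩ := exists_sub_mem_map L₀ R t
  obtain ⟨q, hq⟩ := exists_sub_mem_map L₀ R s
  have hmem : ∀ z ∈ (maximalIdeal R).map (algebraMap R (T L₀ R)),
      residue (R' L₀ R) (algebraMap (T L₀ R) (R' L₀ R) z) = 0 := by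
    intro z hz
    rw [residue_eq_zero_iff, ← Localization.AtPrime.map_eq_maximalIdeal]
    rw [← n_eq_map] at hz
    exact Ideal.mem_map_of_mem _ hz
  have hq' : q ∉ maximalIdeal R := by
    intro h
    have h5 : (s : T L₀ R) ∈ (maximalIdeal R).map (algebraMap R (T L₀ R)) := by
      have := Ideal.add_mem _ hq (Ideal.mem_map_of_mem (algebraMap R (T L₀ R)) h)
      rwa [sub_add_cancel] at this
    exact s.2 ((n_eq_map L₀ R).ge h5)
  rw [mem_maximalIdeal, mem_nonunits_iff, not_not] at hq'
  obtain ⟨w, rfl⟩ := hq'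
  refine ⟨r * ((w⁻¹ : Rˣ) : R), ?_⟩
  have h1 : residue (R' L₀ R) (algebraMap (T L₀ R) (R' L₀ R) t) =
      residue (R' L₀ R) (algebraMap R (R' L₀ R) r) := by
    have := hmem _ hr
    rwa [map_sub, map_sub, sub_eq_zero, ← IsScalarTower.algebraMap_apply] at this
  have h2 : residue (R' L₀ R) (algebraMap (T L₀ R) (R' L₀ R) s) =
      residue (R' L₀ R) (algebraMap R (R' L₀ R) w) := by
    have := hmem _ hq
    rwa [map_sub, map_sub, sub_eq_zero, ← IsScalarTower.algebraMap_apply] at this
  have h3 : residue (R' L₀ R) (IsLocalization.mk' (R' L₀ R) t s) *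
      residue (R' L₀ R) (algebraMap R (R' L₀ R) w) =
      residue (R' L₀ R) (algebraMap R (R' L₀ R) r) := by
    rw [← h1, ← h2, ← map_mul, IsLocalization.mk'_spec]
  have h6 : residue (R' L₀ R) (algebraMap R (R' L₀ R) w) *
      residue (R' L₀ R) (algebraMap R (R' L₀ R) ((w⁻¹ : Rˣ) : R)) = 1 := by
    rw [← map_mul, ← map_mul, Units.mul_inv, map_one, map_one]
  rw [RingHom.comp_apply, map_mul, map_mul, ← h3, mul_assoc, h6, mul_one]

noncomputable instance algL : Algebra (Cpl L₀) (R' L₀ R) :=
  ((algebraMap (T L₀ R) (R' L₀ R)).comp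
    (Algebra.TensorProduct.includeRight : Cpl L₀ →ₐ[L₀] T L₀ R).toRingHom).toAlgebra

theorem algebraMap_L (x : Cpl L₀) : algebraMap (Cpl L₀) (R' L₀ R) x =
    algebraMap (T L₀ R) (R' L₀ R) ((1 : R) ⊗ₜ x) := rfl

theorem algebraMap_L_algebraMap (a : L₀) : algebraMap (Cpl L₀) (R' L₀ R)
    (algebraMap L₀ (Cpl L₀) a) = algebraMap R (R' L₀ R) (algebraMap L₀ R a) := by
  rw [algebraMap_L, IsScalarTower.algebraMap_apply R (T L₀ R) (R' L₀ R)]
  congr 1
  rw [← IsScalarTower.algebraMap_apply]
  exact AlgHom.commutes (Algebra.TensorProduct.includeRight : Cpl L₀ →ₐ[L₀] T L₀ R) a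

instance : IsLocalHom (algebraMap (Cpl L₀) (R' L₀ R)) := by
  refine ((local_hom_TFAE (algebraMap (Cpl L₀) (R' L₀ R))).out 0 2).mpr ?_
  rw [AdicCompletion.maximalIdeal_eq_map, Ideal.map_le_iff_le_comap, Ideal.map_le_iff_le_comap]
  intro a ha
  rw [Ideal.mem_comap, Ideal.mem_comap, algebraMap_L_algebraMap, ← map_maximalIdeal]
  exact Ideal.mem_map_of_mem _ (mem_max ha)

end Construction

/-- Noetherian local subrings: finitely many elements of a local ring `R` lie in the image of a
Noetherian local ring `L₀` under a local homomorphism. -/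
theorem exists_noetherian_local {R : Type u} [CommRing R] [IsLocalRing R] (F : Set R)
    (hF : F.Finite) :
    ∃ (L₀ : Type u) (_ : CommRing L₀) (_ : IsLocalRing L₀) (_ : IsNoetherianRing L₀)
      (_ : Algebra L₀ R) (_ : IsLocalHom (algebraMap L₀ R)),
      ∀ a ∈ F, ∃ b : L₀, algebraMap L₀ R b = a := by
  let A := Algebra.adjoin ℤ F
  have hA : Algebra.FiniteType ℤ A := by
    have := Subalgebra.fg_adjoin_finset (R := ℤ) hF.toFinset
    rw [Set.Finite.coe_toFinset] at this
    exact (Subalgebra.fg_iff_finiteType _).mp this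
  have hN : IsNoetherianRing A := Algebra.FiniteType.isNoetherianRing ℤ A
  let p : Ideal A := (maximalIdeal R).comap (algebraMap A R)
  have hp : p.IsPrime := inferInstance
  have hunit : ∀ y : p.primeCompl, IsUnit (algebraMap A R y) := by
    intro y
    have := y.2
    by_contra h
    exact this ((mem_maximalIdeal _).mpr h)
  let φ : Localization.AtPrime p →+* R := IsLocalization.lift hunit
  have hφ : ∀ a : A, φ (algebraMap A _ a) = algebraMap A R a := fun a => IsLocalization.lift_eq _ _
  let _ : Algebra (Localization.AtPrime p) R := φ.toAlgebra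
  refine ⟨Localization.AtPrime p, inferInstance, inferInstance,
    IsLocalization.isNoetherianRing p.primeCompl _ hN, inferInstance, ?_, ?_⟩
  · refine ⟨fun x hx => ?_⟩
    obtain ⟨a, s, rfl⟩ := IsLocalization.exists_mk'_eq p.primeCompl x
    rw [IsLocalization.AtPrime.isUnit_mk'_iff (Localization.AtPrime p) p]
    intro ha
    have h1 : φ (IsLocalization.mk' _ a s) * algebraMap A R s = algebraMap A R a := by
      rw [← hφ, ← map_mul, IsLocalization.mk'_spec, hφ]
    have h2 : IsUnit (algebraMap A R a) := by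
      rw [← h1]
      exact IsUnit.mul hx (hunit s)
    exact ha h2
  · intro a ha
    exact ⟨algebraMap A _ ⟨a, Algebra.subset_adjoin ha⟩, hφ _⟩

/-- Descent to complete Noetherian local rings. -/
theorem exists_complete_descent {R : Type u} [CommRing R] [IsLocalRing R] (F : Set R)
    (hF : F.Finite) :
    ∃ (L R' : Type u) (_ : CommRing L) (_ : IsLocalRing L) (_ : IsNoetherianRing L)
      (_ : IsAdicComplete (maximalIdeal L) L) (_ : CommRing R') (_ : IsLocalRing R')
      (_ : Algebra L R') (_ : IsLocalHom (algebraMap L R')) (_ : Algebra R R')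
      (_ : IsLocalHom (algebraMap R R')) (_ : Module.Flat R R'),
      (maximalIdeal R).map (algebraMap R R') = maximalIdeal R' ∧
      Function.Surjective ((residue R').comp (algebraMap R R')) ∧
      ∀ a ∈ F, ∃ b : L, algebraMap L R' b = algebraMap R R' a := by
  obtain ⟨L₀, _, _, _, _, _, h⟩ := exists_noetherian_local F hF
  refine ⟨Cpl L₀, R' L₀ R, inferInstance, inferInstance, Groth.Agent.S0543.result _ _,
    inferInstance, inferInstance, inferInstance, inferInstance, inferInstance, inferInstance,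
    inferInstance, inferInstance, map_maximalIdeal L₀ R, residue_surjective' L₀ R, ?_⟩
  intro a ha
  obtain ⟨b, rfl⟩ := h a ha
  exact ⟨algebraMap L₀ _ b, algebraMap_L_algebraMap L₀ R b⟩

end Groth.Agent.FlatB.CompleteDescent
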