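import Mathlib.RingTheory.LocalRing.ResidueField.Basic
import Mathlib.RingTheory.Flat.FaithfullyFlat.Algebra
import Mathlib.RingTheory.Flat.Stability
import Mathlib.RingTheory.Flat.Localization
import Mathlib.RingTheory.Localization.AtPrime.Basic
import Mathlib.RingTheory.IsTensorProduct

/-!
# Local base change

Let `R → R'` be a flat local homomorphism of local rings with `m_R R' = m_{R'}` and trivial residue
field extension, `R → S` a local homomorphism. There is a local ring `S'`, faithfully flat over `S`
and local over `R'`, such that `S' ⊗[S] M` is `R'`-flat for every `R`-flat `S`-module `M`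
(a localization of `R' ⊗[R] S`).
-/

set_option autoImplicit false
universe u

namespace Groth.Agent.FlatB.LocalBaseChange

open TensorProduct IsLocalRing

/-- Flatness over a base ring is inherited by flat base change of the module structure. -/
theorem flat_tensor {A T B N : Type u} [CommRing A] [CommRing T] [CommRing B] [Algebra A T]
    [Algebra T B] [Algebra A B] [IsScalarTower A T B] [AddCommGroup N] [Module T N] [Module A N]
    [IsScalarTower A T N] [Module.Flat T B] [Module.Flat A N] : Module.Flat A (B ⊗[T] N) := by
  rw [Module.Flat.iff_lTensor_preserves_injective_linearMap]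
  intro P Q _ _ _ _ f hf
  let eP := AlgebraTensorModule.assoc A T T B N P
  let eQ := AlgebraTensorModule.assoc A T T B N Q
  let g : N ⊗[A] P →ₗ[T] N ⊗[A] Q := AlgebraTensorModule.lTensor T N f
  have hg : Function.Injective g := by
    have := Module.Flat.lTensor_preserves_injective_linearMap (M := N) f hf
    exact this
  have h1 : Function.Injective (g.lTensor B) :=
    Module.Flat.lTensor_preserves_injective_linearMap g hg
  have h2 : ∀ x, eQ (f.lTensor (B ⊗[T] N) x) = g.lTensor B (eP x) := by
    intro x
    induction x with
    | zero => simp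
    | add x y hx hy => simp only [map_add, hx, hy]
    | tmul x p =>
      induction x with
      | zero => simp
      | add x y hx hy => simp only [TensorProduct.add_tmul, map_add, hx, hy]
      | tmul b n => rfl
  intro x y hxy
  apply eP.injective
  apply h1
  rw [← h2, ← h2, hxy]

theorem flat_aux {R R' S T S' M : Type u} [CommRing R] [CommRing R'] [CommRing S] [CommRing T]
    [CommRing S'] [Algebra R R'] [Algebra R S] [Algebra R' T] [Algebra S T] [Algebra R T]
    [IsScalarTower R R' T] [IsScalarTower R S T] [Algebra.IsPushout R R' S T] [Algebra T S']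
    [Algebra R' S'] [Algebra S S'] [IsScalarTower R' T S'] [IsScalarTower S T S']
    [Module.Flat T S'] [AddCommGroup M] [Module S M] [Module R M] [IsScalarTower R S M]
    [Module.Flat R M] : Module.Flat R' (S' ⊗[S] M) := by
  have h1 : Module.Flat R' (T ⊗[S] M) :=
    Module.Flat.of_linearEquiv (Algebra.IsPushout.cancelBaseChange R R' S T M)
  have h2 : Module.Flat R' (S' ⊗[T] (T ⊗[S] M)) := flat_tensor
  exact Module.Flat.of_linearEquiv
    ((AlgebraTensorModule.cancelBaseChange S T S' S' M).symm.restrictScalars R')

theorem exists_equiv {R R' : Type u} [CommRing R] [IsLocalRing R] [CommRing R'] [IsLocalRing R']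
    [Algebra R R'] [IsLocalHom (algebraMap R R')]
    (hres : Function.Surjective ((residue R').comp (algebraMap R R'))) :
    ∃ e : R' →+* ResidueField R, (∀ x ∈ maximalIdeal R', e x = 0) ∧
      ∀ r : R, e (algebraMap R R' r) = residue R r := by
  let j : ResidueField R →+* ResidueField R' := ResidueField.map (algebraMap R R')
  have hj : Function.Bijective j := by
    refine ⟨j.injective, fun y => ?_⟩
    obtain ⟨r, rfl⟩ := hres y
    exact ⟨residue R r, ResidueField.map_residue _ _⟩
  let e := (RingEquiv.ofBijective j hj).symm
  refine ⟨e.toRingHom.comp (residue R'), ?_, ?_⟩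
  · intro x hx
    rw [RingHom.comp_apply, (residue_eq_zero_iff x).mpr hx, map_zero]
  · intro r
    rw [RingHom.comp_apply, ← ResidueField.map_residue (algebraMap R R')]
    exact (RingEquiv.ofBijective j hj).symm_apply_apply (residue R r)

theorem exists_localBaseChange {R R' S : Type u} [CommRing R] [IsLocalRing R] [CommRing R']
    [IsLocalRing R'] [Algebra R R'] [IsLocalHom (algebraMap R R')] [Module.Flat R R']
    (_hm : (maximalIdeal R).map (algebraMap R R') = maximalIdeal R')
    (hres : Function.Surjective ((residue R').comp (algebraMap R R'))) [CommRing S]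
    [IsLocalRing S] [Algebra R S] [IsLocalHom (algebraMap R S)] :
    ∃ (S' : Type u) (_ : CommRing S') (_ : IsLocalRing S') (_ : Algebra S S') (_ : Algebra R' S')
      (_ : Algebra R S') (_ : IsScalarTower R S S') (_ : IsScalarTower R R' S')
      (_ : IsLocalHom (algebraMap S S')) (_ : IsLocalHom (algebraMap R' S'))
      (_ : Module.FaithfullyFlat S S'), ∀ (M : Type u) [AddCommGroup M] [Module S M] [Module R M]
      [IsScalarTower R S M] [Module.Flat R M], Module.Flat R' (S' ⊗[S] M) := by
  obtain ⟨e, he0, he⟩ := exists_equiv hres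
  let j : ResidueField R →+* ResidueField S := ResidueField.map (algebraMap R S)
  let ψ : R' →ₐ[R] ResidueField S := { j.comp e with
    commutes' := fun r => by
      change j (e (algebraMap R R' r)) = _
      rw [he]
      rfl }
  let _ : Algebra S (R' ⊗[R] S) := Algebra.TensorProduct.rightAlgebra
  let θ : R' ⊗[R] S →ₐ[R] ResidueField S :=
    Algebra.TensorProduct.lift ψ (IsScalarTower.toAlgHom R S (ResidueField S))
      (fun _ _ => Commute.all _ _)
  have hθ1 : ∀ x : R', θ (algebraMap R' (R' ⊗[R] S) x) = j (e x) := by
    intro x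
    have : θ (x ⊗ₜ[R] (1 : S)) = ψ x * (IsScalarTower.toAlgHom R S (ResidueField S)) 1 := rfl
    rw [map_one, mul_one] at this
    exact this
  have hθ2 : ∀ x : S, θ (algebraMap S (R' ⊗[R] S) x) = residue S x := by
    intro x
    have : θ ((1 : R') ⊗ₜ[R] x) = ψ 1 * (IsScalarTower.toAlgHom R S (ResidueField S)) x := rfl
    rw [map_one, one_mul] at this
    exact this
  have hsurj : Function.Surjective θ := by
    intro y
    obtain ⟨s, rfl⟩ := residue_surjective y
    exact ⟨algebraMap S (R' ⊗[R] S) s, hθ2 s⟩
  let 𝔫 : Ideal (R' ⊗[R] S) := RingHom.ker θ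
  have h𝔫 : 𝔫.IsMaximal := RingHom.ker_isMaximal_of_surjective θ.toRingHom hsurj
  let S' := Localization.AtPrime 𝔫
  have t1 : IsScalarTower S (R' ⊗[R] S) S' := inferInstance
  have t2 : IsScalarTower R' (R' ⊗[R] S) S' := inferInstance
  have t3 : IsScalarTower R (R' ⊗[R] S) S' := inferInstance
  have t4 : IsScalarTower R S (R' ⊗[R] S) := inferInstance
  have t5 : IsScalarTower R R' S' := inferInstance
  have t6 : IsScalarTower R S S' := by
    refine IsScalarTower.of_algebraMap_eq (fun r => ?_)
    rw [IsScalarTower.algebraMap_apply S (R' ⊗[R] S) S', ← IsScalarTower.algebraMap_apply R S,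
      ← IsScalarTower.algebraMap_apply R (R' ⊗[R] S) S']
  have l1 : IsLocalHom (algebraMap S S') := by
    refine ((local_hom_TFAE (algebraMap S S')).out 0 2).mpr ?_
    rw [Ideal.map_le_iff_le_comap]
    intro a ha
    rw [Ideal.mem_comap, IsScalarTower.algebraMap_apply S (R' ⊗[R] S) S',
      ← Localization.AtPrime.map_eq_maximalIdeal]
    refine Ideal.mem_map_of_mem _ ?_
    change θ _ = 0
    rw [hθ2]
    exact (residue_eq_zero_iff a).mpr ha
  have l2 : IsLocalHom (algebraMap R' S') := by
    refine ((local_hom_TFAE (algebraMap R' S')).out 0 2).mpr ?_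
    rw [Ideal.map_le_iff_le_comap]
    intro a ha
    rw [Ideal.mem_comap, IsScalarTower.algebraMap_apply R' (R' ⊗[R] S) S',
      ← Localization.AtPrime.map_eq_maximalIdeal]
    refine Ideal.mem_map_of_mem _ ?_
    change θ _ = 0
    rw [hθ1, he0 a ha, map_zero]
  have p1 : Algebra.IsPushout R R' S (R' ⊗[R] S) := inferInstance
  have f0 : Module.Flat S (R' ⊗[R] S) := by
    have := p1.symm
    exact Module.Flat.isBaseChange R S R' (R' ⊗[R] S) this.out
  have f1 : Module.Flat (R' ⊗[R] S) S' := inferInstance
  have f2 : Module.Flat S S' := Module.Flat.trans S (R' ⊗[R] S) S'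
  have f3 : Module.FaithfullyFlat S S' := Module.FaithfullyFlat.of_flat_of_isLocalHom
  refine ⟨S', inferInstance, inferInstance, inferInstance, inferInstance, inferInstance, t6, t5,
    l1, l2, f3, ?_⟩
  intro M _ _ _ _ _
  exact flat_aux (R := R) (T := R' ⊗[R] S)

end Groth.Agent.FlatB.LocalBaseChange
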