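import Groth.Prelude.Def_Found
import Mathlib.RingTheory.Flat.EquationalCriterion
import Mathlib.LinearAlgebra.TensorProduct.RightExactness
import Mathlib.Algebra.Module.Projective

/-!
# Flat + Mittag-Leffler + countably generated implies projective

(the substantial half of Stacks Tag 059Z), by an elementary argument:

* `exists_smallest`: for a flat Mittag-Leffler module `M` and `z ∈ M ⊗ R^n` there is a smallest submodule
  `K ≤ R^n` with `z ∈ M ⊗ K`;
* `exists_minimal_factorization`: every `u : R^n → M` has a minimal factorization through a finite free module;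
* `projective_of_flat_of_isMittagLeffler_of_countable`.
-/

set_option autoImplicit false

universe u

namespace Groth.Agent.FlatB.MLProj

open TensorProduct

variable {R : Type u} [CommRing R] {M : Type u} [AddCommGroup M] [Module R M]

/-- For a flat Mittag-Leffler module there is a smallest submodule `K` of `P` through which a given element
of `M ⊗ P` comes. -/
theorem exists_smallest [Module.Flat R M] (hML : CAlg.IsMittagLeffler R M)
    {P : Type u} [AddCommGroup P] [Module R P] (z : M ⊗[R] P) :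
    ∃ K : Submodule R P, z ∈ LinearMap.range (K.subtype.lTensor M) ∧
      ∀ K' : Submodule R P, z ∈ LinearMap.range (K'.subtype.lTensor M) → K ≤ K' := by
  classical
  -- membership in the range of `M ⊗ K` is vanishing in `M ⊗ P/K`
  have key : ∀ K : Submodule R P, z ∈ LinearMap.range (K.subtype.lTensor M) ↔
      K.mkQ.lTensor M z = 0 := by
    intro K
    have hex : Function.Exact (K.subtype.lTensor M) (K.mkQ.lTensor M) :=
      lTensor_exact M (LinearMap.exact_subtype_mkQ K) K.mkQ_surjective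
    exact (hex z).symm
  let ι := {K' : Submodule R P // z ∈ LinearMap.range (K'.subtype.lTensor M)}
  let K : Submodule R P := ⨅ i : ι, i.1
  refine ⟨K, ?_, fun K' hK' => iInf_le (fun i : ι => i.1) ⟨K', hK'⟩⟩
  rw [key]
  let Q : ι → Type u := fun i => P ⧸ i.1
  let a : P →ₗ[R] (∀ i : ι, Q i) := LinearMap.pi fun i => i.1.mkQ
  have hker : LinearMap.ker a = K := by
    ext x
    simp only [a, K, LinearMap.mem_ker, funext_iff, Submodule.mem_iInf, LinearMap.pi_apply]
    exact forall_congr' fun i => Submodule.Quotient.mk_eq_zero i.1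
  let b : (P ⧸ K) →ₗ[R] (∀ i : ι, Q i) := K.liftQ a hker.ge
  have hb : Function.Injective b := by
    rw [← LinearMap.ker_eq_bot]
    exact Submodule.ker_liftQ_eq_bot _ _ _ hker.le
  have hb' : Function.Injective (b.lTensor M) := Module.Flat.lTensor_preserves_injective_linearMap b hb
  have hQ := hML ι Q
  apply hb'
  apply hQ
  rw [map_zero, map_zero]
  have hcomp : (b.lTensor M) (K.mkQ.lTensor M z) = (a.lTensor M) z := by
    rw [← LinearMap.comp_apply, ← LinearMap.lTensor_comp]
    rfl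
  rw [hcomp]
  -- the `i`-th component is `mkQ.lTensor`
  have hproj : ∀ i : ι, ∀ w : M ⊗[R] P,
      (TensorProduct.piRightHom R R M Q (a.lTensor M w)) i = (i.1.mkQ.lTensor M w : M ⊗[R] Q i) := by
    intro i w
    induction w using TensorProduct.induction_on with
    | zero => simp
    | tmul m p => simp [a, Q]
    | add x y hx hy => simp only [map_add, Pi.add_apply, hx, hy]
  funext i
  rw [hproj i z]
  exact (key i.1).1 i.2

/-- Elements of `M ⊗ K`, for `K ≤ R^n`, in coordinates. -/
theorem mem_range_lTensor_iff {n : Type} [Fintype n] [DecidableEq n] (x : n → M)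
    (K : Submodule R (n → R)) :
    (TensorProduct.piScalarRight R R M n).symm x ∈ LinearMap.range (K.subtype.lTensor M) ↔
      ∃ (m : ℕ) (φ : Fin m → (n → R)) (y : Fin m → M), (∀ k, φ k ∈ K) ∧
        ∀ j, x j = ∑ k, φ k j • y k := by
  constructor
  · rintro ⟨w, hw⟩
    have hw' : ∀ w : M ⊗[R] K, ∃ (m : ℕ) (φ : Fin m → (n → R)) (y : Fin m → M), (∀ k, φ k ∈ K) ∧
        ∀ j, (TensorProduct.piScalarRight R R M n) (K.subtype.lTensor M w) j = ∑ k, φ k j • y k := by
      intro w
      obtain ⟨S, rfl⟩ := TensorProduct.exists_finset w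
      let e := S.equivFin.symm
      refine ⟨S.card, fun k => ((e k).1.2 : n → R), fun k => (e k).1.1, fun k => (e k).1.2.2, fun j => ?_⟩
      rw [map_sum, map_sum, Finset.sum_apply]
      rw [← Finset.sum_coe_sort S]
      rw [← e.sum_comp]
      refine Finset.sum_congr rfl fun k _ => ?_
      simp
    obtain ⟨m, φ, y, h1, h2⟩ := hw' w
    refine ⟨m, φ, y, h1, fun j => ?_⟩
    rw [← h2 j, hw]
    simp
  · rintro ⟨m, φ, y, h1, h2⟩
    refine ⟨∑ k, y k ⊗ₜ[R] (⟨φ k, h1 k⟩ : K), ?_⟩
    apply (TensorProduct.piScalarRight R R M n).injective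
    rw [LinearEquiv.apply_symm_apply, map_sum, map_sum]
    funext j
    rw [Finset.sum_apply, h2 j]
    refine Finset.sum_congr rfl fun k _ => ?_
    simp

/-- Every map from a finite free module to a flat Mittag-Leffler module has a minimal factorization through
a finite free module. -/
theorem exists_minimal_factorization [Module.Flat R M] (hML : CAlg.IsMittagLeffler R M)
    {n : Type} [Fintype n] (u : (n → R) →ₗ[R] M) :
    ∃ (m : ℕ) (f : (n → R) →ₗ[R] (Fin m → R)) (v : (Fin m → R) →ₗ[R] M), u = v ∘ₗ f ∧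
      ∀ (κ : Type) [Fintype κ] (f' : (n → R) →ₗ[R] (κ → R)) (v' : (κ → R) →ₗ[R] M),
        u = v' ∘ₗ f' → ∃ g : (κ → R) →ₗ[R] (Fin m → R), f = g ∘ₗ f' := by
  classical
  let x : n → M := fun j => u (Pi.single j 1)
  obtain ⟨K, hK, hmin⟩ := exists_smallest hML ((TensorProduct.piScalarRight R R M n).symm x)
  obtain ⟨m, φ, y, hφ, hx⟩ := (mem_range_lTensor_iff x K).1 hK
  let f : (n → R) →ₗ[R] (Fin m → R) := LinearMap.pi fun k => ∑ j, (φ k j) • LinearMap.proj j
  let v : (Fin m → R) →ₗ[R] M := ∑ k, (LinearMap.proj k : (Fin m → R) →ₗ[R] R).smulRight (y k)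
  have hf : ∀ j, f (Pi.single j 1) = fun k => φ k j := by
    intro j
    funext k
    simp [f, LinearMap.sum_apply, Pi.single_apply]
  refine ⟨m, f, v, ?_, ?_⟩
  · apply LinearMap.pi_ext'
    intro j
    apply LinearMap.ext_ring
    simp only [LinearMap.comp_apply, LinearMap.single_apply]
    rw [hf j]
    simp only [v, LinearMap.sum_apply, LinearMap.smulRight_apply, LinearMap.proj_apply]
    exact hx j
  · intro κ _ f' v' huf
    let φ' : κ → (n → R) := fun l j => f' (Pi.single j 1) l
    let y' : κ → M := fun l => v' (Pi.single l 1)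
    have hx' : ∀ j, x j = ∑ l, φ' l j • y' l := by
      intro j
      have h1 : x j = v' (f' (Pi.single j 1)) := by
        change u _ = _
        rw [huf]; rfl
      rw [h1]
      conv_lhs => rw [pi_eq_sum_univ' (f' (Pi.single j 1))]
      rw [map_sum]
      refine Finset.sum_congr rfl fun l _ => ?_
      rw [map_smul]
    have hK' : K ≤ Submodule.span R (Set.range φ') := by
      apply hmin
      rw [mem_range_lTensor_iff]
      let e := (Fintype.equivFin κ).symm
      refine ⟨Fintype.card κ, fun k => φ' (e k), fun k => y' (e k), fun k =>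
        Submodule.subset_span ⟨_, rfl⟩, fun j => ?_⟩
      rw [hx' j, ← e.sum_comp]
    have hc : ∀ k, ∃ c : κ → R, ∑ l, c l • φ' l = φ k := fun k =>
      (Submodule.mem_span_range_iff_exists_fun R).1 (hK' (hφ k))
    choose c hc using hc
    refine ⟨LinearMap.pi fun k => ∑ l, c k l • LinearMap.proj l, ?_⟩
    apply LinearMap.pi_ext'
    intro j
    apply LinearMap.ext_ring
    simp only [LinearMap.comp_apply, LinearMap.single_apply]
    rw [hf j]
    funext k
    simp only [LinearMap.pi_apply, LinearMap.sum_apply, LinearMap.smul_apply, LinearMap.proj_apply]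
    rw [← hc k]
    simp [φ']

/-- The bundled stage of the inductive construction: a map from a finite free module. -/
structure Stage (R : Type u) [CommRing R] (M : Type u) [AddCommGroup M] [Module R M] : Type u where
  /-- the rank -/
  n : ℕ
  /-- the map -/
  u : (Fin n → R) →ₗ[R] M

/-- The inductive step. -/
theorem exists_step [Module.Flat R M] (hML : CAlg.IsMittagLeffler R M) (s : Stage R M) (x : M) :
    ∃ (t : Stage R M) (f : (Fin s.n → R) →ₗ[R] (Fin t.n → R)), s.u = t.u ∘ₗ f ∧
      x ∈ LinearMap.range t.u ∧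
      (∀ (κ : Type) [Fintype κ] (f' : (Fin s.n → R) →ₗ[R] (κ → R)) (v' : (κ → R) →ₗ[R] M),
        s.u = v' ∘ₗ f' → ∃ g : (κ → R) →ₗ[R] (Fin t.n → R), f = g ∘ₗ f') := by
  obtain ⟨m, f, v, huv, hmin⟩ := exists_minimal_factorization hML s.u
  let i : (Fin m → R) →ₗ[R] (Fin (m + 1) → R) :=
    LinearMap.pi (Fin.cons 0 fun k => LinearMap.proj k)
  let w : (Fin (m + 1) → R) →ₗ[R] M :=
    v ∘ₗ (LinearMap.funLeft R R Fin.succ) + (LinearMap.proj 0 : (Fin (m+1) → R) →ₗ[R] R).smulRight x
  have hwi : w ∘ₗ i = v := by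
    apply LinearMap.ext
    intro b
    have h1 : (LinearMap.funLeft R R (Fin.succ : Fin m → Fin (m+1))) (i b) = b := by
      funext k
      simp [i, LinearMap.funLeft]
    have h2 : (i b) 0 = 0 := by simp [i]
    simp only [w, LinearMap.comp_apply, LinearMap.add_apply, LinearMap.smulRight_apply,
      LinearMap.proj_apply, h1, h2, zero_smul, add_zero]
  refine ⟨⟨m + 1, w⟩, i ∘ₗ f, ?_, ?_, ?_⟩
  · change s.u = w ∘ₗ (i ∘ₗ f)
    rw [← LinearMap.comp_assoc, hwi]
    exact huv
  · refine ⟨Pi.single 0 1, ?_⟩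
    have h1 : (LinearMap.funLeft R R (Fin.succ : Fin m → Fin (m+1))) (Pi.single 0 1) = 0 := by
      funext k
      simp [LinearMap.funLeft]
    simp only [w, LinearMap.comp_apply, LinearMap.add_apply, LinearMap.smulRight_apply,
      LinearMap.proj_apply, h1, map_zero, zero_add, Pi.single_eq_same, one_smul]
  · intro κ _ f' v' h
    obtain ⟨g, hg⟩ := hmin κ f' v' h
    exact ⟨i ∘ₗ g, by rw [hg, LinearMap.comp_assoc]⟩

/-- The minimality of a factorization `u = t.u ∘ f` forces `ker u ≤ ker f` when `M` is flat. -/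
theorem ker_le_of_minimal [Module.Flat R M] {n m : ℕ} (u : (Fin n → R) →ₗ[R] M)
    (f : (Fin n → R) →ₗ[R] (Fin m → R)) (v : (Fin m → R) →ₗ[R] M) (huv : u = v ∘ₗ f)
    (hmin : ∀ (κ : Type) [Fintype κ] (f' : (Fin n → R) →ₗ[R] (κ → R)) (v' : (κ → R) →ₗ[R] M),
        u = v' ∘ₗ f' → ∃ g : (κ → R) →ₗ[R] (Fin m → R), f = g ∘ₗ f') :
    LinearMap.ker u ≤ LinearMap.ker f := by
  classical
  intro y hy
  rw [LinearMap.mem_ker] at hy ⊢
  have h0 : v (f y) = 0 := by rw [← hy, huv]; rfl
  obtain ⟨k, a, w, hw, ha⟩ := Module.Flat.exists_factorization_of_apply_eq_zero_of_free h0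
  let e : (Fin k →₀ R) ≃ₗ[R] (Fin k → R) := Finsupp.linearEquivFunOnFinite R R (Fin k)
  obtain ⟨g, hg⟩ := hmin (Fin k) (e.toLinearMap ∘ₗ a ∘ₗ f) (w ∘ₗ e.symm.toLinearMap) (by
    rw [huv, hw]
    apply LinearMap.ext
    intro x
    simp [LinearMap.comp_apply])
  rw [hg]
  simp [LinearMap.comp_apply, ha]

/-- **Flat + Mittag-Leffler + countably generated ⟹ projective.** -/
theorem projective_of_flat_of_isMittagLeffler [Module.Flat R M] (hML : CAlg.IsMittagLeffler R M)
    (hc : CAlg.IsCountablyGenerated R M) : Module.Projective R M := by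
  classical
  obtain ⟨s, hs, hspan⟩ := hc
  -- an enumeration of generators
  obtain ⟨x, hx⟩ : ∃ x : ℕ → M, s ⊆ Set.range x := by
    rcases s.eq_empty_or_nonempty with rfl | hne
    · exact ⟨fun _ => 0, Set.empty_subset _⟩
    · obtain ⟨x, rfl⟩ := hs.exists_eq_range hne
      exact ⟨x, subset_rfl⟩
  choose next F hF1 hF2 hF3 using fun (s : Stage R M) (x : M) => exists_step hML s x
  let S : ℕ → Stage R M := fun n => Nat.rec ⟨0, 0⟩ (fun k t => next t (x k)) n
  let f : ∀ n, (Fin (S n).n → R) →ₗ[R] (Fin (S (n + 1)).n → R) := fun n => F (S n) (x n)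
  have hu : ∀ n, (S n).u = (S (n + 1)).u ∘ₗ f n := fun n => hF1 (S n) (x n)
  have hxn : ∀ n, x n ∈ LinearMap.range (S (n + 1)).u := fun n => hF2 (S n) (x n)
  have hmin : ∀ n (κ : Type) [Fintype κ] (f' : (Fin (S n).n → R) →ₗ[R] (κ → R))
      (v' : (κ → R) →ₗ[R] M), (S n).u = v' ∘ₗ f' →
      ∃ g : (κ → R) →ₗ[R] (Fin (S (n + 1)).n → R), f n = g ∘ₗ f' := fun n => hF3 (S n) (x n)
  have hker : ∀ n, LinearMap.ker (S n).u ≤ LinearMap.ker (f n) := fun n =>
    ker_le_of_minimal (S n).u (f n) (S (n + 1)).u (hu n) (hmin n)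
  have hg : ∀ n, ∃ g : (Fin (S (n + 2)).n → R) →ₗ[R] (Fin (S (n + 1)).n → R),
      f n = g ∘ₗ (f (n + 1) ∘ₗ f n) := fun n =>
    hmin n (Fin (S (n + 2)).n) (f (n + 1) ∘ₗ f n) (S (n + 2)).u (by
      rw [← LinearMap.comp_assoc, ← hu (n + 1), ← hu n])
  choose g hg using hg
  apply Module.Projective.of_lifting_property''
  intro p hp
  -- lifts of the maps `(S n).u`
  have ht : ∀ n, ∃ t : (Fin (S n).n → R) →ₗ[R] (M →₀ R), p ∘ₗ t = (S n).u := fun n =>
    Module.projective_lifting_property p (S n).u hp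
  choose t ht using ht
  -- the recursive correction
  let c : ∀ n, ((Fin (S (n + 1)).n → R) →ₗ[R] (M →₀ R)) := fun n =>
    Nat.rec 0 (fun k ck => (ck - (t (k + 2) ∘ₗ f (k + 1) - t (k + 1))) ∘ₗ g k) n
  have hc1 : ∀ n, c (n + 1) = (c n - (t (n + 2) ∘ₗ f (n + 1) - t (n + 1))) ∘ₗ g n := fun n => rfl
  have hpc : ∀ n, p ∘ₗ c n = 0 := by
    intro n
    induction n with
    | zero => exact LinearMap.comp_zero _
    | succ n ih =>
      rw [hc1, ← LinearMap.comp_assoc, LinearMap.comp_sub, LinearMap.comp_sub, ih,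
        ← LinearMap.comp_assoc, ht, ht, ← hu (n + 1), sub_self, sub_zero, LinearMap.zero_comp]
  let σ : ∀ n, ((Fin (S n).n → R) →ₗ[R] (M →₀ R)) := fun n => (t (n + 1) + c n) ∘ₗ f n
  have hσ : ∀ n, σ (n + 1) ∘ₗ f n = σ n := by
    intro n
    apply LinearMap.ext
    intro y
    have h1 : g n (f (n + 1) (f n y)) = f n y := by
      conv_rhs => rw [hg n]
      rfl
    simp only [σ, hc1, LinearMap.comp_apply, LinearMap.add_apply, LinearMap.sub_apply, h1]
    abel
  have hpσ : ∀ n, p ∘ₗ σ n = (S n).u := by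
    intro n
    simp only [σ]
    rw [← LinearMap.comp_assoc, LinearMap.comp_add, hpc, add_zero, ht, ← hu n]
  have hkerσ : ∀ n y, (S n).u y = 0 → σ n y = 0 := by
    intro n y hy
    have : f n y = 0 := hker n hy
    simp only [σ, LinearMap.comp_apply, this, map_zero]
  -- glue along the graph
  let G : ℕ → Submodule R (M × (M →₀ R)) := fun n => LinearMap.range ((S n).u.prod (σ n))
  have hGmono : Monotone G := by
    apply monotone_nat_of_le_succ
    intro n
    rintro _ ⟨y, rfl⟩
    refine ⟨f n y, ?_⟩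
    have h1 : (S (n + 1)).u (f n y) = (S n).u y := by rw [hu n]; rfl
    have h2 : σ (n + 1) (f n y) = σ n y := by rw [← hσ n]; rfl
    simp [LinearMap.prod_apply, h1, h2]
  have hmemG : ∀ z : M × (M →₀ R), z ∈ (⨆ n, G n) ↔ ∃ n, z ∈ G n := fun z =>
    Submodule.mem_iSup_of_directed G hGmono.directed_le
  let GG : Submodule R (M × (M →₀ R)) := ⨆ n, G n
  let q : GG →ₗ[R] M := LinearMap.fst R M (M →₀ R) ∘ₗ GG.subtype
  have hqinj : Function.Injective q := by
    rw [injective_iff_map_eq_zero]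
    rintro ⟨z, hz⟩ h0
    obtain ⟨n, y, rfl⟩ := (hmemG z).1 hz
    have h1 : (S n).u y = 0 := h0
    have h2 := hkerσ n y h1
    ext1
    simp [LinearMap.prod_apply, h1, h2]
  have hqsurj : Function.Surjective q := by
    rw [← LinearMap.range_eq_top, eq_top_iff, ← hspan, Submodule.span_le]
    intro m hm
    obtain ⟨n, rfl⟩ := hx hm
    obtain ⟨y, hy⟩ := hxn n
    refine ⟨⟨((S (n+1)).u.prod (σ (n+1))) y, (hmemG _).2 ⟨n + 1, y, rfl⟩⟩, ?_⟩
    exact hy
  let e : GG ≃ₗ[R] M := LinearEquiv.ofBijective q ⟨hqinj, hqsurj⟩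
  refine ⟨LinearMap.snd R M (M →₀ R) ∘ₗ GG.subtype ∘ₗ e.symm.toLinearMap, ?_⟩
  apply LinearMap.ext
  intro m
  obtain ⟨⟨z, hz⟩, rfl⟩ := e.surjective m
  obtain ⟨n, y, rfl⟩ := (hmemG z).1 hz
  have h1 : p (σ n y) = (S n).u y := by rw [← hpσ n]; rfl
  simp only [LinearMap.comp_apply, LinearEquiv.coe_coe, LinearEquiv.symm_apply_apply,
    Submodule.subtype_apply, LinearMap.snd_apply, LinearMap.id_apply]
  exact h1

end Groth.Agent.FlatB.MLProj
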