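import Groth.Agent.Flat2D.ConstrNoeth
import Mathlib.AlgebraicGeometry.Noetherian
import Mathlib.AlgebraicGeometry.Morphisms.FinitePresentation
import Mathlib.RingTheory.Extension.Presentation.Core
import Mathlib.AlgebraicGeometry.Pullbacks

/-!
# Constructibility of fibrewise invariants of affine morphisms of finite presentation

Same as `Groth.Agent.Flat2D.ConstrBC`, but only for affine source and target (so that no limit theorem on schemes is needed).
-/

set_option autoImplicit false

universe u v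

open CategoryTheory Limits AlgebraicGeometry Topology TensorProduct

namespace Groth.Agent.FlatB.ConstrAffine

open Groth.Agent.Flat2D.ConstrNoeth

/-- A finitely presented algebra is defined over a finitely generated ring. -/
theorem exists_model (A B : Type u) [CommRing A] [CommRing B] [Algebra A B] [Algebra.FinitePresentation A B] :
    ∃ (A₀ B₀ : Type u) (_ : CommRing A₀) (_ : CommRing B₀) (_ : Algebra A₀ B₀) (_ : Algebra A₀ A),
      Algebra.FiniteType ℤ A₀ ∧ Algebra.FinitePresentation A₀ B₀ ∧ Nonempty (A ⊗[A₀] B₀ ≃ₐ[A] B) := by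
  let P := Algebra.Presentation.ofFinitePresentation A B
  exact ⟨P.Core, P.ModelOfHasCoeffs P.Core, inferInstance, inferInstance, inferInstance, inferInstance,
    inferInstance, inferInstance, ⟨P.tensorModelOfHasCoeffsEquiv P.Core⟩⟩

/-- An affine morphism of finite presentation is a base change of a finite type morphism of affine
Noetherian schemes. -/
theorem exists_noetherian_model {X Y : Scheme.{u}} (f : X ⟶ Y) [IsAffine X] [IsAffine Y]
    [LocallyOfFinitePresentation f] :
    ∃ (X₀ Y₀ : Scheme.{u}) (f₀ : X₀ ⟶ Y₀) (g' : X ⟶ X₀) (g : Y ⟶ Y₀),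
      IsNoetherian Y₀ ∧ IsAffine Y₀ ∧ IsAffine X₀ ∧ LocallyOfFinitePresentation f₀ ∧ IsPullback g' f f₀ g := by
  obtain ⟨φ, hφ⟩ := Spec.map_surjective (X.isoSpec.inv ≫ f ≫ Y.isoSpec.hom)
  have hfp : φ.hom.FinitePresentation := by
    rw [← HasRingHomProperty.Spec_iff (P := @LocallyOfFinitePresentation), hφ]
    infer_instance
  algebraize [φ.hom]
  obtain ⟨A₀, B₀, _, _, _, _, h1, h2, ⟨e⟩⟩ := exists_model Γ(Y, ⊤) Γ(X, ⊤)
  have hA₀ : IsNoetherianRing A₀ := Algebra.FiniteType.isNoetherianRing ℤ A₀
  have hN : IsNoetherian (Spec (CommRingCat.of A₀)) := inferInstance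
  refine ⟨Spec (CommRingCat.of B₀), Spec (CommRingCat.of A₀), Spec.map (CommRingCat.ofHom (algebraMap A₀ B₀)),
    X.isoSpec.hom ≫ Spec.map (CommRingCat.ofHom (e.toRingHom.comp
      (Algebra.TensorProduct.includeRight : B₀ →ₐ[A₀] Γ(Y, ⊤) ⊗[A₀] B₀).toRingHom)),
    Y.isoSpec.hom ≫ Spec.map (CommRingCat.ofHom (algebraMap A₀ Γ(Y, ⊤))), hN, inferInstance, inferInstance, ?_, ?_⟩
  · rw [HasRingHomProperty.Spec_iff (P := @LocallyOfFinitePresentation), CommRingCat.hom_ofHom,
      RingHom.finitePresentation_algebraMap]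
    exact h2
  · have hpo : IsPushout (CommRingCat.ofHom (algebraMap A₀ Γ(Y, ⊤))) (CommRingCat.ofHom (algebraMap A₀ B₀))
        φ (CommRingCat.ofHom (e.toRingHom.comp
      (Algebra.TensorProduct.includeRight : B₀ →ₐ[A₀] Γ(Y, ⊤) ⊗[A₀] B₀).toRingHom)) :=
      (CommRingCat.isPushout_tensorProduct A₀ Γ(Y, ⊤) B₀).of_iso (Iso.refl _) (Iso.refl _) (Iso.refl _)
        e.toRingEquiv.toCommRingCatIso (by simp) (by simp)
        (by ext x; exact e.commutes x) (by ext x; simp)
    have hpb := isPullback_SpecMap_of_isPushout _ _ _ _ hpo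
    have hsq : IsPullback X.isoSpec.hom f (Spec.map φ) Y.isoSpec.hom := by
      refine IsPullback.of_horiz_isIso ⟨?_⟩
      rw [hφ]; simp
    exact hsq.paste_horiz hpb.flip

variable {α : Type v} (N : ∀ {X Y : Scheme.{u}} (_ : X ⟶ Y), Y → α)

/-- A fibrewise invariant (of morphisms of affine schemes of finite presentation) which is compatible with base
change, and constant near every point of a Noetherian affine base (within the closure of the point) has finitely many
values and constructible level sets, for all morphisms of finite presentation between affine schemes. -/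
theorem finConstr_of_isAffine
    (hbc : ∀ {X Y X' Y' : Scheme.{u}} (f : X ⟶ Y) (f' : X' ⟶ Y') (g' : X' ⟶ X) (g : Y' ⟶ Y),
      IsPullback g' f' f g → ∀ y' : Y', N f' y' = N f (g y'))
    (hgen : ∀ {X Y : Scheme.{u}} (f : X ⟶ Y) [IsNoetherian Y] [IsAffine Y] [IsAffine X] [LocallyOfFinitePresentation f]
      (y : Y), ∃ V : Set ↑Y, V ⊆ closure {y} ∧ y ∈ V ∧ IsOpen (Subtype.val ⁻¹' V : Set ↑(closure ({y} : Set ↑Y))) ∧
        ∀ y' ∈ V, N f y' = N f y)
    {X Y : Scheme.{u}} (f : X ⟶ Y) [IsAffine X] [IsAffine Y] [LocallyOfFinitePresentation f] : FinConstr (N f) := by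
  obtain ⟨X₀, Y₀, f₀, g', g, hN, hA, hA', h1, hpb⟩ := exists_noetherian_model f
  have h0 : FinConstr (N f₀) := finConstr_of_noetherian (N f₀) (fun y => hgen f₀ y)
  have h4 : FinConstr (fun y => N f₀ (g y)) :=
    h0.preimage_of_isSpectralMap (f := g) (g.isSpectralMap)
  have h5 : N f = fun y => N f₀ (g y) := by
    funext y
    exact hbc f₀ f g' g hpb y
  rw [h5]
  exact h4

end Groth.Agent.FlatB.ConstrAffine
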