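import Mathlib.RingTheory.AdicCompletion.Basic
import Mathlib.RingTheory.Flat.EquationalCriterion
import Mathlib.RingTheory.LocalRing.Module
import Mathlib.LinearAlgebra.TensorProduct.Finiteness
import Groth.Agent.S0448

/-!
# Content ideals over complete local rings

Let `A` be a complete local ring and `M` a flat `A`-module such that `Q ⊗ M` is separated for
every finite `A`-module `Q`. Then every element `x : R ⊗[A] M` (`R` any `A`-algebra) has a finitely
generated content ideal, i.e. a smallest ideal `c` with `x ∈ c (R ⊗ M)`. Consequently, if `R` is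
local and `v : R ⊗ M → N` is `R`-linear with `N` flat over `R` and `v` injective modulo the maximal
ideal, then `v` is injective.
-/

set_option autoImplicit false
universe u

namespace Groth.Agent.FlatB.Content

open TensorProduct IsLocalRing

/-! ### Lifting a basis of the reduction -/

section Basis

variable (A M : Type u) [CommRing A] [IsLocalRing A] [AddCommGroup M] [Module A M]

theorem exists_basis_mod :
    ∃ (ι : Type u) (v : ι → M),
      Function.Injective
        ((Finsupp.linearCombination A v).lTensor (ResidueField A)) ∧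
      ∀ x : M, ∃ y : ι →₀ A,
        x - Finsupp.linearCombination A v y ∈ maximalIdeal A • (⊤ : Submodule A M) := by
  classical
  let w := Module.Free.chooseBasis (ResidueField A) (ResidueField A ⊗[A] M)
  have hsurj : Function.Surjective (TensorProduct.mk A (ResidueField A) M 1) :=
    TensorProduct.mk_surjective A M (ResidueField A) Ideal.Quotient.mk_surjective
  have ⟨v, eq⟩ := hsurj.comp_left w
  have eq' : ∀ i, (1 : ResidueField A) ⊗ₜ[A] v i = w i := fun i => congrFun eq i
  refine ⟨_, v, ?_, ?_⟩
  · -- injectivity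
    rw [injective_iff_map_eq_zero]
    intro z hz
    obtain ⟨f, rfl⟩ := (TensorProduct.finsuppScalarRight A A (ResidueField A) _).symm.surjective z
    have hf : (TensorProduct.finsuppScalarRight A A (ResidueField A) _).symm f =
        f.sum fun i a => a ⊗ₜ[A] Finsupp.single i (1 : A) := by
      rw [LinearEquiv.symm_apply_eq, Finsupp.sum, map_sum]
      simp only [TensorProduct.finsuppScalarRight_apply_tmul]
      have : ∀ i, ((Finsupp.single i (1 : A)).sum fun i n =>
          Finsupp.single i (n • f i)) = Finsupp.single i (f i) := by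
        intro i
        rw [Finsupp.sum_single_index (by simp), one_smul]
      conv_lhs => rw [← Finsupp.sum_single f]
      rw [Finsupp.sum]
      refine Finset.sum_congr rfl fun i _ => ?_
      rw [Finsupp.sum_single_index (by simp), one_smul]
    rw [hf] at hz ⊢
    rw [Finsupp.sum, map_sum] at hz
    have h0 : Finsupp.linearCombination (ResidueField A) w f = 0 := by
      rw [Finsupp.linearCombination_apply, Finsupp.sum, ← hz]
      refine Finset.sum_congr rfl fun i _ => ?_
      rw [LinearMap.lTensor_tmul, Finsupp.linearCombination_single, one_smul, ← eq' i,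
        TensorProduct.smul_tmul', smul_eq_mul, mul_one]
    have : f = 0 := by
      have := w.linearIndependent
      rw [linearIndependent_iff] at this
      exact this f h0
    rw [this]
    simp
  · intro x
    obtain ⟨f, hf⟩ : ∃ f, Finsupp.linearCombination (ResidueField A) w f = 1 ⊗ₜ[A] x :=
      ⟨w.repr (1 ⊗ₜ[A] x), w.linearCombination_repr _⟩
    obtain ⟨g, hg⟩ : ∃ g : _ →₀ A, g.mapRange (residue A) (map_zero _) = f :=
      Finsupp.mapRange_surjective _ (map_zero _) residue_surjective f
    refine ⟨g, ?_⟩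
    have h1 : (1 : ResidueField A) ⊗ₜ[A] (x - Finsupp.linearCombination A v g) = 0 := by
      rw [TensorProduct.tmul_sub, ← hf, ← hg, sub_eq_zero, Finsupp.linearCombination_apply,
        Finsupp.linearCombination_apply, Finsupp.sum_mapRange_index (by simp), Finsupp.sum,
        Finsupp.sum, TensorProduct.tmul_sum]
      refine Finset.sum_congr rfl fun i _ => ?_
      rw [← eq' i, TensorProduct.tmul_smul, ← algebraMap_smul (ResidueField A) (g i)]
      rfl
    have h2 : (Ideal.Quotient.mk (maximalIdeal A) 1) ⊗ₜ[A] (x - Finsupp.linearCombination A v g)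
        = (0 : (A ⧸ maximalIdeal A) ⊗[A] M) := h1
    have h3 := congrArg (TensorProduct.quotTensorEquivQuotSMul M (maximalIdeal A)) h2
    rw [TensorProduct.quotTensorEquivQuotSMul_mk_tmul, map_zero, one_smul] at h3
    exact (Submodule.Quotient.mk_eq_zero _).mp h3

end Basis

section Complete

variable {A M : Type u} [CommRing A] [IsLocalRing A] [AddCommGroup M] [Module A M]

theorem exists_sub_mem_pow {ι : Type u} (φ : (ι →₀ A) →ₗ[A] M)
    (h : ∀ x : M, ∃ y : ι →₀ A, x - φ y ∈ maximalIdeal A • (⊤ : Submodule A M)) (n : ℕ) (x : M) :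
    ∃ y : ι →₀ A, x - φ y ∈ maximalIdeal A ^ n • (⊤ : Submodule A M) := by
  have key : ∀ n : ℕ, (⊤ : Submodule A M) ≤
      LinearMap.range φ ⊔ maximalIdeal A ^ n • (⊤ : Submodule A M) := by
    intro n
    induction n with
    | zero => simp
    | succ n ih =>
      refine ih.trans (sup_le le_sup_left ?_)
      have h1 : (⊤ : Submodule A M) ≤ LinearMap.range φ ⊔ maximalIdeal A • ⊤ := by
        intro x _
        obtain ⟨y, hy⟩ := h x
        rw [← add_sub_cancel (φ y) x]
        exact Submodule.add_mem_sup (LinearMap.mem_range_self _ _) hy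
      calc maximalIdeal A ^ n • (⊤ : Submodule A M)
          ≤ maximalIdeal A ^ n • (LinearMap.range φ ⊔ maximalIdeal A • ⊤) :=
            Submodule.smul_mono le_rfl h1
        _ = maximalIdeal A ^ n • LinearMap.range φ ⊔ maximalIdeal A ^ n • maximalIdeal A • ⊤ :=
            Submodule.smul_sup _ _ _
        _ ≤ _ := by
            refine sup_le_sup Submodule.smul_le_right (le_of_eq ?_)
            rw [← Submodule.mul_smul, ← pow_succ]
  obtain ⟨_, ⟨y, rfl⟩, z, hz, hx⟩ := Submodule.mem_sup.mp (key n (Submodule.mem_top (x := x)))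
  exact ⟨y, by rwa [← hx, add_sub_cancel_left]⟩

theorem mem_pow_of_apply_mem [Module.Flat A M] {ι : Type u} (φ : (ι →₀ A) →ₗ[A] M)
    (h : Function.Injective (φ.lTensor (ResidueField A))) (J : Ideal A) (y : ι →₀ A)
    (hy : φ y ∈ J • (⊤ : Submodule A M)) : y ∈ J • (⊤ : Submodule A (ι →₀ A)) := by
  have h1 := Groth.Agent.S0448.result φ h (A ⧸ J)
  rw [← LinearMap.lTensor_inj_iff_rTensor_inj, injective_iff_map_eq_zero] at h1
  have h2 := h1 ((1 : A ⧸ J) ⊗ₜ y) (by
    rw [LinearMap.lTensor_tmul]
    apply (TensorProduct.quotTensorEquivQuotSMul M J).injective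
    have := TensorProduct.quotTensorEquivQuotSMul_mk_tmul (M := M) J 1 (φ y)
    rw [map_one] at this
    rw [this, map_zero, one_smul]
    exact (Submodule.Quotient.mk_eq_zero _).mpr hy)
  have h3 := congrArg (TensorProduct.quotTensorEquivQuotSMul (ι →₀ A) J) h2
  have := TensorProduct.quotTensorEquivQuotSMul_mk_tmul (M := ι →₀ A) J 1 y
  rw [map_one] at this
  rw [this, map_zero, one_smul] at h3
  exact (Submodule.Quotient.mk_eq_zero _).mp h3

/-- Linear functionals on the free module extend to `M`. -/
theorem exists_extend [IsAdicComplete (maximalIdeal A) A] [Module.Flat A M] {ι : Type u}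
    (φ : (ι →₀ A) →ₗ[A] M) (hi : Function.Injective (φ.lTensor (ResidueField A)))
    (h : ∀ x : M, ∃ y : ι →₀ A, x - φ y ∈ maximalIdeal A • (⊤ : Submodule A M))
    (g : (ι →₀ A) →ₗ[A] A) : ∃ c : M →ₗ[A] A, c ∘ₗ φ = g := by
  set m := maximalIdeal A with hm
  let ψ : ∀ n : ℕ, (ι →₀ A) →ₗ[A] (M ⧸ (m ^ n • ⊤ : Submodule A M)) :=
    fun n => Submodule.mkQ _ ∘ₗ φ
  have hψ : ∀ n, Function.Surjective (ψ n) := by
    intro n x
    obtain ⟨x, rfl⟩ := Submodule.Quotient.mk_surjective _ x
    obtain ⟨y, hy⟩ := exists_sub_mem_pow φ h n x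
    refine ⟨y, ?_⟩
    exact ((Submodule.Quotient.eq _).mpr hy).symm
  have hker : ∀ n, LinearMap.ker (ψ n) ≤
      LinearMap.ker (Submodule.mkQ (m ^ n • ⊤ : Submodule A A) ∘ₗ g) := by
    intro n y hy
    rw [LinearMap.mem_ker, LinearMap.comp_apply, Submodule.mkQ_apply,
      Submodule.Quotient.mk_eq_zero] at hy ⊢
    have := mem_pow_of_apply_mem φ hi (m ^ n) y hy
    have h2 : g y ∈ (m ^ n • (⊤ : Submodule A (ι →₀ A))).map g := ⟨y, this, rfl⟩
    rw [Submodule.map_smul''] at h2
    exact Submodule.smul_mono le_rfl le_top h2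
  let c : ∀ n : ℕ, M →ₗ[A] (A ⧸ (m ^ n • ⊤ : Submodule A A)) := fun n =>
    ((LinearMap.ker (ψ n)).liftQ _ (hker n)) ∘ₗ
      ((ψ n).quotKerEquivOfSurjective (hψ n)).symm.toLinearMap ∘ₗ Submodule.mkQ _
  have hc : ∀ n x y, x - φ y ∈ (m ^ n • ⊤ : Submodule A M) →
      c n x = Submodule.Quotient.mk (g y) := by
    intro n x y hxy
    have h1 : ((ψ n).quotKerEquivOfSurjective (hψ n)).symm (Submodule.Quotient.mk x) =
        Submodule.Quotient.mk y := by
      rw [LinearEquiv.symm_apply_eq]
      exact (Submodule.Quotient.eq _).mpr hxy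
    simp only [c, LinearMap.comp_apply, Submodule.mkQ_apply, LinearEquiv.coe_coe, h1]
    rfl
  have hcomp : ∀ {k n : ℕ} (hle : k ≤ n), Submodule.factorPow m A hle ∘ₗ c n = c k := by
    intro k n hle
    ext x
    obtain ⟨y, hy⟩ := exists_sub_mem_pow φ h n x
    rw [LinearMap.comp_apply, hc n x y hy, hc k x y
      (Submodule.smul_mono_left (Ideal.pow_le_pow_right hle) hy)]
    rfl
  refine ⟨IsAdicComplete.lift m c hcomp, ?_⟩
  refine LinearMap.ext fun y => ?_
  rw [← sub_eq_zero]
  refine IsHausdorff.haus (I := m) inferInstance _ fun n => ?_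
  rw [SModEq.zero, ← Submodule.Quotient.mk_eq_zero, Submodule.Quotient.mk_sub, sub_eq_zero]
  rw [LinearMap.comp_apply, IsAdicComplete.mk_lift, hc n (φ y) y (by simp)]

/-- Key vanishing criterion: an element of `Q ⊗ M` killed by all functionals of `M` is zero. -/
theorem eq_zero_of_forall_functional [IsAdicComplete (maximalIdeal A) A] [Module.Flat A M]
    (H : ∀ (Q : Type u) [AddCommGroup Q] [Module A Q], Module.Finite A Q →
      IsHausdorff (maximalIdeal A) (Q ⊗[A] M))
    (Q : Type u) [AddCommGroup Q] [Module A Q] (x : Q ⊗[A] M)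
    (hx : ∀ f : M →ₗ[A] A, TensorProduct.rid A Q (f.lTensor Q x) = 0) : x = 0 := by
  classical
  obtain ⟨Q', hQ', hx'⟩ :=
    TensorProduct.exists_finite_submodule_left_of_setFinite {x} (Set.finite_singleton x)
  obtain ⟨x', rfl⟩ := hx' rfl
  suffices hs : x' = 0 by rw [hs, map_zero]
  have hx0 : ∀ f : M →ₗ[A] A, TensorProduct.rid A Q' (f.lTensor Q' x') = 0 := by
    intro f
    apply Subtype.val_injective
    rw [← Submodule.subtype_apply, ← Submodule.subtype_apply, map_zero]
    have h1 := hx f
    have h2 : ∀ z : Q' ⊗[A] M, TensorProduct.rid A Q (f.lTensor Q (Q'.subtype.rTensor M z)) =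
        Q'.subtype (TensorProduct.rid A Q' (f.lTensor Q' z)) := by
      intro z
      induction z with
      | zero => simp
      | tmul a b => simp
      | add a b ha hb => simp only [map_add, ha, hb]
    rw [← h2]
    exact h1
  clear hx hx'
  have hH := H Q' hQ'
  refine hH.haus _ fun n => ?_
  rw [SModEq.zero]
  obtain ⟨ι, v, hi, h⟩ := exists_basis_mod A M
  set φ := Finsupp.linearCombination A v with hφ
  set m := maximalIdeal A with hm
  -- reduction modulo `m ^ n`
  let π : Q' →ₗ[A] (Q' ⧸ (m ^ n • ⊤ : Submodule A Q')) := Submodule.mkQ _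
  have hsurj : Function.Surjective (φ.lTensor (Q' ⧸ (m ^ n • ⊤ : Submodule A Q'))) := by
    intro z
    induction z with
    | zero => exact ⟨0, map_zero _⟩
    | add a b ha hb =>
      obtain ⟨a', rfl⟩ := ha
      obtain ⟨b', rfl⟩ := hb
      exact ⟨a' + b', map_add _ _ _⟩
    | tmul q x =>
      obtain ⟨y, hy⟩ := exists_sub_mem_pow φ h n x
      refine ⟨q ⊗ₜ y, ?_⟩
      rw [LinearMap.lTensor_tmul, eq_comm, ← sub_eq_zero, ← TensorProduct.tmul_sub]
      have h0 : ∀ z ∈ (m ^ n • ⊤ : Submodule A M), q ⊗ₜ[A] z = 0 := by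
        intro z hz
        refine Submodule.smul_induction_on hz ?_ ?_
        · intro r hr w _
          rw [← TensorProduct.smul_tmul]
          have : r • q = 0 := by
            obtain ⟨q, rfl⟩ := Submodule.Quotient.mk_surjective _ q
            rw [← Submodule.Quotient.mk_smul, Submodule.Quotient.mk_eq_zero]
            exact Submodule.smul_mem_smul hr Submodule.mem_top
          rw [this, TensorProduct.zero_tmul]
        · intro z w hz hw
          rw [TensorProduct.tmul_add, hz, hw, add_zero]
      exact h0 _ hy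
  obtain ⟨y, hy⟩ := hsurj (π.rTensor M x')
  have hy0 : y = 0 := by
    apply (TensorProduct.finsuppScalarRight A A _ ι).injective
    rw [map_zero]
    ext i
    obtain ⟨c, hc⟩ := exists_extend φ hi h (Finsupp.lapply i)
    have h1 : ∀ z : (Q' ⧸ (m ^ n • ⊤ : Submodule A Q')) ⊗[A] (ι →₀ A),
        TensorProduct.finsuppScalarRight A A _ ι z i =
          TensorProduct.rid A _ ((Finsupp.lapply (R := A) i).lTensor _ z) := by
      intro z
      induction z with
      | zero => simp
      | add a b ha hb => simp only [map_add, Finsupp.add_apply, ha, hb]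
      | tmul q f => simp [TensorProduct.finsuppScalarRight_apply_tmul_apply]
    have h2 : ∀ z : Q' ⊗[A] M, TensorProduct.rid A _ (c.lTensor _ (π.rTensor M z)) =
        π (TensorProduct.rid A Q' (c.lTensor Q' z)) := by
      intro z
      induction z with
      | zero => simp
      | tmul a b => simp
      | add a b ha hb => simp only [map_add, ha, hb]
    rw [h1, ← hc, LinearMap.lTensor_comp, LinearMap.comp_apply, hy, h2, hx0 c, map_zero]
    rfl
  rw [hy0, map_zero] at hy
  -- hence `x'` lies in `m ^ n (Q' ⊗ M)`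
  have hex : Function.Exact (((m ^ n • ⊤ : Submodule A Q').subtype).rTensor M) (π.rTensor M) :=
    rTensor_exact M (fun x => by
      simp [π]) (Submodule.mkQ_surjective _)
  obtain ⟨z, rfl⟩ := (hex x').mp hy.symm
  clear hy hy0 hx0 hex
  induction z with
  | zero => rw [map_zero]; exact zero_mem _
  | add a b ha hb => rw [map_add]; exact add_mem ha hb
  | tmul q x =>
    rw [LinearMap.rTensor_tmul]
    obtain ⟨q, hq⟩ := q
    change q ⊗ₜ[A] x ∈ _
    refine Submodule.smul_induction_on hq ?_ ?_
    · intro r hr w _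
      rw [← TensorProduct.smul_tmul']
      exact Submodule.smul_mem_smul hr Submodule.mem_top
    · intro z w hz hw
      rw [TensorProduct.add_tmul]
      exact add_mem hz hw

/-- **Content ideals.** Every element of `R ⊗[A] M` has a finitely generated content ideal. -/
theorem exists_content [IsAdicComplete (maximalIdeal A) A] [Module.Flat A M]
    (H : ∀ (Q : Type u) [AddCommGroup Q] [Module A Q], Module.Finite A Q →
      IsHausdorff (maximalIdeal A) (Q ⊗[A] M))
    (R : Type u) [CommRing R] [Algebra A R] (x : R ⊗[A] M) :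
    ∃ c : Ideal R, c.FG ∧ x ∈ c • (⊤ : Submodule R (R ⊗[A] M)) ∧
      ∀ J : Ideal R, x ∈ J • (⊤ : Submodule R (R ⊗[A] M)) → c ≤ J := by
  classical
  let ev : (M →ₗ[A] A) → (R ⊗[A] M →ₗ[R] R) := fun f =>
    (Algebra.TensorProduct.rid A R R).toLinearMap ∘ₗ f.baseChange R
  have hev : ∀ f (z : R ⊗[A] M), ev f z = TensorProduct.rid A R (f.lTensor R z) := by
    intro f z
    induction z with
    | zero => simp
    | tmul a b => simp [ev]
    | add a b ha hb => simp only [map_add, ha, hb]
  let c : Ideal R := Ideal.span (Set.range fun f => ev f x)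
  have hmin : ∀ J : Ideal R, x ∈ J • (⊤ : Submodule R (R ⊗[A] M)) → c ≤ J := by
    intro J hJ
    rw [Ideal.span_le]
    rintro _ ⟨f, rfl⟩
    have h2 : ev f x ∈ (J • (⊤ : Submodule R (R ⊗[A] M))).map (ev f) := ⟨x, hJ, rfl⟩
    rw [Submodule.map_smul''] at h2
    have h3 : ev f x ∈ (J • ⊤ : Submodule R R) := Submodule.smul_mono le_rfl le_top h2
    simpa using h3
  have hx : x ∈ c • (⊤ : Submodule R (R ⊗[A] M)) := by
    have h0 : (Ideal.Quotient.mkₐ A c).toLinearMap.rTensor M x = 0 := by
      refine eq_zero_of_forall_functional H (R ⧸ c) _ fun f => ?_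
      have h2 : ∀ z : R ⊗[A] M,
          TensorProduct.rid A (R ⧸ c) (f.lTensor _ ((Ideal.Quotient.mkₐ A c).toLinearMap.rTensor M z)) =
          Ideal.Quotient.mk c (TensorProduct.rid A R (f.lTensor R z)) := by
        intro z
        induction z with
        | zero => simp
        | tmul a b => simp [Algebra.smul_def]
        | add a b ha hb => simp only [map_add, ha, hb]
      rw [h2, ← hev, Ideal.Quotient.eq_zero_iff_mem]
      exact Ideal.subset_span ⟨f, rfl⟩
    have hex : Function.Exact (((c.restrictScalars A).subtype).rTensor M)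
        ((Ideal.Quotient.mkₐ A c).toLinearMap.rTensor M) :=
      rTensor_exact M (fun x => by
        simp [Ideal.Quotient.eq_zero_iff_mem]) (Ideal.Quotient.mkₐ_surjective A c)
    obtain ⟨z, hz⟩ := (hex x).mp h0
    have : ∀ z : (c.restrictScalars A) ⊗[A] M, ((c.restrictScalars A).subtype).rTensor M z ∈
        c • (⊤ : Submodule R (R ⊗[A] M)) := by
      intro z
      induction z with
      | zero => rw [map_zero]; exact zero_mem _
      | add a b ha hb => rw [map_add]; exact add_mem ha hb
      | tmul r x =>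
        rw [LinearMap.rTensor_tmul]
        have : (Submodule.subtype (Submodule.restrictScalars A c)) r ⊗ₜ[A] x =
            (r : R) • ((1 : R) ⊗ₜ[A] x) := by
          rw [TensorProduct.smul_tmul', smul_eq_mul, mul_one]
          rfl
        rw [this]
        exact Submodule.smul_mem_smul r.2 Submodule.mem_top
    have h5 := this z
    rwa [hz] at h5
  refine ⟨c, ?_, hx, hmin⟩
  -- finite generation is automatic
  obtain ⟨c', hc'fg, hc', hxc'⟩ : ∃ c' : Ideal R, c'.FG ∧ c' ≤ c ∧
      x ∈ c' • (⊤ : Submodule R (R ⊗[A] M)) := by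
    clear_value c
    refine Submodule.smul_induction_on (p := fun x => ∃ c' : Ideal R, c'.FG ∧ c' ≤ c ∧
      x ∈ c' • (⊤ : Submodule R (R ⊗[A] M))) hx ?_ ?_
    · intro r hr w _
      exact ⟨Ideal.span {r}, ⟨{r}, by simp⟩, by rwa [Ideal.span_singleton_le_iff_mem],
        Submodule.smul_mem_smul (Ideal.mem_span_singleton_self r) Submodule.mem_top⟩
    · rintro a b ⟨ca, hca1, hca2, hca3⟩ ⟨cb, hcb1, hcb2, hcb3⟩
      refine ⟨ca ⊔ cb, Submodule.FG.sup hca1 hcb1, sup_le hca2 hcb2, add_mem ?_ ?_⟩
      · exact Submodule.smul_mono_left le_sup_left hca3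
      · exact Submodule.smul_mono_left le_sup_right hcb3
  exact (le_antisymm hc' (hmin _ hxc')) ▸ hc'fg

end Complete

/-! ### Nakayama's lemma with contents -/

section Nakayama

variable {R P N : Type u} [CommRing R] [IsLocalRing R] [AddCommGroup P] [Module R P]
  [AddCommGroup N] [Module R N]

/-- If `v : P → N` is injective modulo the maximal ideal and `N` is flat, then an element of
`C P` killed by `v` lies in `m C P`. -/
theorem mem_maximalIdeal_mul_smul [Module.Flat R N] (v : P →ₗ[R] N)
    (hv : ∀ y : P, v y ∈ maximalIdeal R • (⊤ : Submodule R N) →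
      y ∈ maximalIdeal R • (⊤ : Submodule R P))
    (C : Ideal R) (x : P) (hx : x ∈ C • (⊤ : Submodule R P)) (hvx : v x = 0) :
    x ∈ (maximalIdeal R * C) • (⊤ : Submodule R P) := by
  classical
  have hex : ∃ k : ℕ, ∃ (c : Fin k → R) (y : Fin k → P), (∀ i, c i ∈ C) ∧
      x = ∑ i, c i • y i := by
    refine Submodule.smul_induction_on (p := fun x => ∃ k : ℕ, ∃ (c : Fin k → R) (y : Fin k → P),
      (∀ i, c i ∈ C) ∧ x = ∑ i, c i • y i) hx ?_ ?_
    · intro r hr w _
      exact ⟨1, fun _ => r, fun _ => w, fun _ => hr, by simp⟩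
    · rintro a b ⟨k, c, y, hc, rfl⟩ ⟨k', c', y', hc', rfl⟩
      refine ⟨k + k', Fin.append c c', Fin.append y y', ?_, ?_⟩
      · intro i
        refine Fin.addCases (fun j => ?_) (fun j => ?_) i
        · rw [Fin.append_left]; exact hc j
        · rw [Fin.append_right]; exact hc' j
      · rw [Fin.sum_univ_add]
        simp only [Fin.append_left, Fin.append_right]
  obtain ⟨k, ⟨c, y, hc, hxy⟩, hmin⟩ : ∃ k : ℕ, (∃ (c : Fin k → R) (y : Fin k → P),
      (∀ i, c i ∈ C) ∧ x = ∑ i, c i • y i) ∧ ∀ k' < k, ¬ ∃ (c : Fin k' → R) (y : Fin k' → P),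
      (∀ i, c i ∈ C) ∧ x = ∑ i, c i • y i :=
    ⟨Nat.find hex, Nat.find_spec hex, fun k' hk' => Nat.find_min hex hk'⟩
  have h0 : ∑ i, c i • v (y i) = 0 := by
    rw [← hvx, hxy, map_sum]
    simp only [map_smul]
  obtain ⟨l, a, z, hz1, hz2⟩ := Module.Flat.isTrivialRelation_of_sum_smul_eq_zero h0
  replace hz1 : ∀ i, v (y i) = ∑ j, a i j • z j := hz1
  have ha : ∀ i j, a i j ∈ maximalIdeal R := by
    intro i0 j0
    by_contra hunit
    rw [mem_maximalIdeal, mem_nonunits_iff, not_not] at hunit
    obtain ⟨w, hw⟩ := hunit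
    cases k with
    | zero => exact i0.elim0
    | succ k' =>
      refine hmin k' (Nat.lt_succ_self _) ⟨fun l => c (i0.succAbove l),
        fun l => y (i0.succAbove l) - (((w⁻¹ : Rˣ) : R) * a (i0.succAbove l) j0) • y i0,
        fun l => hc _, ?_⟩
      have h1 := hz2 j0
      rw [Fin.sum_univ_succAbove _ i0, ← hw] at h1
      have h2 : c i0 = - ∑ l, c (i0.succAbove l) * (((w⁻¹ : Rˣ) : R) * a (i0.succAbove l) j0) := by
        have h3 : c i0 * (w : R) = - ∑ l, c (i0.succAbove l) * a (i0.succAbove l) j0 :=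
          eq_neg_of_add_eq_zero_left h1
        calc c i0 = (c i0 * (w : R)) * ((w⁻¹ : Rˣ) : R) := by
              rw [mul_assoc, Units.mul_inv, mul_one]
          _ = _ := by
              rw [h3, neg_mul, Finset.sum_mul]
              congr 1
              exact Finset.sum_congr rfl fun l _ => by ring
      rw [hxy, Fin.sum_univ_succAbove _ i0]
      simp only [smul_sub, Finset.sum_sub_distrib]
      conv_lhs => rw [h2, neg_smul, Finset.sum_smul]
      simp only [smul_smul]
      abel
  have hy : ∀ i, y i ∈ maximalIdeal R • (⊤ : Submodule R P) := by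
    intro i
    apply hv
    rw [hz1 i]
    exact Submodule.sum_mem _ fun j _ => Submodule.smul_mem_smul (ha i j) Submodule.mem_top
  rw [hxy, mul_comm, Submodule.mul_smul]
  exact Submodule.sum_mem _ fun i _ => Submodule.smul_mem_smul (hc i) (hy i)

/-- If elements of `P` have finitely generated content ideals, `N` is flat and `v : P → N` is
injective modulo the maximal ideal, then `v` is injective. -/
theorem injective_of_content [Module.Flat R N] (v : P →ₗ[R] N)
    (hv : ∀ y : P, v y ∈ maximalIdeal R • (⊤ : Submodule R N) →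
      y ∈ maximalIdeal R • (⊤ : Submodule R P))
    (hP : ∀ x : P, ∃ c : Ideal R, c.FG ∧ x ∈ c • (⊤ : Submodule R P) ∧
      ∀ J : Ideal R, x ∈ J • (⊤ : Submodule R P) → c ≤ J) :
    Function.Injective v := by
  rw [injective_iff_map_eq_zero]
  intro x hx
  obtain ⟨c, hfg, hxc, hmin⟩ := hP x
  have h1 := mem_maximalIdeal_mul_smul v hv c x hxc hx
  have h2 : c ≤ maximalIdeal R • c := by
    rw [smul_eq_mul]
    exact hmin _ h1
  have h3 : c = ⊥ := Submodule.eq_bot_of_le_smul_of_le_jacobson_bot _ c hfg h2
    (IsLocalRing.maximalIdeal_le_jacobson _)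
  rw [h3, Submodule.bot_smul] at hxc
  exact hxc

end Nakayama

/-- **Universal injectivity, complete case.** -/
theorem injective_of_injective_mod {A M : Type u} [CommRing A] [IsLocalRing A] [AddCommGroup M]
    [Module A M] [IsAdicComplete (maximalIdeal A) A] [Module.Flat A M]
    (H : ∀ (Q : Type u) [AddCommGroup Q] [Module A Q], Module.Finite A Q →
      IsHausdorff (maximalIdeal A) (Q ⊗[A] M))
    {R N : Type u} [CommRing R] [IsLocalRing R] [Algebra A R] [AddCommGroup N] [Module R N]
    [Module.Flat R N] (v : R ⊗[A] M →ₗ[R] N)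
    (hv : ∀ y : R ⊗[A] M, v y ∈ maximalIdeal R • (⊤ : Submodule R N) →
      y ∈ maximalIdeal R • (⊤ : Submodule R (R ⊗[A] M))) :
    Function.Injective v :=
  injective_of_content v hv (exists_content H R)

end Groth.Agent.FlatB.Content
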