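import Mathlib.RingTheory.Flat.EquationalCriterion
import Mathlib.RingTheory.Flat.Localization
import Mathlib.LinearAlgebra.TensorProduct.Quotient
import Mathlib.RingTheory.Localization.AtPrime.Basic
import Mathlib.RingTheory.Ideal.Quotient.Operations
import Mathlib.Algebra.Module.Torsion.Basic
import Mathlib.RingTheory.Localization.Integer

/-!
# Flatness of `M / 𝔭 M` over `S / 𝔭` passes to localizations over an `S`-algebra `S'`
-/

set_option autoImplicit false

universe u

namespace Groth.Agent.FlatB.FibreLoc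

open TensorProduct

section

variable {S S' B M X : Type*} [CommRing S] [CommRing S'] [Algebra S S'] [AddCommGroup M]
  [Module S M] [Module S' M] [IsScalarTower S S' M] (P : Ideal S') [P.IsPrime] [CommRing B]
  [Algebra S B] [IsLocalization.AtPrime B (P.comap (algebraMap S S'))] [AddCommGroup X]
  [Module S' X] [Module B X] [Module S X] [IsScalarTower S B X] [IsScalarTower S S' X]
  [SMulCommClass S' B X] (φ : M →ₗ[S'] X) [IsLocalizedModule P.primeCompl φ]

omit [Algebra S S'] [Algebra S B] [Module S X] [IsScalarTower S B X] [IsScalarTower S S' X]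
  [P.IsPrime] [IsLocalization.AtPrime B (P.comap (algebraMap S S'))] in
/-- `J X` is stable under `S'`. -/
theorem smul_mem_of_mem (J : Ideal B) (c : S') {x : X} (hx : x ∈ J • (⊤ : Submodule B X)) :
    c • x ∈ J • (⊤ : Submodule B X) := by
  induction hx using Submodule.smul_induction_on' with
  | smul r hr n hn =>
    rw [smul_comm]
    exact Submodule.smul_mem_smul hr trivial
  | add x hx y hy h h' => rw [smul_add]; exact Submodule.add_mem _ h h'

include φ in
/-- If `t x ∈ J X` with `t ∉ P` then `x ∈ J X`. -/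
theorem mem_of_smul_mem (J : Ideal B) (t : P.primeCompl) {x : X}
    (hx : t • x ∈ J • (⊤ : Submodule B X)) : x ∈ J • (⊤ : Submodule B X) := by
  -- first the multiplication by `t` is bijective on `X`
  have hbij : Function.Bijective (fun m : X => t • m) := by
    have := IsLocalizedModule.map_units φ t
    rw [Module.End.isUnit_iff] at this
    exact this
  generalize hy : t • x = y at hx
  induction hx using Submodule.smul_induction_on' generalizing x with
  | smul r hr n hn =>
    obtain ⟨n', hn'⟩ := hbij.2 n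
    have : x = r • n' := by
      apply hbij.1
      change t • x = t • r • n'
      rw [hy, ← hn']
      exact (smul_comm (t : S') r n').symm
    rw [this]
    exact Submodule.smul_mem_smul hr trivial
  | add y₁ hy₁ y₂ hy₂ h h' =>
    obtain ⟨x₁, hx₁⟩ := hbij.2 y₁
    obtain ⟨x₂, hx₂⟩ := hbij.2 y₂
    have : x = x₁ + x₂ := by
      apply hbij.1
      change t • x = t • (x₁ + x₂)
      rw [hy, smul_add]
      exact congrArg₂ (· + ·) hx₁.symm hx₂.symm
    rw [this]
    exact Submodule.add_mem _ (h hx₁) (h' hx₂)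

omit [IsLocalization.AtPrime B (P.comap (algebraMap S S'))] [SMulCommClass S' B X] in
/-- Elements of `M` whose image lies in `(𝔭 B) X` are in `𝔭 M` up to an element outside `P`. -/
theorem exists_smul_mem (𝔭 : Ideal S) {z : M}
    (hz : φ z ∈ (𝔭.map (algebraMap S B)) • (⊤ : Submodule B X)) :
    ∃ t : P.primeCompl, t • z ∈ 𝔭 • (⊤ : Submodule S M) := by
  have hS' : ∀ (c : S') (z : M), z ∈ 𝔭 • (⊤ : Submodule S M) → c • z ∈ 𝔭 • (⊤ : Submodule S M) := by
    intro c z hz
    induction hz using Submodule.smul_induction_on' with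
    | smul r hr n hn =>
      rw [smul_comm]
      exact Submodule.smul_mem_smul hr trivial
    | add x hx y hy h h' => rw [smul_add]; exact Submodule.add_mem _ h h'
  -- the property of `X`
  have key : ∀ x : X, x ∈ (𝔭.map (algebraMap S B)) • (⊤ : Submodule B X) →
      ∃ (t : P.primeCompl) (z : M), z ∈ 𝔭 • (⊤ : Submodule S M) ∧ t • x = φ z := by
    have hadd : ∀ x y : X, (∃ (t : P.primeCompl) (z : M), z ∈ 𝔭 • (⊤ : Submodule S M) ∧ t • x = φ z) →
        (∃ (t : P.primeCompl) (z : M), z ∈ 𝔭 • (⊤ : Submodule S M) ∧ t • y = φ z) →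
        (∃ (t : P.primeCompl) (z : M), z ∈ 𝔭 • (⊤ : Submodule S M) ∧ t • (x + y) = φ z) := by
      rintro x y ⟨t, z, hz, h⟩ ⟨t', z', hz', h'⟩
      refine ⟨t * t', t' • z + t • z', Submodule.add_mem _ (hS' _ _ hz) (hS' _ _ hz'), ?_⟩
      rw [map_add, Submonoid.smul_def t' z, Submonoid.smul_def t z', map_smul, map_smul, ← h, ← h',
        smul_add, mul_smul]
      congr 1
      · rw [smul_comm]; rfl
      · rw [mul_smul]; rfl
    have h1 : ∀ (r : B), r ∈ 𝔭.map (algebraMap S B) → ∀ n : X,
        ∃ (t : P.primeCompl) (z : M), z ∈ 𝔭 • (⊤ : Submodule S M) ∧ t • (r • n) = φ z := by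
      intro r hr
      induction hr using Submodule.span_induction with
      | mem r hr =>
        obtain ⟨π, hπ, rfl⟩ := hr
        intro n
        obtain ⟨⟨m, s⟩, hm⟩ := IsLocalizedModule.surj P.primeCompl φ n
        refine ⟨s, π • m, Submodule.smul_mem_smul hπ trivial, ?_⟩
        rw [algebraMap_smul, Submonoid.smul_def, smul_comm, ← Submonoid.smul_def, hm]
        rw [LinearMap.map_smul_of_tower]
      | zero =>
        intro n
        exact ⟨1, 0, Submodule.zero_mem _, by simp⟩
      | add r r' _ _ h h' =>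
        intro n
        rw [add_smul]
        exact hadd _ _ (h n) (h' n)
      | smul b r _ h =>
        intro n
        rw [smul_assoc, smul_comm]
        exact h (b • n)
    intro x hx
    induction hx using Submodule.smul_induction_on' with
    | smul r hr n hn => exact h1 r hr n
    | add x hx y hy h h' => exact hadd _ _ h h'
  obtain ⟨t, z', hz', h⟩ := key _ hz
  rw [Submonoid.smul_def, ← map_smul] at h
  obtain ⟨t', ht'⟩ := IsLocalizedModule.exists_of_eq (S := P.primeCompl) h
  refine ⟨t' * t, ?_⟩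
  rw [mul_smul]
  have : t' • t • z = t' • z' := ht'
  rw [this]
  exact hS' _ _ hz'

end

/-- Flatness of the fibre passes to the localization. -/
theorem flat_fibre {S S' B M X : Type*} [CommRing S] [CommRing S'] [Algebra S S'] [AddCommGroup M]
    [Module S M] [Module S' M] [IsScalarTower S S' M] (P : Ideal S') [P.IsPrime] [CommRing B]
    [Algebra S B] [IsLocalization.AtPrime B (P.comap (algebraMap S S'))] [AddCommGroup X]
    [Module S' X] [Module B X] [Module S X] [IsScalarTower S B X] [IsScalarTower S S' X]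
    [SMulCommClass S' B X] (φ : M →ₗ[S'] X) [IsLocalizedModule P.primeCompl φ]
    (𝔭 : Ideal S) (hflat : Module.Flat (S ⧸ 𝔭) ((S ⧸ 𝔭) ⊗[S] M)) :
    Module.Flat (B ⧸ 𝔭.map (algebraMap S B))
      (X ⧸ (𝔭.map (algebraMap S B)) • (⊤ : Submodule B X)) := by
  classical
  refine Module.Flat.iff_forall_isTrivialRelation.mpr fun {l f x} hfx => ?_
  choose F hF using fun i => Ideal.Quotient.mk_surjective (f i)
  choose Y hY using fun i => Submodule.Quotient.mk_surjective _ (x i)
  obtain ⟨s, hs⟩ := IsLocalization.exist_integer_multiples_of_finite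
    (P.comap (algebraMap S S')).primeCompl F
  choose b hb using hs
  -- common denominator
  have h1 : ∀ i, ∃ (t : P.primeCompl) (n : M), t • Y i = φ n := fun i => by
    obtain ⟨⟨n, t⟩, h⟩ := IsLocalizedModule.surj P.primeCompl φ (Y i)
    exact ⟨t, n, h⟩
  choose t n htn using h1
  set t₀ : P.primeCompl := ∏ i, t i with ht₀
  have h2 : ∀ i, ∃ n' : M, t₀ • Y i = φ n' := fun i => by
    refine ⟨(∏ j ∈ Finset.univ.erase i, t j) • n i, ?_⟩
    rw [ht₀, ← Finset.mul_prod_erase _ _ (Finset.mem_univ i), mul_comm, mul_smul, htn,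
      Submonoid.smul_def, Submonoid.smul_def, map_smul]
  choose n' hn' using h2
  -- the relation in `M`
  have h3 : φ (∑ i, b i • n' i) ∈ (𝔭.map (algebraMap S B)) • (⊤ : Submodule B X) := by
    have h4 : (∑ i, F i • Y i) ∈ (𝔭.map (algebraMap S B)) • (⊤ : Submodule B X) := by
      rw [← Submodule.Quotient.mk_eq_zero, ← hfx, ← Submodule.mkQ_apply, map_sum]
      refine Finset.sum_congr rfl fun i _ => ?_
      rw [← hF i, ← hY i]
      rfl
    have h5 : φ (∑ i, b i • n' i) = (t₀ : S') • ((s : S) • (∑ i, F i • Y i)) := by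
      rw [map_sum, Finset.smul_sum, Finset.smul_sum]
      refine Finset.sum_congr rfl fun i _ => ?_
      rw [LinearMap.map_smul_of_tower, ← hn' i, Submonoid.smul_def, ← algebraMap_smul B (b i), hb i,
        smul_comm (t₀ : S'), smul_assoc]
      rw [smul_comm (t₀ : S') (F i)]
    rw [h5]
    exact smul_mem_of_mem _ _ (Submodule.smul_of_tower_mem _ (s : S) h4)
  obtain ⟨t', ht'⟩ := exists_smul_mem P φ 𝔭 h3
  -- use the flatness
  have h6 : ∑ i, (Ideal.Quotient.mk 𝔭 (b i)) • ((1 : S ⧸ 𝔭) ⊗ₜ[S] (t' • n' i)) = 0 := by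
    have : ∑ i, (Ideal.Quotient.mk 𝔭 (b i)) • ((1 : S ⧸ 𝔭) ⊗ₜ[S] (t' • n' i)) =
        (1 : S ⧸ 𝔭) ⊗ₜ[S] (t' • ∑ i, b i • n' i) := by
      rw [Finset.smul_sum, TensorProduct.tmul_sum]
      refine Finset.sum_congr rfl fun i _ => ?_
      have e1 : t' • (b i • n' i) = b i • (t' • n' i) := smul_comm (t' : S') (b i) (n' i)
      have e2 : (Ideal.Quotient.mk 𝔭 (b i)) • ((1 : S ⧸ 𝔭) ⊗ₜ[S] (t' • n' i)) =
          b i • ((1 : S ⧸ 𝔭) ⊗ₜ[S] (t' • n' i)) := rfl
      rw [e1, e2]
      exact (TensorProduct.tmul_smul (b i) (1 : S ⧸ 𝔭) (t' • n' i)).symm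
    rw [this]
    apply (TensorProduct.quotTensorEquivQuotSMul M 𝔭).injective
    rw [map_zero, ← map_one (Ideal.Quotient.mk 𝔭), TensorProduct.quotTensorEquivQuotSMul_mk_tmul,
      one_smul]
    exact (Submodule.Quotient.mk_eq_zero _).mpr ht'
  obtain ⟨κ, a, y, hy, ha⟩ := Module.Flat.isTrivialRelation_of_sum_smul_eq_zero h6
  choose a' ha' using fun i j => Ideal.Quotient.mk_surjective (a i j)
  have hysurj : ∀ j, ∃ w : M, y j = (1 : S ⧸ 𝔭) ⊗ₜ[S] w := by
    intro j
    obtain ⟨w, hw⟩ := Submodule.Quotient.mk_surjective _ (TensorProduct.quotTensorEquivQuotSMul M 𝔭 (y j))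
    refine ⟨w, ?_⟩
    apply (TensorProduct.quotTensorEquivQuotSMul M 𝔭).injective
    rw [← hw, ← map_one (Ideal.Quotient.mk 𝔭), TensorProduct.quotTensorEquivQuotSMul_mk_tmul,
      one_smul]
  choose w hw using hysurj
  have h7 : ∀ i, t' • n' i - ∑ j, a' i j • w j ∈ 𝔭 • (⊤ : Submodule S M) := by
    intro i
    rw [← Submodule.Quotient.mk_eq_zero]
    have e1 : (1 : S ⧸ 𝔭) ⊗ₜ[S] (t' • n' i - ∑ j, a' i j • w j) = 0 := by
      have hyi : (1 : S ⧸ 𝔭) ⊗ₜ[S] (t' • n' i) = ∑ j, a i j • y j := hy i
      rw [TensorProduct.tmul_sub, hyi, TensorProduct.tmul_sum, sub_eq_zero]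
      refine Finset.sum_congr rfl fun j _ => ?_
      rw [hw j, TensorProduct.tmul_smul, ← ha' i j]
      rfl
    have e2 := congrArg (TensorProduct.quotTensorEquivQuotSMul M 𝔭) e1
    rwa [map_zero, ← map_one (Ideal.Quotient.mk 𝔭), TensorProduct.quotTensorEquivQuotSMul_mk_tmul,
      one_smul] at e2
  have hbij : Function.Bijective (fun m : X => (t' * t₀) • m) := by
    have := IsLocalizedModule.map_units φ (t' * t₀)
    rw [Module.End.isUnit_iff] at this
    exact this
  choose Z hZ using fun j => hbij.2 (φ (w j))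
  refine ⟨κ, fun i j => Ideal.Quotient.mk _ (algebraMap S B (a' i j)),
    fun j => Submodule.Quotient.mk (Z j), fun i => ?_, fun j => ?_⟩
  · rw [← hY i]
    have e1 : ∑ j, (Ideal.Quotient.mk (𝔭.map (algebraMap S B)) (algebraMap S B (a' i j))) •
        (Submodule.Quotient.mk (Z j) : X ⧸ (𝔭.map (algebraMap S B)) • (⊤ : Submodule B X)) =
        Submodule.Quotient.mk (∑ j, a' i j • Z j) := by
      rw [← Submodule.mkQ_apply, map_sum]
      refine Finset.sum_congr rfl fun j _ => ?_
      rw [← algebraMap_smul B (a' i j)]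
      rfl
    rw [e1, Submodule.Quotient.eq]
    refine mem_of_smul_mem P φ _ (t' * t₀) ?_
    have e2 : (t' * t₀) • (Y i - ∑ j, a' i j • Z j) = φ (t' • n' i - ∑ j, a' i j • w j) := by
      rw [map_sub, map_sum, smul_sub, Finset.smul_sum, mul_smul, hn' i, Submonoid.smul_def t' (n' i),
        map_smul]
      congr 1
      refine Finset.sum_congr rfl fun j _ => ?_
      have e3 : (t' * t₀) • Z j = φ (w j) := hZ j
      rw [LinearMap.map_smul_of_tower, ← e3, Submonoid.smul_def, Submonoid.smul_def, smul_comm]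
    rw [e2]
    have e4 : ∀ z : M, z ∈ 𝔭 • (⊤ : Submodule S M) →
        φ z ∈ (𝔭.map (algebraMap S B)) • (⊤ : Submodule B X) := by
      intro z hz
      induction hz using Submodule.smul_induction_on' with
      | smul r hr m hm =>
        rw [LinearMap.map_smul_of_tower, ← algebraMap_smul B r]
        exact Submodule.smul_mem_smul (Ideal.mem_map_of_mem _ hr) trivial
      | add x hx y hy h h' => rw [map_add]; exact Submodule.add_mem _ h h'
    exact e4 _ (h7 i)
  · have e1 : ∑ i, b i * a' i j ∈ 𝔭 := by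
      rw [← Ideal.Quotient.eq_zero_iff_mem, map_sum, ← ha j]
      refine Finset.sum_congr rfl fun i _ => ?_
      rw [map_mul, ha' i j]
    have e2 : algebraMap S B (s : S) * (∑ i, F i * algebraMap S B (a' i j)) ∈
        𝔭.map (algebraMap S B) := by
      have : algebraMap S B (s : S) * (∑ i, F i * algebraMap S B (a' i j)) =
          algebraMap S B (∑ i, b i * a' i j) := by
        rw [Finset.mul_sum, map_sum]
        refine Finset.sum_congr rfl fun i _ => ?_
        rw [map_mul, hb i, ← mul_assoc, Algebra.smul_def]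
      rw [this]
      exact Ideal.mem_map_of_mem _ e1
    have e3 : (∑ i, F i * algebraMap S B (a' i j)) ∈ 𝔭.map (algebraMap S B) := by
      have hu : IsUnit (algebraMap S B (s : S)) :=
        IsLocalization.map_units B s
      exact (Ideal.unit_mul_mem_iff_mem _ hu).mp e2
    rw [← Ideal.Quotient.eq_zero_iff_mem, map_sum] at e3
    rw [← e3]
    refine Finset.sum_congr rfl fun i _ => ?_
    rw [map_mul, hF i]

end Groth.Agent.FlatB.FibreLoc
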