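import Groth.Agent.Ega1.FibFlat
import Groth.Agent.Flat2E.FibreFlatAt
import Groth.Agent.FlatB.FibreLoc
import Groth.Agent.FlatA.FlatLocalize
import Mathlib.RingTheory.Flat.Localization
import Mathlib.RingTheory.EssentialFiniteness

/-!
# Fibre criterion of flatness modulo a locally nilpotent ideal, algebraic form (pointwise)
-/

set_option autoImplicit false
universe u

open TensorProduct

namespace Groth.Agent.FlatB.FibreCritNil

/-- Flatness over `S / I` of `S/I ⊗ M` gives flatness over `S / J` of `S/J ⊗ M` for `I ≤ J`. -/
theorem flat_quot_of_le {S M : Type*} [CommRing S] [AddCommGroup M] [Module S M] (I J : Ideal S)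
    (hIJ : I ≤ J) (h : Module.Flat (S ⧸ I) ((S ⧸ I) ⊗[S] M)) :
    Module.Flat (S ⧸ J) ((S ⧸ J) ⊗[S] M) := by
  let _ : Algebra (S ⧸ I) (S ⧸ J) := (Ideal.Quotient.factor hIJ).toAlgebra
  have : IsScalarTower S (S ⧸ I) (S ⧸ J) := IsScalarTower.of_algebraMap_eq fun _ => rfl
  exact Module.Flat.of_linearEquiv
    (AlgebraTensorModule.cancelBaseChange S (S ⧸ I) (S ⧸ J) (S ⧸ J) M).symm

/-- Local form of the criterion at a prime `P` of `S'`. -/
theorem flat_localization {R S S' M : Type u} [CommRing R] [CommRing S] [CommRing S'] [Algebra R S]
    [Algebra S S'] [Algebra R S'] [IsScalarTower R S S']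
    [Algebra.FiniteType R S] [Algebra.FinitePresentation R S']
    [AddCommGroup M] [Module S' M] [Module S M] [Module R M] [IsScalarTower S S' M]
    [IsScalarTower R S M] [IsScalarTower R S' M]
    [Module.FinitePresentation S' M] [Module.Flat R M] (P : Ideal S') [P.IsPrime]
    (h : Module.Flat (S ⧸ (P.under R).map (algebraMap R S))
      ((S ⧸ (P.under R).map (algebraMap R S)) ⊗[S] M)) :
    Module.Flat S (Localization.AtPrime P ⊗[S'] M) := by
  let p : Ideal R := P.under R
  let q : Ideal S := P.under S
  have hqp : q.LiesOver p := ⟨by rw [Ideal.under_under]⟩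
  have hPq : P.LiesOver q := ⟨rfl⟩
  have hPp : P.LiesOver p := ⟨rfl⟩
  let _ := Localization.AtPrime.algebraOfLiesOver p q
  let _ := Localization.AtPrime.algebraOfLiesOver q P
  let _ := Localization.AtPrime.algebraOfLiesOver p P
  have : IsScalarTower R (Localization.AtPrime q) (Localization.AtPrime P) := .to₁₃₄ _ S _ _
  have : IsScalarTower (Localization.AtPrime p) (Localization.AtPrime q) (Localization.AtPrime P) :=
    .of_algebraMap_eq' <| by
      apply IsLocalization.ringHom_ext p.primeCompl
      simp only [← IsScalarTower.algebraMap_eq]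
  have : IsLocalHom (algebraMap (Localization.AtPrime p) (Localization.AtPrime q)) := by
    rw [Localization.AtPrime.IsLiesOverAlgebra.algebraMap_eq (p := p) (P := q)]
    infer_instance
  have : IsLocalHom (algebraMap (Localization.AtPrime q) (Localization.AtPrime P)) := by
    rw [Localization.AtPrime.IsLiesOverAlgebra.algebraMap_eq (p := q) (P := P)]
    infer_instance
  let X := Localization.AtPrime P ⊗[S'] M
  let φ : M →ₗ[S'] X := TensorProduct.mk S' (Localization.AtPrime P) M 1
  have hφ : IsLocalizedModule P.primeCompl φ :=
    IsLocalization.tensorProduct_isLocalizedModule P.primeCompl (Localization.AtPrime P)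
  by_cases hX : Nontrivial X
  swap
  · have : Subsingleton X := not_nontrivial_iff_subsingleton.mp hX
    change Module.Flat S X
    infer_instance
  have hfR : Module.Flat R X := FlatA.FlatLocalize.flat_of_isLocalizedModule_tower P.primeCompl φ
  have hfp : Module.Flat (Localization.AtPrime p) X :=
    (Module.flat_iff_of_isLocalization (Localization.AtPrime p) p.primeCompl X).mpr hfR
  have hmax : (IsLocalRing.maximalIdeal (Localization.AtPrime p)).map
      (algebraMap (Localization.AtPrime p) (Localization.AtPrime q)) =
      ((p.map (algebraMap R S)).map (algebraMap S (Localization.AtPrime q))) := by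
    rw [← Localization.AtPrime.map_eq_maximalIdeal,
      Ideal.map_map, ← IsScalarTower.algebraMap_eq, Ideal.map_map, ← IsScalarTower.algebraMap_eq]
  have hess : Algebra.EssFiniteType (Localization.AtPrime p) (Localization.AtPrime q) := by
    have h1 : Algebra.EssFiniteType R S := inferInstance
    have h2 : Algebra.EssFiniteType S (Localization.AtPrime q) :=
      Algebra.EssFiniteType.of_isLocalization _ q.primeCompl
    have h3 : Algebra.EssFiniteType R (Localization.AtPrime q) := Algebra.EssFiniteType.comp R S _
    exact Algebra.EssFiniteType.of_comp R (Localization.AtPrime p) (Localization.AtPrime q)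
  have hfib : Module.Flat (Localization.AtPrime q ⧸ (IsLocalRing.maximalIdeal (Localization.AtPrime p)).map
      (algebraMap (Localization.AtPrime p) (Localization.AtPrime q)))
      (X ⧸ (IsLocalRing.maximalIdeal (Localization.AtPrime p)).map
      (algebraMap (Localization.AtPrime p) (Localization.AtPrime q)) •
        (⊤ : Submodule (Localization.AtPrime q) X)) := by
    rw [hmax]
    exact FlatB.FibreLoc.flat_fibre (B := Localization.AtPrime q) P φ (p.map (algebraMap R S)) h
  have := Ega1.FibFlat.flat_of_fibre (R := Localization.AtPrime p) (S := Localization.AtPrime q)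
    (S' := Localization.AtPrime P) (M := X) hess
    (Flat2E.FibreFlatAt.isEssFinitePresentation p P) hfib
  have := this.2
  exact .trans S (Localization.AtPrime q) X

end Groth.Agent.FlatB.FibreCritNil
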