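import Mathlib.RingTheory.FiniteType
import Mathlib.RingTheory.Localization.Away.Basic
import Mathlib.RingTheory.Localization.Basic

/-!
# Algebra maps from finite type algebras to `B_f` descend to subalgebras
-/

set_option autoImplicit false

universe u

namespace Groth.Agent.FlatB.FinCovAlg

variable {A B C : Type u} [CommRing A] [CommRing B] [CommRing C] [Algebra A B] [Algebra A C]

/-- An `A`-algebra map from a finite type algebra to `B_f` descends to subalgebras containing a
suitable finite set. -/
lemma exists_finset [Algebra.FiniteType A C] (f : B) (α : C →ₐ[A] Localization.Away f) :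
    ∃ E : Finset B, ∀ (B' : Subalgebra A B) (hf : f ∈ B'), (E : Set B) ⊆ B' →
      Nonempty (C →ₐ[A] Localization.Away (⟨f, hf⟩ : B')) := by
  classical
  obtain ⟨G, hG⟩ := (inferInstance : Algebra.FiniteType A C).out
  have h1 : ∀ x : C, ∃ (b : B) (n : ℕ), α x * algebraMap B _ (f ^ n) = algebraMap B _ b := by
    intro x
    obtain ⟨⟨b, ⟨_, n, rfl⟩⟩, h⟩ := IsLocalization.surj (Submonoid.powers f) (α x)
    exact ⟨b, n, h⟩
  choose b n hb using h1
  refine ⟨G.image b, fun B' hf hE => ?_⟩
  let f' : B' := ⟨f, hf⟩
  have hle : Submonoid.powers f' ≤ (Submonoid.powers f).comap (B'.val : B' →+* B) := by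
    rw [Submonoid.powers_le]
    exact Submonoid.mem_powers f
  let ι : Localization.Away f' →ₐ[A] Localization.Away f :=
    { IsLocalization.map (M := Submonoid.powers f') (T := Submonoid.powers f)
        (Localization.Away f) (B'.val : B' →+* B) hle with
      commutes' := fun r => by
        change IsLocalization.map (M := Submonoid.powers f') (T := Submonoid.powers f)
          (Localization.Away f) (B'.val : B' →+* B) hle (algebraMap A (Localization.Away f') r) = _
        rw [IsScalarTower.algebraMap_apply A B' (Localization.Away f'), IsLocalization.map_eq]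
        exact (IsScalarTower.algebraMap_apply A B (Localization.Away f) r).symm }
  have hιeq : ∀ x : B', ι (algebraMap B' _ x) = algebraMap B _ (x : B) := fun x =>
    IsLocalization.map_eq hle x
  have hι : Function.Injective ι := by
    rw [injective_iff_map_eq_zero]
    intro x hx
    obtain ⟨⟨a, ⟨_, m, rfl⟩⟩, h⟩ := IsLocalization.surj (Submonoid.powers f') x
    have hu : IsUnit (algebraMap B' (Localization.Away f') (f' ^ m)) := by
      rw [map_pow]; exact (IsLocalization.Away.algebraMap_isUnit f').pow _
    apply hu.mul_right_cancel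
    change x * algebraMap B' (Localization.Away f') (f' ^ m) = algebraMap B' (Localization.Away f') a at h
    rw [h, zero_mul]
    have h2 := congrArg ι h
    rw [map_mul, hx, zero_mul, hιeq] at h2
    obtain ⟨⟨_, k, rfl⟩, hk⟩ := (IsLocalization.map_eq_zero_iff (Submonoid.powers f) (Localization.Away f) (a : B)).1 h2.symm
    rw [IsLocalization.map_eq_zero_iff (Submonoid.powers f') (Localization.Away f')]
    exact ⟨⟨f' ^ k, k, rfl⟩, Subtype.ext hk⟩
  have hrange : ∀ x : C, α x ∈ ι.range := by
    intro x
    have : α.range ≤ ι.range := by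
      rw [← Algebra.map_top, ← hG, AlgHom.map_adjoin, Algebra.adjoin_le_iff]
      rintro _ ⟨x, hx, rfl⟩
      have hbx : b x ∈ B' := hE (Finset.mem_coe.2 (Finset.mem_image_of_mem b hx))
      let z : Localization.Away f' :=
        IsLocalization.mk' _ (⟨b x, hbx⟩ : B') (⟨f' ^ n x, n x, rfl⟩ : Submonoid.powers f')
      have hz : z * algebraMap B' _ (f' ^ n x) = algebraMap B' _ (⟨b x, hbx⟩ : B') :=
        IsLocalization.mk'_spec _ _ _
      have hu : IsUnit (algebraMap B (Localization.Away f) (f ^ n x)) := by
        rw [map_pow]; exact (IsLocalization.Away.algebraMap_isUnit f).pow _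
      refine ⟨z, ?_⟩
      apply hu.mul_right_cancel
      have h3 := congrArg ι hz
      rw [map_mul, hιeq, hιeq] at h3
      exact h3.trans (hb x).symm
    exact this ⟨x, rfl⟩
  let e : Localization.Away f' ≃ₐ[A] ι.range := AlgEquiv.ofInjective ι hι
  exact ⟨(e.symm : ι.range →ₐ[A] Localization.Away f').comp (α.codRestrict ι.range hrange)⟩

end Groth.Agent.FlatB.FinCovAlg
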