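import Groth.Agent.FlatB.FinCovFac
import Groth.Agent.FlatB.FinCovAlg
import Groth.Agent.S1378

/-!
# Affine case of 0CP0: a finite surjective cover through which an fppf cover factors
-/

set_option autoImplicit false

universe u

open AlgebraicGeometry CategoryTheory Limits

namespace Groth.Agent.FlatB.FinCovAffine

open FinCovFac

/-- algebraic data of a local factorization. -/
lemma exists_data {A B : CommRingCat.{u}} (ψ : A ⟶ B) {U : Scheme.{u}} (g : U ⟶ Spec A)
    [LocallyOfFiniteType g] (t : Spec B) (ht : FacAt (Spec.map ψ) g t) :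
    ∃ (f : B), f ∉ t.asIdeal ∧ ∃ (C : CommRingCat.{u}) (jC : Spec C ⟶ U) (γ : A ⟶ C)
      (α : C ⟶ CommRingCat.of (Localization.Away f)), γ.hom.FiniteType ∧ jC ≫ g = Spec.map γ ∧
        γ ≫ α = ψ ≫ CommRingCat.ofHom (algebraMap B (Localization.Away f)) := by
  obtain ⟨V, h, htV, hh⟩ := ht
  obtain ⟨W, hW, hxW, -⟩ := exists_isAffineOpen_mem_and_subset (X := U) (U := ⊤) (x := h ⟨t, htV⟩) trivial
  let O : (Spec B).Opens := V.ι ''ᵁ (h ⁻¹ᵁ W)
  have htO : t ∈ O := ⟨⟨t, htV⟩, hxW, rfl⟩
  obtain ⟨_, ⟨f, rfl⟩, htf, hfO⟩ := PrimeSpectrum.isTopologicalBasis_basic_opens.exists_subset_of_mem_open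
    (show t ∈ (O : Set (Spec B)) from htO) O.2
  let jf : Spec (CommRingCat.of (Localization.Away f)) ⟶ Spec B :=
    Spec.map (CommRingCat.ofHom (algebraMap B (Localization.Away f)))
  have hjf : IsOpenImmersion jf := IsOpenImmersion.of_isLocalization f
  have hrange : Set.range jf ⊆ (O : Set (Spec B)) := by
    refine subset_trans ?_ hfO
    exact (PrimeSpectrum.localization_away_comap_range (Localization.Away f) f).le
  have hrangeV : Set.range jf ⊆ Set.range V.ι := by
    refine hrange.trans ?_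
    rintro _ ⟨x, -, rfl⟩
    exact ⟨x, rfl⟩
  let l : Spec (CommRingCat.of (Localization.Away f)) ⟶ V := IsOpenImmersion.lift V.ι jf hrangeV
  have hl : l ≫ V.ι = jf := IsOpenImmersion.lift_fac _ _ _
  have hrangeW : Set.range (l ≫ h) ⊆ Set.range hW.fromSpec := by
    rw [hW.range_fromSpec]
    rintro _ ⟨x, rfl⟩
    obtain ⟨z, hz, hzx⟩ := hrange ⟨x, rfl⟩
    have h1 : V.ι (l x) = jf x := by rw [← hl]; rfl
    have h2 : l x = z := V.ι.isOpenEmbedding.injective (h1.trans hzx.symm)
    change h (l x) ∈ W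
    rw [h2]
    exact hz
  let β : Spec (CommRingCat.of (Localization.Away f)) ⟶ Spec Γ(U, W) :=
    IsOpenImmersion.lift hW.fromSpec (l ≫ h) hrangeW
  have hβ : β ≫ hW.fromSpec = l ≫ h := IsOpenImmersion.lift_fac _ _ _
  obtain ⟨α, hα⟩ := Spec.map_surjective β
  obtain ⟨γ, hγ⟩ := Spec.map_surjective (hW.fromSpec ≫ g)
  refine ⟨f, htf, Γ(U, W), hW.fromSpec, γ, α, ?_, hγ.symm, ?_⟩
  · have : LocallyOfFiniteType (Spec.map γ) := by rw [hγ]; infer_instance
    rwa [HasRingHomProperty.Spec_iff (P := @LocallyOfFiniteType)] at this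
  · apply Spec.map_injective
    rw [Spec.map_comp, hγ, hα, reassoc_of% hβ, hh, reassoc_of% hl, Spec.map_comp]

theorem affine_case (A : CommRingCat.{u}) {U : Scheme.{u}} (g : U ⟶ Spec A) [Flat g]
    [LocallyOfFinitePresentation g] [Surjective g] :
    ∃ (T : Scheme.{u}) (π : T ⟶ Spec A), IsFinite π ∧ Surjective π ∧ LocFac π g := by
  classical
  obtain ⟨T, π, hsurj, hint, hfac⟩ := S1378.result g
  have hT : IsAffine T := isAffine_of_isAffineHom π
  let B := Γ(T, ⊤)
  obtain ⟨ψ, hψ⟩ := Spec.map_surjective (T.isoSpec.inv ≫ π)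
  have hψint : ψ.hom.IsIntegral := by
    rw [← IsIntegralHom.SpecMap_iff, hψ]
    infer_instance
  have hψsurj : Surjective (Spec.map ψ) := by
    rw [hψ]; infer_instance
  have hψfac : LocFac (Spec.map ψ) g := by
    intro y
    rw [hψ]
    exact FacAt.comp T.isoSpec.inv y (hfac _)
  let _ : Algebra A B := ψ.hom.toAlgebra
  have : Algebra.IsIntegral A B := ⟨hψint⟩
  choose f hf C jC γ α hγ hjC hα using fun t => exists_data ψ g t (hψfac t)
  have hE : ∀ t : Spec B, ∃ E : Finset B, ∀ (B' : Subalgebra A B) (hfB : f t ∈ B'), (E : Set B) ⊆ B' →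
      ∃ α' : C t ⟶ CommRingCat.of (Localization.Away (⟨f t, hfB⟩ : B')),
        γ t ≫ α' = CommRingCat.ofHom (algebraMap A (Localization.Away (⟨f t, hfB⟩ : B'))) := by
    intro t
    let _ : Algebra A (C t) := (γ t).hom.toAlgebra
    have : Algebra.FiniteType A (C t) := hγ t
    let α₀ : C t →ₐ[A] Localization.Away (f t) :=
      { (α t).hom with
        commutes' := fun r => ConcreteCategory.congr_hom (hα t) r }
    obtain ⟨E, hE⟩ := FinCovAlg.exists_finset (f t) α₀
    refine ⟨E, fun B' hfB hEB' => ?_⟩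
    obtain ⟨α'⟩ := hE B' hfB hEB'
    refine ⟨CommRingCat.ofHom α'.toRingHom, ?_⟩
    ext r
    exact α'.commutes r
  choose E hE using hE
  obtain ⟨s, hs⟩ := isCompact_univ.elim_finite_subcover
    (fun t : PrimeSpectrum B => (PrimeSpectrum.basicOpen (f t) : Set (PrimeSpectrum B)))
    (fun t => (PrimeSpectrum.basicOpen (f t)).2) (fun t _ => Set.mem_iUnion.2 ⟨t, hf t⟩)
  let F : Finset B := s.biUnion (fun t => insert (f t) (E t))
  let B' : Subalgebra A B := Algebra.adjoin A (F : Set B)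
  have hfin : Module.Finite A B' := Module.Finite.iff_fg.2
    (fg_adjoin_of_finite F.finite_toSet fun x _ => Algebra.IsIntegral.isIntegral x)
  have hfB' : ∀ t ∈ s, f t ∈ B' := fun t ht => Algebra.subset_adjoin
    (Finset.mem_coe.2 (Finset.mem_biUnion.2 ⟨t, ht, Finset.mem_insert_self _ _⟩))
  have hEB' : ∀ t ∈ s, (E t : Set B) ⊆ B' := fun t ht x hx => Algebra.subset_adjoin
    (Finset.mem_coe.2 (Finset.mem_biUnion.2 ⟨t, ht, Finset.mem_insert_of_mem hx⟩))
  have hB'B : Algebra.IsIntegral B' B := Algebra.IsIntegral.tower_top A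
  have hsurjB : Function.Surjective (PrimeSpectrum.comap (algebraMap B' B)) :=
    (algebraMap_isIntegral_iff.2 hB'B).comap_surjective Subtype.val_injective
  refine ⟨Spec (CommRingCat.of B'), Spec.map (CommRingCat.ofHom (algebraMap A B')), ?_, ?_, ?_⟩
  · rw [IsFinite.SpecMap_iff]
    exact (RingHom.finite_algebraMap).2 hfin
  · constructor
    intro x
    obtain ⟨y, hy⟩ := hψsurj.surj x
    refine ⟨PrimeSpectrum.comap (algebraMap B' B) y, ?_⟩
    rw [← hy]
    rfl
  · intro y
    obtain ⟨y', hy'⟩ := hsurjB y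
    obtain ⟨t, ht, hyt⟩ := Set.mem_iUnion₂.1 (hs (Set.mem_univ y'))
    obtain ⟨α', hα'⟩ := hE t B' (hfB' t ht) (hEB' t ht)
    let f' : B' := ⟨f t, hfB' t ht⟩
    have hfy : f' ∉ y.asIdeal := by
      rw [← hy']
      exact hyt
    let j : Spec (CommRingCat.of (Localization.Away f')) ⟶ Spec (CommRingCat.of B') :=
      Spec.map (CommRingCat.ofHom (algebraMap B' (Localization.Away f')))
    have hj : IsOpenImmersion j := IsOpenImmersion.of_isLocalization f'
    have hyj : y ∈ Set.range j := by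
      have := PrimeSpectrum.localization_away_comap_range (Localization.Away f') f'
      change y ∈ Set.range (PrimeSpectrum.comap (algebraMap B' (Localization.Away f')))
      rw [this]
      exact hfy
    obtain ⟨z, rfl⟩ := hyj
    refine facAt_of_openImmersion j z (Spec.map α' ≫ jC t) ?_
    have e1 : (Spec.map α' ≫ jC t) ≫ g = Spec.map α' ≫ Spec.map (γ t) :=
      (Category.assoc _ _ _).trans (congrArg (fun z => Spec.map α' ≫ z) (hjC t))
    have e2 : Spec.map α' ≫ Spec.map (γ t) = Spec.map (γ t ≫ α') := (Spec.map_comp _ _).symm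
    refine (e1.trans (e2.trans (congrArg Spec.map hα'))).trans ?_
    rw [← Spec.map_comp]
    rfl

end Groth.Agent.FlatB.FinCovAffine
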