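import Mathlib.AlgebraicGeometry.Morphisms.FinitePresentation
import Mathlib.AlgebraicGeometry.Morphisms.Flat
import Mathlib.AlgebraicGeometry.Morphisms.Finite
import Mathlib.AlgebraicGeometry.Morphisms.Integral
import Mathlib.AlgebraicGeometry.Noetherian
import Mathlib.RingTheory.Localization.Away.Basic

/-!
# Morphisms factoring Zariski-locally through another one

`LocFac π g` : `π : T ⟶ S` factors through `g : U ⟶ S` Zariski locally on `T`.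
-/

set_option autoImplicit false

universe u

open AlgebraicGeometry CategoryTheory Limits

namespace Groth.Agent.FlatB.FinCovFac

variable {S T U : Scheme.{u}}

/-- `π` factors through `g` on a neighbourhood of `y`. -/
def FacAt (π : T ⟶ S) (g : U ⟶ S) (y : T) : Prop :=
  ∃ (V : T.Opens) (h : ↑V ⟶ U), y ∈ V ∧ h ≫ g = V.ι ≫ π

/-- `π` factors through `g` Zariski locally on the source of `π`. -/
def LocFac (π : T ⟶ S) (g : U ⟶ S) : Prop := ∀ y : T, FacAt π g y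

lemma facAt_of_openImmersion {π : T ⟶ S} {g : U ⟶ S} {Z : Scheme.{u}} (j : Z ⟶ T) [IsOpenImmersion j]
    (z : Z) (h : Z ⟶ U) (hh : h ≫ g = j ≫ π) : FacAt π g (j z) := by
  refine ⟨j.opensRange, j.isoOpensRange.inv ≫ h, ⟨z, rfl⟩, ?_⟩
  rw [Category.assoc, hh, ← Category.assoc, Scheme.Hom.isoOpensRange_inv_comp]

lemma FacAt.comp {π : T ⟶ S} {g : U ⟶ S} {T' : Scheme.{u}} (p : T' ⟶ T) (y : T')
    (h : FacAt π g (p y)) : FacAt (p ≫ π) g y := by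
  obtain ⟨V, h, hy, hh⟩ := h
  refine ⟨p ⁻¹ᵁ V, (p ∣_ V) ≫ h, hy, ?_⟩
  rw [Category.assoc, hh, morphismRestrict_ι_assoc]

lemma FacAt.of_comp_right {π : T ⟶ S} {U' : Scheme.{u}} {g : U ⟶ S} (q : U' ⟶ U) (y : T)
    (h : FacAt π (q ≫ g) y) : FacAt π g y := by
  obtain ⟨V, h, hy, hh⟩ := h
  exact ⟨V, h ≫ q, hy, by rw [Category.assoc, hh]⟩

lemma FacAt.postcomp {π : T ⟶ S} {g : U ⟶ S} {S' : Scheme.{u}} (q : S ⟶ S') (y : T)
    (h : FacAt π g y) : FacAt (π ≫ q) (g ≫ q) y := by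
  obtain ⟨V, h, hy, hh⟩ := h
  exact ⟨V, h, hy, by rw [reassoc_of% hh]⟩

/-- Base change. -/
lemma FacAt.baseChange {S' T' U' : Scheme.{u}} {π : T ⟶ S} {g : U ⟶ S} {π' : T' ⟶ S'} {g' : U' ⟶ S'}
    {f : S' ⟶ S} {f₁ : T' ⟶ T} {f₂ : U' ⟶ U} (h₁ : f₁ ≫ π = π' ≫ f) (h₂ : IsPullback f₂ g' g f)
    (y : T') (h : FacAt π g (f₁ y)) : FacAt π' g' y := by
  obtain ⟨V, h, hy, hh⟩ := h
  refine ⟨f₁ ⁻¹ᵁ V, h₂.lift ((f₁ ∣_ V) ≫ h) ((f₁ ⁻¹ᵁ V).ι ≫ π') ?_, hy, ?_⟩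
  · rw [Category.assoc, hh, morphismRestrict_ι_assoc, Category.assoc, h₁]
  · rw [h₂.lift_snd]

/-- Restriction to an open subset of the target. -/
lemma FacAt.of_openImmersion_source {π : T ⟶ S} {g : U ⟶ S} {T' : Scheme.{u}} (j : T' ⟶ T)
    [IsOpenImmersion j] (y : T') (h : FacAt (j ≫ π) g y) : FacAt π g (j y) := by
  obtain ⟨V, h, hy, hh⟩ := h
  exact facAt_of_openImmersion (V.ι ≫ j) ⟨y, hy⟩ h (by rw [hh, Category.assoc])

end Groth.Agent.FlatB.FinCovFac
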