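import Groth.Agent.FlatB.FinCovAffine
import Groth.Agent.S1376

/-!
# 0CP0 without finite presentation over a qcqs base
-/

set_option autoImplicit false

universe u

open AlgebraicGeometry CategoryTheory Limits

namespace Groth.Agent.FlatB.FinCovGlobal

open FinCovFac

lemma step_affine {S U : Scheme.{u}} [CompactSpace S] [QuasiSeparatedSpace S] (g : U ⟶ S)
    [Flat g] [LocallyOfFinitePresentation g] [Surjective g] (V : S.Opens) (hV : IsAffineOpen V) :
    ∃ (T : Scheme.{u}) (π : T ⟶ S), IsFinite π ∧ Surjective π ∧ ∀ y : T, π y ∈ V → FacAt π g y := by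
  have hgV : Surjective (g ∣_ V) := IsZariskiLocalAtTarget.restrict (P := @Surjective) inferInstance V
  let g' : (g ⁻¹ᵁ V : Scheme.{u}) ⟶ Spec Γ(S, V) := (g ∣_ V) ≫ hV.isoSpec.hom
  have : Surjective g' := by dsimp only [g']; infer_instance
  obtain ⟨T₀, π₀, hfin, hsurj, hfac⟩ := FinCovAffine.affine_case Γ(S, V) g'
  let v : T₀ ⟶ V := π₀ ≫ hV.isoSpec.inv
  obtain ⟨T, π, i, hπ, hπ', hpb⟩ := S1376.result V hV.isCompact v
  have hi : IsOpenImmersion i := MorphismProperty.of_isPullback hpb.flip (inferInstanceAs (IsOpenImmersion V.ι))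
  refine ⟨T, π, hπ', hπ, fun y hy => ?_⟩
  obtain ⟨z, hz1, hz2⟩ := Scheme.Pullback.exists_preimage_pullback (f := π) (g := V.ι) y ⟨π y, hy⟩ rfl
  have hiz : i (hpb.isoPullback.inv z) = y := by
    rw [← Scheme.Hom.comp_apply, hpb.isoPullback_inv_fst, hz1]
  rw [← hiz]
  refine FacAt.of_openImmersion_source i _ ?_
  have h1 := (hfac (hpb.isoPullback.inv z)).postcomp (hV.isoSpec.inv ≫ V.ι)
  have e1 : g' ≫ hV.isoSpec.inv ≫ V.ι = (g ⁻¹ᵁ V).ι ≫ g := by
    simp [g', morphismRestrict_ι]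
  have e2 : π₀ ≫ hV.isoSpec.inv ≫ V.ι = i ≫ π := by
    rw [hpb.w]; simp [v]
  rw [e1, e2] at h1
  exact h1.of_comp_right

lemma step_finset {S U : Scheme.{u}} [CompactSpace S] [QuasiSeparatedSpace S] (g : U ⟶ S)
    [Flat g] [LocallyOfFinitePresentation g] [Surjective g] (s : Finset S.affineOpens) :
    ∃ (T : Scheme.{u}) (π : T ⟶ S), IsFinite π ∧ Surjective π ∧
      ∀ y : T, (∃ V ∈ s, π y ∈ V.1) → FacAt π g y := by
  classical
  induction s using Finset.induction_on with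
  | empty => exact ⟨S, 𝟙 S, inferInstance, inferInstance, by simp⟩
  | insert V s hV ih =>
    obtain ⟨T₁, π₁, h1, h1', h1''⟩ := ih
    obtain ⟨T₂, π₂, h2, h2', h2''⟩ := step_affine g V.1 V.2
    refine ⟨pullback π₁ π₂, pullback.fst π₁ π₂ ≫ π₁, inferInstance, inferInstance, ?_⟩
    rintro y ⟨W, hW, hyW⟩
    rw [Finset.mem_insert] at hW
    rcases hW with rfl | hW
    · rw [pullback.condition]
      refine FacAt.comp _ _ (h2'' _ ?_)
      rw [pullback.condition] at hyW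
      exact hyW
    · exact FacAt.comp _ _ (h1'' _ ⟨W, hW, hyW⟩)

theorem global_case {S U : Scheme.{u}} [CompactSpace S] [QuasiSeparatedSpace S] (g : U ⟶ S)
    [Flat g] [LocallyOfFinitePresentation g] [Surjective g] :
    ∃ (T : Scheme.{u}) (π : T ⟶ S), IsFinite π ∧ Surjective π ∧ LocFac π g := by
  have h : ∀ x : S, ∃ V : S.affineOpens, x ∈ V.1 := by
    intro x
    obtain ⟨W, hW, hxW, -⟩ := exists_isAffineOpen_mem_and_subset (X := S) (U := ⊤) (x := x) trivial
    exact ⟨⟨W, hW⟩, hxW⟩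
  choose V hV using h
  obtain ⟨t, ht⟩ := isCompact_univ.elim_finite_subcover (fun x : S => ((V x).1 : Set S))
    (fun x => (V x).1.2) (fun x _ => Set.mem_iUnion.2 ⟨x, hV x⟩)
  classical
  obtain ⟨T, π, h1, h2, h3⟩ := step_finset g (t.image V)
  refine ⟨T, π, h1, h2, fun y => h3 y ?_⟩
  obtain ⟨x, hx, hyx⟩ := Set.mem_iUnion₂.1 (ht (Set.mem_univ (π y)))
  exact ⟨V x, Finset.mem_image_of_mem V hx, hyx⟩

end Groth.Agent.FlatB.FinCovGlobal
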