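import Groth.Agent.S1239
import Mathlib.RingTheory.FinitePresentation
import Mathlib.RingTheory.Flat.Basic
import Mathlib.Algebra.Module.FinitePresentation
import Mathlib.RingTheory.Localization.Away.Basic

/-!
Algebra form of Stacks 081N: a flat finite type algebra which is of finite presentation over the
members of a schematically dense finite family of basic opens is of finite presentation.
-/

set_option autoImplicit false
universe u

namespace Groth.Agent.FlatB.FpDenseAlg

/-- If `A → B` is of finite type, `P → B` surjective with `P` a polynomial ring, `g : P`,
`B_g` of finite presentation over `A`, then `B_g` is a finitely presented `P_g`-module. -/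
theorem localizedModule_finitePresentation {A P B : Type u} [CommRing A] [CommRing P] [CommRing B]
    [Algebra A P] [Algebra A B] [Algebra P B] [IsScalarTower A P B] [Algebra.FiniteType A P]
    (hs : Function.Surjective (algebraMap P B)) (g : P)
    (hfp : Algebra.FinitePresentation A (Localization.Away (algebraMap P B g))) :
    Module.FinitePresentation (Localization.Away g) (LocalizedModule (Submonoid.powers g) B) := by
  let Pg := Localization.Away g
  let Bg := Localization.Away (algebraMap P B g)
  let _ : Algebra Pg Bg := (Localization.awayMap (algebraMap P B) g).toAlgebra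
  have : IsScalarTower P Pg Bg := IsScalarTower.of_algebraMap_eq' (by
    rw [RingHom.algebraMap_toAlgebra]
    ext x
    simp [Localization.awayMap, IsLocalization.Away.map]
    rfl)
  have : IsScalarTower A Pg Bg := IsScalarTower.to₁₃₄ A P Pg Bg
  have hloc : IsLocalization (Algebra.algebraMapSubmonoid B (Submonoid.powers g)) Bg := by
    rw [Algebra.algebraMapSubmonoid_powers]
    infer_instance
  have hlm : IsLocalizedModule (Submonoid.powers g) (IsScalarTower.toAlgHom P B Bg).toLinearMap :=
    isLocalizedModule_iff_isLocalization.mpr hloc
  have hsurj : Function.Surjective (algebraMap Pg Bg) := by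
    rw [RingHom.algebraMap_toAlgebra]
    exact IsLocalization.map_surjective_of_surjective _ _ _ hs
  have : Algebra.FiniteType A Pg := Algebra.FiniteType.trans (S := P) inferInstance inferInstance
  have : Algebra.FinitePresentation Pg Bg :=
    Algebra.FinitePresentation.of_restrict_scalars_finitePresentation A Pg Bg
  have hker : (RingHom.ker (Algebra.ofId Pg Bg)).FG := by
    exact Algebra.FinitePresentation.ker_fG_of_surjective (Algebra.ofId Pg Bg) hsurj
  have hmod : Module.FinitePresentation Pg Bg :=
    Module.finitePresentation_of_surjective (Algebra.linearMap Pg Bg) hsurj hker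
  let e : LocalizedModule (Submonoid.powers g) B ≃ₗ[P] Bg :=
    IsLocalizedModule.iso (Submonoid.powers g) (IsScalarTower.toAlgHom P B Bg).toLinearMap
  let e' : LocalizedModule (Submonoid.powers g) B ≃ₗ[Pg] Bg :=
    e.extendScalarsOfIsLocalization (Submonoid.powers g) Pg
  exact Module.FinitePresentation.of_equiv e'.symm

theorem finitePresentation_of_dense {A B : Type u} [CommRing A] [CommRing B] [Algebra A B]
    [Algebra.FiniteType A B] [Module.Flat A B] {n : ℕ} (f : Fin n → A)
    (hdense : Function.Injective (RingHom.pi (fun i => algebraMap A (Localization.Away (f i)))))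
    (hfp : ∀ i, Algebra.FinitePresentation A (Localization.Away (algebraMap A B (f i)))) :
    Algebra.FinitePresentation A B := by
  obtain ⟨m, φ, hφ⟩ := Algebra.FiniteType.iff_quotient_mvPolynomial''.mp ‹Algebra.FiniteType A B›
  let P := MvPolynomial (Fin m) A
  let _ : Algebra P B := φ.toRingHom.toAlgebra
  have : IsScalarTower A P B := IsScalarTower.of_algebraMap_eq' (by
    rw [RingHom.algebraMap_toAlgebra]; exact φ.comp_algebraMap.symm)
  have hs : Function.Surjective (algebraMap P B) := hφ
  have : Module.Finite P B := Module.Finite.of_surjective (Algebra.linearMap P B) hs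
  have : Module.FinitePresentation P B := by
    refine Groth.Agent.S1239.result (A := A) (B := P) B f hdense (fun i => ?_)
    refine localizedModule_finitePresentation (A := A) hs (algebraMap A P (f i)) ?_
    have := hfp i
    rwa [← IsScalarTower.algebraMap_apply A P B]
  have hker : (RingHom.ker φ).FG := by
    have := Module.FinitePresentation.fg_ker (Algebra.linearMap P B) hs
    exact this
  exact Algebra.FinitePresentation.of_surjective hφ hker

end Groth.Agent.FlatB.FpDenseAlg
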