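import Groth.Agent.FlatB.Content
import Groth.Agent.Flat2A.CoordML
import Mathlib.RingTheory.Filtration
import Mathlib.RingTheory.TensorProduct.Finite
import Mathlib.RingTheory.Jacobson.Ideal
import Mathlib.RingTheory.AdicCompletion.Noetherian

/-!
# Functionals on flat modules, finite over a Noetherian local algebra over a complete local ring
-/

set_option autoImplicit false
universe u

namespace Groth.Agent.FlatB.Functionals

open TensorProduct IsLocalRing Groth.Agent.FlatB.Content

section Hausdorff

/-- Krull: a finite module over a Noetherian local `L`-algebra is `m_L`-adically separated. -/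
theorem isHausdorff_of_finite {L S N : Type u} [CommRing L] [IsLocalRing L] [CommRing S]
    [IsLocalRing S] [IsNoetherianRing S] [Algebra L S] [IsLocalHom (algebraMap L S)]
    [AddCommGroup N] [Module S N] [Module L N] [IsScalarTower L S N] [Module.Finite S N] :
    IsHausdorff (maximalIdeal L) N := by
  have h1 : (maximalIdeal L).map (algebraMap L S) ≤ maximalIdeal S :=
    ((IsLocalRing.local_hom_TFAE (algebraMap L S)).out 0 2).mp ‹_›
  have h2 : IsHausdorff (maximalIdeal S) N :=
    ⟨fun x hx => (Ideal.iInf_pow_smul_eq_bot_of_isLocalRing (M := N) (maximalIdeal S)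
      (maximalIdeal.isMaximal S).ne_top).le (by simpa [SModEq.zero] using hx)⟩
  exact IsHausdorff.of_map (R := L) (J := maximalIdeal S) h1

/-- `N ⊗ Q` is finite over `S` when `N` is finite over `S` and `Q` is finite over `L`. -/
theorem finite_tensor {L S N : Type u} [CommRing L] [CommRing S] [Algebra L S]
    [AddCommGroup N] [Module S N] [Module L N] [IsScalarTower L S N] [Module.Finite S N]
    (Q : Type u) [AddCommGroup Q] [Module L Q] [Module.Finite L Q] :
    Module.Finite S (N ⊗[L] Q) := by
  obtain ⟨n, f, hf⟩ := Module.Finite.exists_fin' L Q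
  have h1 : Module.Finite S (N ⊗[L] (Fin n → L)) :=
    Module.Finite.equiv (TensorProduct.piScalarRight L S N (Fin n)).symm
  refine Module.Finite.of_surjective (AlgebraTensorModule.lTensor S N f) ?_
  have := LinearMap.lTensor_surjective N hf
  exact this

/-- The same for `Q ⊗ N`, `Q` a finite `L`-module. -/
theorem isHausdorff_tensor {L S N : Type u} [CommRing L] [IsLocalRing L] [CommRing S]
    [IsLocalRing S] [IsNoetherianRing S] [Algebra L S] [IsLocalHom (algebraMap L S)]
    [AddCommGroup N] [Module S N] [Module L N] [IsScalarTower L S N] [Module.Finite S N]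
    (Q : Type u) [AddCommGroup Q] [Module L Q] [Module.Finite L Q] :
    IsHausdorff (maximalIdeal L) (Q ⊗[L] N) := by
  -- transport the `S`-module structure through `comm`
  have h1 : IsHausdorff (maximalIdeal L) (N ⊗[L] Q) := by
    have : Module.Finite S (N ⊗[L] Q) := finite_tensor Q
    exact isHausdorff_of_finite (S := S)
  refine ⟨fun x hx => ?_⟩
  apply (TensorProduct.comm L Q N).injective
  rw [map_zero]
  refine h1.haus _ fun n => ?_
  have h2 := hx n
  rw [SModEq.zero] at h2 ⊢
  have h3 : TensorProduct.comm L Q N x ∈
      (maximalIdeal L ^ n • (⊤ : Submodule L (Q ⊗[L] N))).map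
        (TensorProduct.comm L Q N).toLinearMap := ⟨x, h2, rfl⟩
  rw [Submodule.map_smul''] at h3
  exact Submodule.smul_mono le_rfl le_top h3

end Hausdorff

/-- Functionals on flat finite modules over complete local rings: every element of `N ⊗ Q`,
`Q` an arbitrary `L`-module, is detected by the functionals of `N`. -/
theorem exists_functionals {L S N : Type u} [CommRing L] [IsLocalRing L]
    [IsAdicComplete (maximalIdeal L) L] [CommRing S] [IsLocalRing S] [IsNoetherianRing S]
    [Algebra L S] [IsLocalHom (algebraMap L S)] [AddCommGroup N] [Module S N] [Module L N]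
    [IsScalarTower L S N] [Module.Finite S N] [Module.Flat L N] :
    ∃ (α : Type u) (c : α → (N →ₗ[L] L)), ∀ (Q : Type u) [AddCommGroup Q] [Module L Q],
      Function.Injective (Flat2A.CoordML.phi c Q) := by
  refine ⟨N →ₗ[L] L, id, fun Q _ _ => ?_⟩
  rw [injective_iff_map_eq_zero]
  intro x hx
  apply (TensorProduct.comm L N Q).injective
  rw [map_zero]
  refine eq_zero_of_forall_functional (A := L) (M := N)
    (fun Q _ _ _ => isHausdorff_tensor (S := S) Q) Q _ fun f => ?_
  have h1 : ∀ z : N ⊗[L] Q, TensorProduct.rid L Q (f.lTensor Q (TensorProduct.comm L N Q z)) =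
      Flat2A.CoordML.phi (id : (N →ₗ[L] L) → (N →ₗ[L] L)) Q z f := by
    intro z
    induction z with
    | zero => simp
    | tmul a b => simp
    | add a b ha hb => simp only [map_add, ha, hb, Pi.add_apply]
  rw [h1, hx]
  rfl

/-- Content ideals, Noetherian version. -/
theorem exists_content' {L S N : Type u} [CommRing L] [IsLocalRing L]
    [IsAdicComplete (maximalIdeal L) L] [CommRing S] [IsLocalRing S] [IsNoetherianRing S]
    [Algebra L S] [IsLocalHom (algebraMap L S)] [AddCommGroup N] [Module S N] [Module L N]
    [IsScalarTower L S N] [Module.Finite S N] [Module.Flat L N]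
    (R : Type u) [CommRing R] [Algebra L R] (x : R ⊗[L] N) :
    ∃ c : Ideal R, c.FG ∧ x ∈ c • (⊤ : Submodule R (R ⊗[L] N)) ∧
      ∀ J : Ideal R, x ∈ J • (⊤ : Submodule R (R ⊗[L] N)) → c ≤ J :=
  exists_content (fun Q _ _ _ => isHausdorff_tensor (S := S) Q) R x

/-- `R` any local `L`-algebra, `L` complete local; `N` flat over `L`, finite over a Noetherian
local `L`-algebra; `P` flat over `R`. An `R`-linear map `R ⊗ N → P` which is injective modulo
`m_R` is injective. -/
theorem injective_of_injective_mod' {L S N : Type u} [CommRing L] [IsLocalRing L]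
    [IsAdicComplete (maximalIdeal L) L] [CommRing S] [IsLocalRing S] [IsNoetherianRing S]
    [Algebra L S] [IsLocalHom (algebraMap L S)] [AddCommGroup N] [Module S N] [Module L N]
    [IsScalarTower L S N] [Module.Finite S N] [Module.Flat L N]
    {R P : Type u} [CommRing R] [IsLocalRing R] [Algebra L R] [AddCommGroup P] [Module R P]
    [Module.Flat R P] (v : R ⊗[L] N →ₗ[R] P)
    (hv : ∀ y : R ⊗[L] N, v y ∈ maximalIdeal R • (⊤ : Submodule R P) →
      y ∈ maximalIdeal R • (⊤ : Submodule R (R ⊗[L] N))) :
    Function.Injective v :=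
  injective_of_injective_mod (fun Q _ _ _ => isHausdorff_tensor (S := S) Q) v hv

end Groth.Agent.FlatB.Functionals
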