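import Groth.Agent.FlatB.GenFibIrr

/-!
# Spreading out geometric integrality from the generic fibre (ring level)
-/

set_option autoImplicit false
universe u
open TensorProduct

namespace Groth.Agent.FlatB.GenFibDom

variable {A : Type u} [CommRing A]

theorem isDomain_iff (R : Type u) [CommRing R] :
    IsDomain R ↔ IrreducibleSpace (PrimeSpectrum R) ∧ IsReduced R := by
  constructor
  · intro h
    refine ⟨?_, inferInstance⟩
    rw [PrimeSpectrum.irreducibleSpace_iff_isPrime_nilradical, nilradical_eq_zero]
    exact Ideal.isPrime_bot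
  · rintro ⟨h1, h2⟩
    rw [PrimeSpectrum.irreducibleSpace_iff_isPrime_nilradical, nilradical_eq_zero] at h1
    exact IsDomain.of_bot_isPrime R

/-- `A` a domain contained in an algebraically closed field `Ω`, `B` a finite type `A`-algebra with
`Ω ⊗ B` a domain. Then there is `a ≠ 0` in `A` such that `L ⊗ B` is a domain for every field `L` over
`A` in which `a ≠ 0`. -/
theorem exists_isDomain [IsDomain A] (B : Type u) [CommRing B] [Algebra A B]
    [Algebra.FiniteType A B] (Ω : Type u) [Field Ω] [IsAlgClosed Ω] [Algebra A Ω]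
    (hA : Function.Injective (algebraMap A Ω)) [IsDomain (Ω ⊗[A] B)] :
    ∃ a : A, a ≠ 0 ∧ ∀ (L : Type u) [Field L] [Algebra A L], algebraMap A L a ≠ 0 →
      IsDomain (L ⊗[A] B) := by
  have h1 := (isDomain_iff (Ω ⊗[A] B)).mp inferInstance
  have := h1.1
  obtain ⟨a₁, ha₁, h₁⟩ := GenFibIrr.exists_irreducible B Ω hA
  obtain ⟨a₂, ha₂, h₂⟩ := GenFibRed.exists_isReduced B Ω hA
  refine ⟨a₁ * a₂, mul_ne_zero ha₁ ha₂, fun L _ _ hL ↦ ?_⟩
  rw [map_mul, mul_ne_zero_iff] at hL
  exact (isDomain_iff _).mpr ⟨h₁ L hL.1, h₂ L hL.2⟩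

/-- Same with the hypothesis that all field base changes of the generic fibre are domains. -/
theorem exists_isDomain' [IsDomain A] (B : Type u) [CommRing B] [Algebra A B]
    [Algebra.FiniteType A B]
    (h : ∀ (K : Type u) [Field K] [Algebra A K], Function.Injective (algebraMap A K) →
      IsDomain (K ⊗[A] B)) :
    ∃ a : A, a ≠ 0 ∧ ∀ (L : Type u) [Field L] [Algebra A L], algebraMap A L a ≠ 0 →
      IsDomain (L ⊗[A] B) := by
  have hinj : Function.Injective (algebraMap A (AlgebraicClosure (FractionRing A))) := by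
    rw [IsScalarTower.algebraMap_eq A (FractionRing A) (AlgebraicClosure (FractionRing A))]
    exact (algebraMap (FractionRing A) _).injective.comp (IsFractionRing.injective A _)
  have := h (AlgebraicClosure (FractionRing A)) hinj
  exact exists_isDomain B (AlgebraicClosure (FractionRing A)) hinj

end Groth.Agent.FlatB.GenFibDom
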