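import Groth.Agent.Flat2G.ApproxFactor
import Mathlib.RingTheory.TensorProduct.Basic
import Mathlib.RingTheory.LocalRing.ResidueField.Ideal
import Mathlib.RingTheory.Flat.FaithfullyFlat.Algebra
import Mathlib.LinearAlgebra.TensorProduct.Tower
import Mathlib.RingTheory.Ideal.Quotient.Noetherian
import Mathlib.RingTheory.FiniteStability

/-!
# Noetherian approximation of algebras with geometrically integral fibres

`GI A B`: every base change of `B` to a field over `A` is a domain.
`exists_subalgebra`: if `A₀` is Noetherian, `B₀` of finite type over `A₀`, `R` an `A₀`-algebra with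
`GI R (R ⊗ B₀)`, then `GI A₁ (A₁ ⊗ B₀)` for some finite type sub-`A₀`-algebra `A₁` of `R`, provided
generic spreading out of geometric integrality (`Spread`).
-/

set_option autoImplicit false
universe u

open TensorProduct PrimeSpectrum

namespace Groth.Agent.FlatB.GeomIntApprox

/-- Every base change to a field is a domain. -/
def GI (R S : Type u) [CommRing R] [CommRing S] [Algebra R S] : Prop :=
  ∀ (K : Type u) [Field K] [Algebra R K], IsDomain (K ⊗[R] S)

/-- Spreading out of geometric integrality of the generic fibre. -/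
def Spread : Prop :=
  ∀ (A B : Type u) [CommRing A] [IsDomain A] [IsNoetherianRing A] [CommRing B] [Algebra A B]
    [Algebra.FiniteType A B],
    (∀ (K : Type u) [Field K] [Algebra A K], Function.Injective (algebraMap A K) →
      IsDomain (K ⊗[A] B)) →
    ∃ a : A, a ≠ 0 ∧ ∀ (K : Type u) [Field K] [Algebra A K], algebraMap A K a ≠ 0 →
      IsDomain (K ⊗[A] B)

/-- base change along a field extension descends domains -/
theorem isDomain_of_extension {A B : Type u} [CommRing A] [CommRing B] [Algebra A B]
    (K L : Type u) [Field K] [Field L] [Algebra A K] [Algebra A L] [Algebra K L]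
    [IsScalarTower A K L] (h : IsDomain (L ⊗[A] B)) : IsDomain (K ⊗[A] B) := by
  let e := Algebra.TensorProduct.cancelBaseChange A K L L B
  have h1 : IsDomain (L ⊗[K] (K ⊗[A] B)) := e.toMulEquiv.isDomain
  have hinj : Function.Injective
      (Algebra.TensorProduct.includeRight : (K ⊗[A] B) →ₐ[K] L ⊗[K] (K ⊗[A] B)) :=
    Algebra.TensorProduct.includeRight_injective (algebraMap K L).injective
  exact hinj.isDomain (Algebra.TensorProduct.includeRight :
    (K ⊗[A] B) →ₐ[K] L ⊗[K] (K ⊗[A] B)).toRingHom

/-- two fields over the same point have a common extension -/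
theorem exists_common_extension {A R : Type u} [CommRing A] [CommRing R] [Algebra A R]
    (q : PrimeSpectrum R) (K : Type u) [Field K] [Algebra A K]
    (hK : RingHom.ker (algebraMap A K) = (comap (algebraMap A R) q).asIdeal) :
    ∃ (L : Type u) (_ : Field L) (_ : Algebra A L) (_ : Algebra K L) (_ : Algebra R L),
      IsScalarTower A K L ∧ IsScalarTower A R L := by
  let p := (comap (algebraMap A R) q).asIdeal
  let κ := p.ResidueField
  let κq := q.asIdeal.ResidueField
  let φ : κ →+* K := Ideal.ResidueField.lift p (algebraMap A K)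
    (fun a ha => by
      change a ∈ (comap (algebraMap A R) q).asIdeal at ha
      rw [← hK] at ha; exact ha)
    (by
      intro a ha
      have : algebraMap A K a ≠ 0 := fun h => ha (by
        change a ∈ (comap (algebraMap A R) q).asIdeal
        rw [← hK]; exact h)
      exact this.isUnit)
  let ψ : κ →+* κq := Ideal.ResidueField.map p q.asIdeal (algebraMap A R) rfl
  let _ : Algebra κ K := φ.toAlgebra
  let _ : Algebra κ κq := ψ.toAlgebra
  have : Nontrivial (K ⊗[κ] κq) := inferInstance
  obtain ⟨m, hm⟩ := Ideal.exists_maximal (K ⊗[κ] κq)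
  let L := (K ⊗[κ] κq) ⧸ m
  let _ : Field L := Ideal.Quotient.field m
  let a : K →+* L := (Ideal.Quotient.mk m).comp Algebra.TensorProduct.includeLeftRingHom
  let b : κq →+* L := (Ideal.Quotient.mk m).comp
    (Algebra.TensorProduct.includeRight (R := κ) (A := K) (B := κq)).toRingHom
  have hab : ∀ x : κ, a (φ x) = b (ψ x) := by
    intro x
    simp only [a, b, RingHom.comp_apply]
    congr 1
    have h1 := (Algebra.TensorProduct.algebraMap_apply (R := κ) (S := κ) (A := K) (B := κq) x)
    have h2 := (Algebra.TensorProduct.algebraMap_apply' (R := κ) (A := K) (B := κq) x)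
    exact h1.symm.trans h2
  let _ : Algebra K L := a.toAlgebra
  let _ : Algebra R L := (b.comp (algebraMap R κq)).toAlgebra
  let _ : Algebra A L := (a.comp (algebraMap A K)).toAlgebra
  refine ⟨L, inferInstance, inferInstance, inferInstance, inferInstance,
    IsScalarTower.of_algebraMap_eq fun x => rfl, IsScalarTower.of_algebraMap_eq fun x => ?_⟩
  change a (algebraMap A K x) = b (algebraMap R κq (algebraMap A R x))
  have h1 : φ (algebraMap A κ x) = algebraMap A K x := Ideal.ResidueField.lift_algebraMap _ _ _ _ _
  have h2 : ψ (algebraMap A κ x) = algebraMap R κq (algebraMap A R x) :=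
    Ideal.ResidueField.map_algebraMap _ _ _ _ _
  rw [← h1, hab, h2]

theorem exists_subalgebra (hspread : Spread.{u}) (A₀ B₀ R : Type u) [CommRing A₀]
    [IsNoetherianRing A₀] [CommRing B₀] [Algebra A₀ B₀] [Algebra.FiniteType A₀ B₀] [CommRing R]
    [Algebra A₀ R] (h : GI R (R ⊗[A₀] B₀)) :
    ∃ A₁ : Subalgebra A₀ R, Algebra.FiniteType A₀ A₁ ∧ GI A₁ (A₁ ⊗[A₀] B₀) := by
  obtain ⟨A₁, hft, hA₁⟩ := Flat2G.ApproxFactor.exists_finiteType_factor (A₀ := A₀) (A := R)
    {p : PrimeSpectrum A₀ | ∀ (K : Type u) [Field K] [Algebra A₀ K],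
      RingHom.ker (algebraMap A₀ K) = p.asIdeal → IsDomain (K ⊗[A₀] B₀)}
    (by
      intro p hp
      -- spreading out over `A₀ / p`
      let D := A₀ ⧸ p.asIdeal
      have hD : IsDomain D := inferInstance
      have hN : IsNoetherianRing D := inferInstance
      have hft : Algebra.FiniteType D (D ⊗[A₀] B₀) := inferInstance
      obtain ⟨a, ha, haK⟩ := hspread D (D ⊗[A₀] B₀) (by
        intro K _ _ hinj
        let _ : Algebra A₀ K := Algebra.compHom K (algebraMap A₀ D)
        have : IsScalarTower A₀ D K := IsScalarTower.of_algebraMap_eq fun _ => rfl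
        have hker : RingHom.ker (algebraMap A₀ K) = p.asIdeal := by
          ext x
          rw [RingHom.mem_ker]
          have h1 : algebraMap A₀ K x = algebraMap D K (algebraMap A₀ D x) := rfl
          rw [h1, map_eq_zero_iff _ hinj]
          exact Ideal.Quotient.eq_zero_iff_mem
        have := hp K hker
        exact (Algebra.TensorProduct.cancelBaseChange A₀ D K K B₀).toMulEquiv.isDomain)
      obtain ⟨f, rfl⟩ := Ideal.Quotient.mk_surjective a
      refine ⟨f, fun hf => ha (Ideal.Quotient.eq_zero_iff_mem.2 hf), ?_⟩
      intro q hpq hfq K _ _ hker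
      let φ : D →+* K := Ideal.Quotient.lift p.asIdeal (algebraMap A₀ K) (fun x hx => by
        have : x ∈ RingHom.ker (algebraMap A₀ K) := by rw [hker]; exact hpq hx
        exact this)
      let _ : Algebra D K := φ.toAlgebra
      have : IsScalarTower A₀ D K := IsScalarTower.of_algebraMap_eq fun _ => rfl
      have := haK K (by
        change algebraMap A₀ K f ≠ 0
        intro h0
        apply hfq
        rw [← hker]
        exact h0)
      exact (Algebra.TensorProduct.cancelBaseChange A₀ D K K B₀).symm.toMulEquiv.isDomain)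
    (by
      intro q K _ _ hker
      obtain ⟨L, _, _, _, _, h1, h2⟩ := exists_common_extension q K hker
      have := h L
      have h3 : IsDomain (L ⊗[A₀] B₀) :=
        (Algebra.TensorProduct.cancelBaseChange A₀ R L L B₀).symm.toMulEquiv.isDomain
      exact isDomain_of_extension K L h3)
  refine ⟨A₁, hft, ?_⟩
  intro K _ _
  let _ : Algebra A₀ K := Algebra.compHom K (algebraMap A₀ A₁)
  have : IsScalarTower A₀ A₁ K := IsScalarTower.of_algebraMap_eq fun _ => rfl
  have hprime : (RingHom.ker (algebraMap A₁ K)).IsPrime := RingHom.ker_isPrime _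
  have := hA₁ ⟨RingHom.ker (algebraMap A₁ K), hprime⟩ K (by
    ext x
    rfl)
  exact (Algebra.TensorProduct.cancelBaseChange A₀ A₁ K K B₀).toMulEquiv.isDomain

end Groth.Agent.FlatB.GeomIntApprox
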