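import Groth.Agent.FlatB.GeomIntMain
import Groth.Agent.FlatB.FlatDescGlobal
import Mathlib.RingTheory.Extension.Presentation.Core

/-!
# Stacks 05FT in algebraic form, from spreading out of geometric integrality
-/

set_option autoImplicit false
universe u

open TensorProduct

namespace Groth.Agent.FlatB.GeomIntFinal

theorem aux (hspread : GeomIntApprox.Spread.{u}) {A B : Type u} [CommRing A]
    [CommRing B] [Algebra A B] [Module.Flat A B]
    (h : ∀ (K : Type u) [Field K] [Algebra A K], IsDomain (K ⊗[A] B))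
    (A₀ M : Type u) [CommRing A₀] [IsNoetherianRing A₀] [CommRing M] [Algebra A₀ M] [Algebra A₀ A]
    [Algebra.FiniteType A₀ M] (e : A ⊗[A₀] M ≃ₐ[A] B) : Module.Projective A B := by
  have h5 : Module.Flat A (A ⊗[A₀] M) := Module.Flat.of_linearEquiv e.toLinearEquiv
  obtain ⟨A₂, i1, i2, i3, h6, h7, h8⟩ := FlatDescGlobal.exists_flat_model (A := A₀) (B := M) (R := A)
  have h9 : IsNoetherianRing A₂ := Algebra.FiniteType.isNoetherianRing A₀ A₂
  have h10 : Algebra.FiniteType A₂ (A₂ ⊗[A₀] M) := inferInstance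
  let e₂ : A ⊗[A₂] (A₂ ⊗[A₀] M) ≃ₐ[A] A ⊗[A₀] M :=
    Algebra.TensorProduct.cancelBaseChange A₀ A₂ A A M
  exact GeomIntMain.projective_of_model hspread h A₂ (A₂ ⊗[A₀] M) (e₂.trans e)

theorem projective_of_spread (hspread : GeomIntApprox.Spread.{u}) {A B : Type u} [CommRing A]
    [CommRing B] [Algebra A B] [Module.Flat A B] [Algebra.FinitePresentation A B]
    (h : ∀ (K : Type u) [Field K] [Algebra A K], IsDomain (K ⊗[A] B)) :
    Module.Projective A B := by
  let P := Algebra.Presentation.ofFinitePresentation A B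
  let M := P.ModelOfHasCoeffs P.Core
  let e : A ⊗[P.Core] M ≃ₐ[A] B := P.tensorModelOfHasCoeffsEquiv P.Core
  have h1 : Algebra.FiniteType ℤ P.Core := inferInstance
  have h2 : IsNoetherianRing P.Core := Algebra.FiniteType.isNoetherianRing ℤ P.Core
  have h3 : Algebra.FinitePresentation P.Core M := inferInstance
  have h4 : Algebra.FiniteType P.Core M := Algebra.FiniteType.of_finitePresentation
  exact aux hspread h P.Core M e

end Groth.Agent.FlatB.GeomIntFinal
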