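import Groth.Agent.FlatB.GeomIntApprox
import Groth.Agent.Flat2A.GeomIntProj

/-!
# Projectivity of flat finitely presented algebras with geometrically integral fibres (algebraic form)
-/

set_option autoImplicit false
universe u

open TensorProduct

namespace Groth.Agent.FlatB.GeomIntMain

open GeomIntApprox

theorem projective_of_model (hspread : Spread.{u}) {R B : Type u} [CommRing R] [CommRing B]
    [Algebra R B] (h : ∀ (K : Type u) [Field K] [Algebra R K], IsDomain (K ⊗[R] B))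
    (A₀ B₀ : Type u) [CommRing A₀] [IsNoetherianRing A₀] [CommRing B₀] [Algebra A₀ B₀]
    [Algebra A₀ R] [Algebra.FiniteType A₀ B₀] [Module.Flat A₀ B₀]
    (e : R ⊗[A₀] B₀ ≃ₐ[R] B) : Module.Projective R B := by
  have hGI : GI R (R ⊗[A₀] B₀) := by
    intro K _ _
    have := h K
    exact (Algebra.TensorProduct.congr (AlgEquiv.refl (R := R) (A₁ := K)) e).toMulEquiv.isDomain
  obtain ⟨A₁, hft, hA₁⟩ := exists_subalgebra hspread A₀ B₀ R hGI
  have : IsNoetherianRing A₁ := Algebra.FiniteType.isNoetherianRing A₀ A₁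
  have : Algebra.FiniteType A₁ (A₁ ⊗[A₀] B₀) := inferInstance
  have : Module.Flat A₁ (A₁ ⊗[A₀] B₀) := inferInstance
  have hproj : Module.Projective A₁ (A₁ ⊗[A₀] B₀) :=
    Flat2A.GeomIntProj.projective_of_noetherian hA₁
  have h1 : Module.Projective R (R ⊗[A₁] (A₁ ⊗[A₀] B₀)) := inferInstance
  let e' : R ⊗[A₁] (A₁ ⊗[A₀] B₀) ≃ₐ[R] R ⊗[A₀] B₀ :=
    Algebra.TensorProduct.cancelBaseChange A₀ A₁ R R B₀
  exact Module.Projective.of_equiv (e'.trans e).toLinearEquiv

end Groth.Agent.FlatB.GeomIntMain
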