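import Groth.Agent.Flat2A.GeomInt
import Mathlib.AlgebraicGeometry.Morphisms.Flat
import Mathlib.AlgebraicGeometry.Morphisms.FinitePresentation
import Mathlib.AlgebraicGeometry.Geometrically.Integral

/-!
# From affine schemes to rings for geometrically integral morphisms
-/

set_option autoImplicit false
universe u

open TensorProduct AlgebraicGeometry CategoryTheory Limits

namespace Groth.Agent.FlatB.GeomIntSch

/-- for a morphism of affine schemes with geometrically integral fibres, the ring map on global sections
has geometrically integral fibres -/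
theorem geomIntegralFibres_appTop {X S : Scheme.{u}} (f : X ⟶ S) [IsAffine X] [IsAffine S]
    [GeometricallyIntegral f] :
    @FlatCA.GeomIntegralFibres Γ(S, ⊤) Γ(X, ⊤) _ _ (f.appTop).hom.toAlgebra := by
  let _ : Algebra Γ(S, ⊤) Γ(X, ⊤) := (f.appTop).hom.toAlgebra
  have h1 : Spec.map (CommRingCat.ofHom (algebraMap Γ(S, ⊤) Γ(X, ⊤))) =
      X.isoSpec.inv ≫ f ≫ S.isoSpec.hom := by
    rw [← Scheme.isoSpec_hom_naturality, Iso.inv_hom_id_assoc]
    rfl
  change GeometricallyIntegral _
  rw [h1]
  have : MorphismProperty.IsStableUnderBaseChange @GeometricallyIntegral.{u} := inferInstance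
  have : MorphismProperty.RespectsIso @GeometricallyIntegral.{u} :=
    MorphismProperty.IsStableUnderBaseChange.respectsIso
  exact (MorphismProperty.cancel_left_of_respectsIso @GeometricallyIntegral _ _).mpr
    ((MorphismProperty.cancel_right_of_respectsIso @GeometricallyIntegral _ _).mpr inferInstance)

theorem flat_appTop {X S : Scheme.{u}} (f : X ⟶ S) [IsAffine X] [IsAffine S] [Flat f] :
    @Module.Flat Γ(S, ⊤) Γ(X, ⊤) _ _ (f.appTop).hom.toAlgebra.toModule := by
  exact (HasRingHomProperty.iff_of_isAffine (P := @Flat) (f := f)).mp inferInstance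

theorem finitePresentation_appTop {X S : Scheme.{u}} (f : X ⟶ S) [IsAffine X] [IsAffine S]
    [LocallyOfFinitePresentation f] :
    @Algebra.FinitePresentation Γ(S, ⊤) Γ(X, ⊤) _ _ (f.appTop).hom.toAlgebra := by
  exact (HasRingHomProperty.iff_of_isAffine (P := @LocallyOfFinitePresentation) (f := f)).mp
    inferInstance

end Groth.Agent.FlatB.GeomIntSch
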