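import Groth.Prelude.Def_Found
import Mathlib.LinearAlgebra.TensorProduct.RightExactness
import Mathlib.LinearAlgebra.TensorProduct.Finiteness
import Mathlib.LinearAlgebra.DirectSum.Finsupp
import Mathlib.RingTheory.AdicCompletion.Basic
import Mathlib.RingTheory.Flat.Basic

/-!
# Mittag-Leffler modules over complete rings

`isMittagLeffler_of_isAdicComplete`: `R` an `I`-adically complete ring, `M` a module such that all
`M / I^n M` are projective over `R / I^n` (expressed by a lifting property) and such that `M ⊗ Q` is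
`I`-adically separated for all finite modules `Q`.  Then `M` is Mittag-Leffler.
-/

set_option autoImplicit false

universe u

namespace Groth.Agent.FlatB.MLComplete

open TensorProduct

variable {R : Type u} [CommRing R] (I : Ideal R) (M : Type u) [AddCommGroup M] [Module R M]

/-- `R / I^n`, as an `R`-module. -/
abbrev Rn (n : ℕ) : Type u := R ⧸ (I ^ n • ⊤ : Submodule R R)

/-- `M / I^n M`, as an `R`-module. -/
abbrev Mn (n : ℕ) : Type u := M ⧸ (I ^ n • ⊤ : Submodule R M)

/-- The canonical surjection from a free `R / I^n`-module onto `M / I^n M`. -/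
noncomputable def pin (n : ℕ) : (M →₀ Rn I n) →ₗ[R] Mn I M n :=
  Finsupp.lsum R fun m => Submodule.mapQ _ _ (LinearMap.toSpanSingleton R M m) (by
    rw [Submodule.smul_le]
    intro a ha r _
    rw [Submodule.mem_comap, map_smul]
    exact Submodule.smul_mem_smul ha trivial)

theorem pin_single (n : ℕ) (m : M) (r : R) :
    pin I M n (Finsupp.single m (Submodule.Quotient.mk r)) = Submodule.Quotient.mk (r • m) := by
  rw [pin, Finsupp.lsum_single]
  rfl

theorem pin_surjective (n : ℕ) : Function.Surjective (pin I M n) := by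
  intro x
  obtain ⟨m, rfl⟩ := Submodule.Quotient.mk_surjective _ x
  exact ⟨Finsupp.single m (Submodule.Quotient.mk 1), by rw [pin_single, one_smul]⟩

/-- The transition map. -/
noncomputable def trans (n : ℕ) : (M →₀ Rn I (n + 1)) →ₗ[R] (M →₀ Rn I n) :=
  Finsupp.mapRange.linearMap (Submodule.factorPow I R (Nat.le_succ n))

omit [AddCommGroup M] [Module R M] in
theorem trans_single (n : ℕ) (m : M) (r : R) :
    trans I M n (Finsupp.single m (Submodule.Quotient.mk r)) =
      Finsupp.single m (Submodule.Quotient.mk r) := by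
  simp [trans]

theorem trans_surjective (n : ℕ) : Function.Surjective (trans I M n) := by
  intro x
  induction x using Finsupp.induction_linear with
  | zero => exact ⟨0, map_zero _⟩
  | add f g hf hg =>
    obtain ⟨a, rfl⟩ := hf
    obtain ⟨b, rfl⟩ := hg
    exact ⟨a + b, map_add _ _ _⟩
  | single m r =>
    obtain ⟨r, rfl⟩ := Submodule.Quotient.mk_surjective _ r
    exact ⟨_, trans_single I M n m r⟩

theorem factorPow_pin (n : ℕ) (x : M →₀ Rn I (n + 1)) :
    Submodule.factorPow I M (Nat.le_succ n) (pin I M (n + 1) x) = pin I M n (trans I M n x) := by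
  induction x using Finsupp.induction_linear with
  | zero => simp
  | add f g hf hg => simp only [map_add, hf, hg]
  | single m r =>
    obtain ⟨r, rfl⟩ := Submodule.Quotient.mk_surjective _ r
    rw [trans_single, pin_single, pin_single]
    rfl

omit [AddCommGroup M] [Module R M] in
theorem smul_finsupp_eq_zero (n : ℕ) (a : R) (ha : a ∈ I ^ n) (x : M →₀ Rn I n) : a • x = 0 := by
  ext m
  rw [Finsupp.smul_apply, Finsupp.zero_apply]
  obtain ⟨r, hr⟩ := Submodule.Quotient.mk_surjective _ (x m)
  rw [← hr, ← Submodule.Quotient.mk_smul, Submodule.Quotient.mk_eq_zero]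
  exact Submodule.smul_mem_smul ha trivial

/-- kernels surject onto kernels -/
theorem exists_ker_lift (n : ℕ) (x : M →₀ Rn I n) (hx : pin I M n x = 0) :
    ∃ y : M →₀ Rn I (n + 1), pin I M (n + 1) y = 0 ∧ trans I M n y = x := by
  obtain ⟨y₀, hy₀⟩ := trans_surjective I M n x
  have h1 : Submodule.factorPow I M (Nat.le_succ n) (pin I M (n + 1) y₀) = 0 := by
    rw [factorPow_pin, hy₀, hx]
  obtain ⟨z, hz⟩ := Submodule.Quotient.mk_surjective _ (pin I M (n + 1) y₀)
  have h2 : z ∈ (I ^ n • ⊤ : Submodule R M) := by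
    rw [← hz] at h1
    have h3 : (Submodule.Quotient.mk z : M ⧸ (I ^ n • ⊤ : Submodule R M)) = 0 := h1
    rwa [Submodule.Quotient.mk_eq_zero] at h3
  have h3 : ∀ z ∈ (I ^ n • ⊤ : Submodule R M), ∃ w : M →₀ Rn I (n + 1),
      pin I M (n + 1) w = Submodule.Quotient.mk z ∧ trans I M n w = 0 := by
    intro z hz
    refine Submodule.smul_induction_on hz ?_ ?_
    · intro a ha m _
      refine ⟨Finsupp.single m (Submodule.Quotient.mk a), pin_single _ _ _ _ _, ?_⟩
      rw [trans_single]
      have : (Submodule.Quotient.mk a : Rn I n) = 0 := by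
        rw [Submodule.Quotient.mk_eq_zero]
        have := Submodule.smul_mem_smul (N := (⊤ : Submodule R R)) ha (r := a) (n := 1) trivial
        simpa using this
      rw [this, Finsupp.single_zero]
    · intro x y hx hy
      obtain ⟨a, ha1, ha2⟩ := hx
      obtain ⟨b, hb1, hb2⟩ := hy
      exact ⟨a + b, by rw [map_add, ha1, hb1]; rfl, by rw [map_add, ha2, hb2, add_zero]⟩
  obtain ⟨w, hw1, hw2⟩ := h3 z h2
  exact ⟨y₀ - w, by rw [map_sub, hw1, hz, sub_self], by rw [map_sub, hw2, hy₀, sub_zero]⟩

/-- The lifting property expressing that `M / I^n M` is projective over `R / I^n`. -/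
def LiftProp (J : Ideal R) (M : Type u) [AddCommGroup M] [Module R M] : Prop :=
  ∀ (X Y : Type u) [AddCommGroup X] [Module R X] [AddCommGroup Y] [Module R Y],
    (∀ a ∈ J, ∀ x : X, a • x = 0) → ∀ (g : X →ₗ[R] Y), Function.Surjective g →
      ∀ h : M →ₗ[R] Y, ∃ h' : M →ₗ[R] X, g ∘ₗ h' = h

variable {I M}

theorem exists_succ (hlift : ∀ n, LiftProp (I ^ n) M) (n : ℕ) (s : M →ₗ[R] (M →₀ Rn I n))
    (hs : pin I M n ∘ₗ s = Submodule.mkQ _) :
    ∃ s' : M →ₗ[R] (M →₀ Rn I (n + 1)), pin I M (n + 1) ∘ₗ s' = Submodule.mkQ _ ∧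
      trans I M n ∘ₗ s' = s := by
  let g : (M →₀ Rn I (n + 1)) →ₗ[R] (M →₀ Rn I n) × Mn I M (n + 1) :=
    (trans I M n).prod (pin I M (n + 1))
  have hmem : ∀ m, (s m, (Submodule.Quotient.mk m : Mn I M (n + 1))) ∈ LinearMap.range g := by
    intro m
    obtain ⟨y₀, hy₀⟩ := pin_surjective I M (n + 1) (Submodule.Quotient.mk m)
    have h1 : pin I M n (s m - trans I M n y₀) = 0 := by
      rw [map_sub, ← factorPow_pin, hy₀]
      have : pin I M n (s m) = Submodule.Quotient.mk m := by
        rw [← LinearMap.comp_apply, hs]; rfl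
      rw [this]
      exact sub_self _
    obtain ⟨k, hk1, hk2⟩ := exists_ker_lift I M n _ h1
    refine ⟨y₀ + k, ?_⟩
    change (trans I M n (y₀ + k), pin I M (n + 1) (y₀ + k)) = _
    rw [map_add, map_add, hk1, hk2, hy₀, add_zero, add_sub_cancel]
  let h : M →ₗ[R] LinearMap.range g :=
    LinearMap.codRestrict _ (s.prod (Submodule.mkQ _)) hmem
  obtain ⟨s', hs'⟩ := hlift (n + 1) _ (LinearMap.range g) (fun a ha x => smul_finsupp_eq_zero I M (n + 1) a ha x)
    g.rangeRestrict g.surjective_rangeRestrict h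
  have key : ∀ m, g (s' m) = (s m, Submodule.Quotient.mk m) := by
    intro m
    have := congrArg Subtype.val (LinearMap.congr_fun hs' m)
    exact this
  refine ⟨s', ?_, ?_⟩
  · ext m
    exact congrArg Prod.snd (key m)
  · apply LinearMap.ext
    intro m
    exact congrArg Prod.fst (key m)

/-- A compatible system of sections. -/
theorem exists_sections (hlift : ∀ n, LiftProp (I ^ n) M) :
    ∃ s : ∀ n, M →ₗ[R] (M →₀ Rn I n), (∀ n, pin I M n ∘ₗ s n = Submodule.mkQ _) ∧
      ∀ n, trans I M n ∘ₗ s (n + 1) = s n := by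
  classical
  choose next h1 h2 using exists_succ hlift
  have h0 : pin I M 0 ∘ₗ (0 : M →ₗ[R] (M →₀ Rn I 0)) = Submodule.mkQ _ := by
    have : Subsingleton (Mn I M 0) := by
      rw [Submodule.Quotient.subsingleton_iff]
      simp
    exact Subsingleton.elim _ _
  let S : ∀ n, {s : M →ₗ[R] (M →₀ Rn I n) // pin I M n ∘ₗ s = Submodule.mkQ _} := fun n =>
    Nat.rec ⟨0, h0⟩ (fun n s => ⟨next n s.1 s.2, h1 n s.1 s.2⟩) n
  exact ⟨fun n => (S n).1, fun n => (S n).2, fun n => h2 n (S n).1 (S n).2⟩

/-- The functionals `M → R`. -/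
theorem exists_functionals [IsAdicComplete I R] (hlift : ∀ n, LiftProp (I ^ n) M) :
    ∃ (L : M → (M →ₗ[R] R)) (s : ∀ n, M →ₗ[R] (M →₀ Rn I n)),
      (∀ n, pin I M n ∘ₗ s n = Submodule.mkQ _) ∧
      ∀ n a, Submodule.mkQ _ ∘ₗ L a = Finsupp.lapply a ∘ₗ s n := by
  obtain ⟨s, hs1, hs2⟩ := exists_sections hlift
  have hcomp : ∀ (a : M) {m n : ℕ} (hle : m ≤ n), Submodule.factorPow I R hle ∘ₗ
      ((Finsupp.lapply a : (M →₀ Rn I n) →ₗ[R] Rn I n) ∘ₗ s n) = Finsupp.lapply a ∘ₗ s m := by
    intro a m n hle
    induction n, hle using Nat.le_induction with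
    | base =>
      apply LinearMap.ext
      intro x
      simp only [LinearMap.comp_apply]
      obtain ⟨r, hr⟩ := Submodule.Quotient.mk_surjective _ ((s m x) a)
      rw [Finsupp.lapply_apply, ← hr]
      rfl
    | succ n hmn ih =>
      rw [← ih, ← hs2 n]
      apply LinearMap.ext
      intro x
      simp only [LinearMap.comp_apply, trans, Finsupp.lapply_apply, Finsupp.mapRange.linearMap_apply,
        Finsupp.mapRange_apply]
      obtain ⟨r, hr⟩ := Submodule.Quotient.mk_surjective _ ((s (n + 1) x) a)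
      rw [← hr]
      rfl
  refine ⟨fun a => IsAdicComplete.lift I (fun n => Finsupp.lapply a ∘ₗ s n) (hcomp a), s, hs1, ?_⟩
  intro n a
  exact IsAdicComplete.mkQ_comp_lift I (hcomp a) n

theorem mem_smul_top_of_rTensor_mkQ_eq_zero (J : Ideal R) (T : Type u) [AddCommGroup T] [Module R T]
    (x : M ⊗[R] T) (hx : (Submodule.mkQ (J • ⊤ : Submodule R M)).rTensor T x = 0) :
    x ∈ (J • ⊤ : Submodule R (M ⊗[R] T)) := by
  have hex : Function.Exact ((J • ⊤ : Submodule R M).subtype.rTensor T)
      ((Submodule.mkQ (J • ⊤ : Submodule R M)).rTensor T) :=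
    rTensor_exact T (LinearMap.exact_subtype_mkQ _) (Submodule.mkQ_surjective _)
  obtain ⟨y, rfl⟩ := (hex x).1 hx
  induction y using TensorProduct.induction_on with
  | zero => simp
  | add a b ha hb =>
    rw [map_add]
    refine Submodule.add_mem _ (ha ?_) (hb ?_) <;>
    exact hex.apply_apply_eq_zero _
  | tmul m t =>
    obtain ⟨m, hm⟩ := m
    simp only [LinearMap.rTensor_tmul, Submodule.subtype_apply]
    clear hx
    refine Submodule.smul_induction_on hm ?_ ?_
    · intro a ha m _
      rw [← TensorProduct.smul_tmul']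
      exact Submodule.smul_mem_smul ha trivial
    · intro x y hx hy
      rw [TensorProduct.add_tmul]
      exact Submodule.add_mem _ hx hy

/-- **Mittag-Leffler modules over complete rings.** -/
theorem isMittagLeffler_of_isAdicComplete [IsAdicComplete I R] (hlift : ∀ n, LiftProp (I ^ n) M)
    (hK : ∀ (Q : Type u) [AddCommGroup Q] [Module R Q] [Module.Finite R Q] (x : M ⊗[R] Q),
      (∀ n, x ∈ (I ^ n • ⊤ : Submodule R (M ⊗[R] Q))) → x = 0) :
    CAlg.IsMittagLeffler R M := by
  classical
  obtain ⟨L, s, hs, hL⟩ := exists_functionals hlift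
  -- elements killed by all functionals are in all `I^n`
  have key : ∀ (T : Type u) [AddCommGroup T] [Module R T] (x : M ⊗[R] T),
      (∀ a, (L a).rTensor T x = 0) → ∀ n, x ∈ (I ^ n • ⊤ : Submodule R (M ⊗[R] T)) := by
    intro T _ _ x hx n
    apply mem_smul_top_of_rTensor_mkQ_eq_zero
    rw [← hs n, LinearMap.rTensor_comp, LinearMap.comp_apply]
    have h0 : (s n).rTensor T x = 0 := by
      apply (TensorProduct.finsuppLeft R R (Rn I n) T M).injective
      rw [map_zero]
      ext a
      rw [TensorProduct.finsuppLeft_apply, Finsupp.zero_apply, ← LinearMap.comp_apply,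
        ← LinearMap.rTensor_comp, ← hL n a, LinearMap.rTensor_comp, LinearMap.comp_apply, hx a,
        map_zero]
    rw [h0, map_zero]
  intro ι Q _ _
  rw [injective_iff_map_eq_zero]
  intro x hx
  -- the functionals kill `x`
  have hx1 : ∀ a, (L a).rTensor (∀ i, Q i) x = 0 := by
    intro a
    apply (TensorProduct.lid R (∀ i, Q i)).injective
    rw [map_zero]
    funext i
    have h2 : ∀ y : M ⊗[R] (∀ i, Q i), (TensorProduct.lid R (∀ i, Q i)) ((L a).rTensor _ y) i =
        (TensorProduct.lid R (Q i)) ((L a).rTensor (Q i) ((TensorProduct.piRightHom R R M Q y) i)) := by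
      intro y
      induction y using TensorProduct.induction_on with
      | zero => simp
      | tmul m q => simp
      | add y z hy hz => simp only [map_add, Pi.add_apply, hy, hz]
    rw [h2, hx]
    simp
  -- a finitely generated submodule supporting `x`
  obtain ⟨T', hT', hxT'⟩ : ∃ T' : Submodule R (∀ i, Q i), T'.FG ∧
      x ∈ LinearMap.range (T'.subtype.lTensor M) := by
    obtain ⟨N', hfg, hN'⟩ := TensorProduct.exists_finite_submodule_right_of_setFinite {x}
      (Set.finite_singleton x)
    exact ⟨N', Module.Finite.iff_fg.1 hfg, hN' rfl⟩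
  obtain ⟨x', rfl⟩ := hxT'
  have : Module.Finite R T' := Module.Finite.iff_fg.2 hT'
  have hx' : x' = 0 := by
    apply hK T'
    apply key
    intro a
    have h3 := hx1 a
    have h4 : ∀ y : M ⊗[R] T', (TensorProduct.lid R (∀ i, Q i)) ((L a).rTensor _
        (T'.subtype.lTensor M y)) = T'.subtype ((TensorProduct.lid R T') ((L a).rTensor T' y)) := by
      intro y
      induction y using TensorProduct.induction_on with
      | zero => simp
      | tmul m q => simp
      | add y z hy hz => simp only [map_add, hy, hz]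
    apply (TensorProduct.lid R T').injective
    apply T'.subtype_injective
    rw [← h4, h3]
    simp
  rw [hx', map_zero]

end Groth.Agent.FlatB.MLComplete
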