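import Groth.Agent.FlatB.PushPair
import Mathlib.AlgebraicGeometry.Morphisms.Integral

/-!
# Gluing the pushout of a closed immersion (Ferrand)

The scheme `Po i j` is the colimit of the locally directed diagram `F i j` of `PushPair`.
-/

set_option autoImplicit false

open AlgebraicGeometry CategoryTheory Limits TopologicalSpace Opposite
open Groth.Agent.FlatB.PushRing Groth.Agent.FlatB.PushPair

universe u

namespace Groth.Agent.FlatB.PushGlue

/-- Glueing morphisms along a family of jointly surjective open immersions such that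
every point in an intersection of two members lies in a common smaller one. -/
theorem exists_glue {X T : Scheme.{u}} {I : Type u} (S : I → Scheme.{u}) (g : ∀ k, S k ⟶ X)
    [∀ k, IsOpenImmersion (g k)] (f : ∀ k, S k ⟶ T)
    (hcov : ∀ x : X, ∃ k, x ∈ Set.range (g k))
    (hf : ∀ (k l : I) (x : X), x ∈ Set.range (g k) → x ∈ Set.range (g l) →
      ∃ (m : I) (α : S m ⟶ S k) (β : S m ⟶ S l), α ≫ g k = g m ∧ β ≫ g l = g m ∧
        x ∈ Set.range (g m) ∧ α ≫ f k = β ≫ f l) :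
    ∃ h : X ⟶ T, ∀ k, g k ≫ h = f k := by
  let 𝒰 : X.OpenCover :=
    { I₀ := I
      X := S
      f := g
      mem₀ := by
        rw [Scheme.presieve₀_mem_precoverage_iff]
        exact ⟨hcov, inferInstance⟩ }
  refine ⟨𝒰.glueMorphisms f ?_, fun k => 𝒰.ι_glueMorphisms f _ k⟩
  intro k l
  change pullback.fst (g k) (g l) ≫ f k = pullback.snd (g k) (g l) ≫ f l
  apply Scheme.hom_ext_of_forall
  intro y
  obtain ⟨m, α, β, h1, h2, ⟨s, hs⟩, h3⟩ := hf k l ((pullback.fst (g k) (g l) ≫ g k) y)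
    ⟨pullback.fst (g k) (g l) y, rfl⟩
    (by rw [pullback.condition]; exact ⟨pullback.snd (g k) (g l) y, rfl⟩)
  let γ : S m ⟶ pullback (g k) (g l) := pullback.lift α β (h1.trans h2.symm)
  have hγ : γ ≫ (pullback.fst (g k) (g l) ≫ g k) = g m := by
    rw [← Category.assoc, pullback.lift_fst, h1]
  have : IsOpenImmersion γ := by
    have : IsOpenImmersion (γ ≫ (pullback.fst (g k) (g l) ≫ g k)) := by rw [hγ]; infer_instance
    exact .of_comp _ (pullback.fst (g k) (g l) ≫ g k)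
  have hγs : γ s = y := by
    apply (pullback.fst (g k) (g l) ≫ g k).isOpenEmbedding.injective
    rw [← Scheme.Hom.comp_apply, hγ, hs]
  refine ⟨γ.opensRange, ⟨s, hγs⟩, ?_⟩
  rw [← cancel_epi γ.isoOpensRange.hom, Scheme.Hom.isoOpensRange_hom_ι_assoc,
    Scheme.Hom.isoOpensRange_hom_ι_assoc, ← Category.assoc, pullback.lift_fst, ← Category.assoc,
    pullback.lift_snd, h3]

variable {X Y Z : Scheme.{u}} (i : Z ⟶ X) (j : Z ⟶ Y)

section

variable {i j}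

/-- The map to the chart from `U`. -/
noncomputable def aS (P : Pair i j) : Spec Γ(X, P.U) ⟶ Spec (CommRingCat.of P.R) :=
  Spec.map (CommRingCat.ofHom (eqL.fst P.p P.q))

/-- The map to the chart from `V`. -/
noncomputable def bS (P : Pair i j) : Spec Γ(Y, P.V) ⟶ Spec (CommRingCat.of P.R) :=
  Spec.map (CommRingCat.ofHom (eqL.snd P.p P.q))

theorem aS_smap {P Q : Pair i j} (h : P ≤ Q) :
    aS P ≫ Pair.smap h = Spec.map (X.presheaf.map (homOfLE h.1).op) ≫ aS Q := by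
  rw [aS, aS, Pair.smap, ← Spec.map_comp, ← Spec.map_comp]
  congr 1

theorem bS_smap {P Q : Pair i j} (h : P ≤ Q) :
    bS P ≫ Pair.smap h = Spec.map (Y.presheaf.map (homOfLE h.2).op) ≫ bS Q := by
  rw [bS, bS, Pair.smap, ← Spec.map_comp, ← Spec.map_comp]
  congr 1

/-- membership in basic opens, `X` side -/
theorem aS_mem {P : Pair i j} (x : Spec Γ(X, P.U)) (c : P.R) :
    P.hU.fromSpec x ∈ X.basicOpen c.1.1 ↔ c ∉ (aS P x).asIdeal := by
  have h1 := P.hU.fromSpec_preimage_basicOpen (f := c.1.1)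
  have h2 : x ∈ P.hU.fromSpec ⁻¹ᵁ X.basicOpen c.1.1 ↔
      x ∈ (PrimeSpectrum.basicOpen c.1.1 : Opens (PrimeSpectrum Γ(X, P.U))) := by rw [h1]; rfl
  exact h2

/-- membership in basic opens, `Y` side -/
theorem bS_mem {P : Pair i j} (x : Spec Γ(Y, P.V)) (c : P.R) :
    P.hV.fromSpec x ∈ Y.basicOpen c.1.2 ↔ c ∉ (bS P x).asIdeal := by
  have h1 := P.hV.fromSpec_preimage_basicOpen (f := c.1.2)
  have h2 : x ∈ P.hV.fromSpec ⁻¹ᵁ Y.basicOpen c.1.2 ↔
      x ∈ (PrimeSpectrum.basicOpen c.1.2 : Opens (PrimeSpectrum Γ(Y, P.V))) := by rw [h1]; rfl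
  exact h2

theorem aS_bS_surj [IsClosedImmersion i] {P : Pair i j} (y : Spec (CommRingCat.of P.R)) :
    (∃ x, aS P x = y) ∨ ∃ x, bS P x = y :=
  eqL.exists_prime (q := P.q) P.p_surjective y

end

variable [IsClosedImmersion i]

/-- The glued scheme. -/
noncomputable def Po : Scheme.{u} := colimit (Pair.F i j)

variable {i j}

/-- The charts of the glued scheme. -/
noncomputable def ι (P : Pair i j) : Spec (CommRingCat.of P.R) ⟶ Po i j := colimit.ι (Pair.F i j) P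

instance (P : Pair i j) : IsOpenImmersion (ι P) :=
  inferInstanceAs (IsOpenImmersion (colimit.ι (Pair.F i j) P))

theorem smap_ι {P Q : Pair i j} (h : P ≤ Q) : Pair.smap h ≫ ι Q = ι P :=
  colimit.w (Pair.F i j) (homOfLE h)

theorem ι_surj (y : Po i j) : ∃ (P : Pair i j) (z : Spec (CommRingCat.of P.R)), ι P z = y :=
  Scheme.IsLocallyDirected.ι_jointly_surjective (Pair.F i j) y

theorem ι_eq {P Q : Pair i j} {y : Spec (CommRingCat.of P.R)} {z : Spec (CommRingCat.of Q.R)}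
    (h : ι P y = ι Q z) : ∃ (S : Pair i j) (hP : S ≤ P) (hQ : S ≤ Q)
      (w : Spec (CommRingCat.of S.R)), Pair.smap hP w = y ∧ Pair.smap hQ w = z := by
  obtain ⟨S, f, g, w, hf, hg⟩ := (Scheme.IsLocallyDirected.ι_eq_ι_iff (Pair.F i j)).mp h
  exact ⟨S, leOfHom f, leOfHom g, w, hf, hg⟩

/-- The open subset of the glued scheme corresponding to a pair. -/
noncomputable def O (P : Pair i j) : (Po i j).Opens := (ι P).opensRange

theorem isAffineOpen_O (P : Pair i j) : IsAffineOpen (O P) := isAffineOpen_opensRange _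

theorem O_mono {P Q : Pair i j} (h : P ≤ Q) : O P ≤ O Q := by
  rintro _ ⟨z, rfl⟩
  rw [← smap_ι h]
  exact ⟨Pair.smap h z, rfl⟩

variable (H : ∀ y : Y, ∃ P : Pair i j, y ∈ P.V)

include H in
theorem exists_pair (x : X) : ∃ P : Pair i j, x ∈ P.U := by
  by_cases hx : x ∈ Set.range i
  · obtain ⟨z, rfl⟩ := hx
    obtain ⟨P, hP⟩ := H (j z)
    refine ⟨P, ?_⟩
    have h1 : z ∈ j ⁻¹ᵁ P.V := hP
    rw [P.hWV, ← P.hWU] at h1
    exact h1
  · let O : X.Opens := ⟨(Set.range i)ᶜ, i.isClosedEmbedding.isClosed_range.isOpen_compl⟩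
    obtain ⟨U, hU, hxU, hUO⟩ := exists_isAffineOpen_mem_and_subset (U := O) hx
    refine ⟨⟨U, ⊥, ⊥, hU, isAffineOpen_bot Y, ?_, rfl⟩, hxU⟩
    rw [eq_bot_iff]
    intro z hz
    exact hUO hz ⟨z, rfl⟩

include H in
theorem exists_a : ∃ a : X ⟶ Po i j, ∀ P : Pair i j, P.hU.fromSpec ≫ a = aS P ≫ ι P := by
  apply exists_glue (fun P : Pair i j => Spec Γ(X, P.U)) (fun P => P.hU.fromSpec)
    (fun P => aS P ≫ ι P)
  · intro x
    obtain ⟨P, hP⟩ := exists_pair H x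
    exact ⟨P, by rw [P.hU.range_fromSpec]; exact hP⟩
  · intro P Q x hxP hxQ
    rw [IsAffineOpen.range_fromSpec] at hxP hxQ
    obtain ⟨c, hc1, hc2, hc3⟩ :=
      Pair.exists_basic_left P Q.U Q.V (Q.hWU.trans Q.hWV.symm) x hxQ hxP
    have h : P.basic c ≤ P := P.basic_le c
    have h' : P.basic c ≤ Q := ⟨hc2, hc3⟩
    refine ⟨P.basic c, Spec.map (X.presheaf.map (homOfLE h.1).op),
      Spec.map (X.presheaf.map (homOfLE h'.1).op), IsAffineOpen.map_fromSpec _ _ _,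
      IsAffineOpen.map_fromSpec _ _ _, ?_, ?_⟩
    · rw [IsAffineOpen.range_fromSpec]; exact hc1
    · rw [← Category.assoc, ← aS_smap h, ← Category.assoc, ← aS_smap h', Category.assoc, smap_ι,
        Category.assoc, smap_ι]

include H in
theorem exists_b : ∃ b : Y ⟶ Po i j, ∀ P : Pair i j, P.hV.fromSpec ≫ b = bS P ≫ ι P := by
  apply exists_glue (fun P : Pair i j => Spec Γ(Y, P.V)) (fun P => P.hV.fromSpec)
    (fun P => bS P ≫ ι P)
  · intro y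
    obtain ⟨P, hP⟩ := H y
    exact ⟨P, by rw [P.hV.range_fromSpec]; exact hP⟩
  · intro P Q x hxP hxQ
    rw [IsAffineOpen.range_fromSpec] at hxP hxQ
    obtain ⟨c, hc1, hc2, hc3⟩ :=
      Pair.exists_basic_right P Q.U Q.V (Q.hWU.trans Q.hWV.symm) x hxQ hxP
    have h : P.basic c ≤ P := P.basic_le c
    have h' : P.basic c ≤ Q := ⟨hc2, hc3⟩
    refine ⟨P.basic c, Spec.map (Y.presheaf.map (homOfLE h.2).op),
      Spec.map (Y.presheaf.map (homOfLE h'.2).op), IsAffineOpen.map_fromSpec _ _ _,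
      IsAffineOpen.map_fromSpec _ _ _, ?_, ?_⟩
    · rw [IsAffineOpen.range_fromSpec]; exact hc1
    · rw [← Category.assoc, ← bS_smap h, ← Category.assoc, ← bS_smap h', Category.assoc, smap_ι,
        Category.assoc, smap_ι]

section

variable (a : X ⟶ Po i j) (b : Y ⟶ Po i j) (ha : ∀ P : Pair i j, P.hU.fromSpec ≫ a = aS P ≫ ι P)
  (hb : ∀ P : Pair i j, P.hV.fromSpec ≫ b = bS P ≫ ι P)

include H ha in
theorem preimage_a (P : Pair i j) : a ⁻¹ᵁ (ι P).opensRange = P.hU.fromSpec.opensRange := by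
  apply le_antisymm
  · rintro x ⟨y, hy⟩
    obtain ⟨Q, hQ⟩ := exists_pair H x
    obtain ⟨x', rfl⟩ : x ∈ Set.range Q.hU.fromSpec := by rw [Q.hU.range_fromSpec]; exact hQ
    rw [← Scheme.Hom.comp_apply, ha] at hy
    obtain ⟨S, hSP, hSQ, w, hw1, hw2⟩ := ι_eq (z := aS Q x') hy
    obtain ⟨c, hc1, hc2, hc3⟩ :=
      Pair.exists_basic_prime hSQ P.U P.V (P.hWU.trans P.hWV.symm) hSP.1 hSP.2 w
    rw [P.hU.opensRange_fromSpec]
    apply hc2
    rw [aS_mem, ← hw2]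
    exact hc1
  · rintro _ ⟨x, rfl⟩
    refine ⟨aS P x, ?_⟩
    rw [← Scheme.Hom.comp_apply, ← ha, Scheme.Hom.comp_apply]

include H hb in
theorem preimage_b (P : Pair i j) : b ⁻¹ᵁ (ι P).opensRange = P.hV.fromSpec.opensRange := by
  apply le_antisymm
  · rintro x ⟨y, hy⟩
    obtain ⟨Q, hQ⟩ := H x
    obtain ⟨x', rfl⟩ : x ∈ Set.range Q.hV.fromSpec := by rw [Q.hV.range_fromSpec]; exact hQ
    rw [← Scheme.Hom.comp_apply, hb] at hy
    obtain ⟨S, hSP, hSQ, w, hw1, hw2⟩ := ι_eq (z := bS Q x') hy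
    obtain ⟨c, hc1, hc2, hc3⟩ :=
      Pair.exists_basic_prime hSQ P.U P.V (P.hWU.trans P.hWV.symm) hSP.1 hSP.2 w
    rw [P.hV.opensRange_fromSpec]
    apply hc3
    rw [bS_mem, ← hw2]
    exact hc1
  · rintro _ ⟨x, rfl⟩
    refine ⟨bS P x, ?_⟩
    rw [← Scheme.Hom.comp_apply, ← hb, Scheme.Hom.comp_apply]

include H ha in
theorem isPullback_a (P : Pair i j) : IsPullback (aS P) P.hU.fromSpec (ι P) a :=
  IsOpenImmersion.isPullback _ _ _ _ (ha P) (preimage_a H a ha P)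

include H hb in
theorem isPullback_b (P : Pair i j) : IsPullback (bS P) P.hV.fromSpec (ι P) b :=
  IsOpenImmersion.isPullback _ _ _ _ (hb P) (preimage_b H b hb P)

end

/-- Morphisms can be compared on jointly surjective open immersions. -/
theorem hom_ext_imm {X T : Scheme.{u}} {f g : X ⟶ T}
    (H : ∀ x : X, ∃ (S : Scheme.{u}) (e : S ⟶ X) (_ : IsOpenImmersion e),
      x ∈ Set.range e ∧ e ≫ f = e ≫ g) : f = g := by
  apply Scheme.hom_ext_of_forall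
  intro x
  obtain ⟨S, e, he, hx, h⟩ := H x
  refine ⟨e.opensRange, hx, ?_⟩
  rw [← cancel_epi e.isoOpensRange.hom, Scheme.Hom.isoOpensRange_hom_ι_assoc,
    Scheme.Hom.isoOpensRange_hom_ι_assoc, h]

omit [IsClosedImmersion i] in
/-- uniqueness on charts, affine case -/
theorem chart_hom_ext_aux {P : Pair i j} {T : Scheme.{u}} {T₀ : T.Opens} (hT₀ : IsAffineOpen T₀)
    {m₁ m₂ : Spec (CommRingCat.of P.R) ⟶ T} (h₁ : Set.range m₁ ⊆ T₀) (h₂ : Set.range m₂ ⊆ T₀)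
    (ha : aS P ≫ m₁ = aS P ≫ m₂) (hb : bS P ≫ m₁ = bS P ≫ m₂) : m₁ = m₂ := by
  have e₁ := IsOpenImmersion.lift_fac hT₀.fromSpec m₁ (by rw [hT₀.range_fromSpec]; exact h₁)
  have e₂ := IsOpenImmersion.lift_fac hT₀.fromSpec m₂ (by rw [hT₀.range_fromSpec]; exact h₂)
  obtain ⟨φ₁, hφ₁⟩ := Spec.map_surjective
    (IsOpenImmersion.lift hT₀.fromSpec m₁ (by rw [hT₀.range_fromSpec]; exact h₁))
  obtain ⟨φ₂, hφ₂⟩ := Spec.map_surjective
    (IsOpenImmersion.lift hT₀.fromSpec m₂ (by rw [hT₀.range_fromSpec]; exact h₂))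
  rw [← hφ₁] at e₁
  rw [← hφ₂] at e₂
  rw [← e₁, ← e₂, ← Category.assoc, ← Category.assoc, cancel_mono, aS, ← Spec.map_comp,
    ← Spec.map_comp] at ha
  rw [← e₁, ← e₂, ← Category.assoc, ← Category.assoc, cancel_mono, bS, ← Spec.map_comp,
    ← Spec.map_comp] at hb
  have ha' := Spec.map_injective ha
  have hb' := Spec.map_injective hb
  have : φ₁ = φ₂ := by
    ext x
    · exact congr($ha' x)
    · exact congr($hb' x)
  rw [← e₁, ← e₂, this]

/-- uniqueness on charts -/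
theorem chart_hom_ext {P : Pair i j} {T : Scheme.{u}}
    {m₁ m₂ : Spec (CommRingCat.of P.R) ⟶ T}
    (ha : aS P ≫ m₁ = aS P ≫ m₂) (hb : bS P ≫ m₁ = bS P ≫ m₂) : m₁ = m₂ := by
  apply hom_ext_imm
  intro y
  have hy : m₁ y = m₂ y := by
    rcases aS_bS_surj y with ⟨x, rfl⟩ | ⟨x, rfl⟩
    · rw [← Scheme.Hom.comp_apply, ha, Scheme.Hom.comp_apply]
    · rw [← Scheme.Hom.comp_apply, hb, Scheme.Hom.comp_apply]
  obtain ⟨T₀, hT₀, hyT, -⟩ := exists_isAffineOpen_mem_and_subset (U := ⊤) (x := m₁ y) trivial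
  obtain ⟨_, ⟨_, ⟨c, rfl⟩, rfl⟩, hc1, hc2⟩ :=
    PrimeSpectrum.isBasis_basic_opens.exists_subset_of_mem_open
    (show y ∈ ((m₁ ⁻¹ᵁ T₀ ⊓ m₂ ⁻¹ᵁ T₀ : (Spec (CommRingCat.of P.R)).Opens) : Set _) from
      ⟨hyT, by rw [hy] at hyT; exact hyT⟩) (m₁ ⁻¹ᵁ T₀ ⊓ m₂ ⁻¹ᵁ T₀).isOpen
  have hloc : IsLocAway (Pair.rmap (P.basic_le c)) c := Pair.isLocAway_rmap _ _ rfl rfl
  have hrange : (Pair.smap (P.basic_le c)).opensRange = PrimeSpectrum.basicOpen c :=
    opensRange_of_isLocAway hloc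
  have hmem : ∀ w, Pair.smap (P.basic_le c) w ∈ (m₁ ⁻¹ᵁ T₀ ⊓ m₂ ⁻¹ᵁ T₀ :
      (Spec (CommRingCat.of P.R)).Opens) := by
    intro w
    apply hc2
    rw [← hrange]
    exact ⟨w, rfl⟩
  refine ⟨_, Pair.smap (P.basic_le c), inferInstance, ?_, ?_⟩
  · have : y ∈ (Pair.smap (P.basic_le c)).opensRange := by rw [hrange]; exact hc1
    exact this
  · apply chart_hom_ext_aux hT₀
    · rintro _ ⟨w, rfl⟩
      rw [Scheme.Hom.comp_apply]
      exact (hmem w).1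
    · rintro _ ⟨w, rfl⟩
      rw [Scheme.Hom.comp_apply]
      exact (hmem w).2
    · rw [← Category.assoc, ← Category.assoc, aS_smap, Category.assoc, Category.assoc, ha]
    · rw [← Category.assoc, ← Category.assoc, bS_smap, Category.assoc, Category.assoc, hb]

omit [IsClosedImmersion i] in
/-- existence on small charts -/
theorem chart_exists_desc {P : Pair i j} {T : Scheme.{u}} (f : X ⟶ T) (g : Y ⟶ T)
    (hfg : i ≫ f = j ≫ g) {T₀ : T.Opens} (hT₀ : IsAffineOpen T₀) (hU : P.U ≤ f ⁻¹ᵁ T₀)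
    (hV : P.V ≤ g ⁻¹ᵁ T₀) : ∃ h : Spec (CommRingCat.of P.R) ⟶ T,
      aS P ≫ h = P.hU.fromSpec ≫ f ∧ bS P ≫ h = P.hV.fromSpec ≫ g := by
  have hcomp : P.p.comp (f.appLE T₀ P.U hU).hom = P.q.comp (g.appLE T₀ P.V hV).hom := by
    have : f.appLE T₀ P.U hU ≫ i.appLE P.U P.W P.hWU.ge =
        g.appLE T₀ P.V hV ≫ j.appLE P.V P.W P.hWV.ge := by
      rw [Scheme.Hom.appLE_comp_appLE, Scheme.Hom.appLE_comp_appLE]
      simp only [hfg]
    have := congrArg CommRingCat.Hom.hom this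
    exact this
  refine ⟨Spec.map (CommRingCat.ofHom (eqL.lift _ _ hcomp)) ≫ hT₀.fromSpec, ?_, ?_⟩
  · rw [aS, ← Category.assoc, ← Spec.map_comp, ← CommRingCat.ofHom_comp,
      ← IsAffineOpen.SpecMap_appLE_fromSpec f hT₀ P.hU hU]
    rfl
  · rw [bS, ← Category.assoc, ← Spec.map_comp, ← CommRingCat.ofHom_comp,
      ← IsAffineOpen.SpecMap_appLE_fromSpec g hT₀ P.hV hV]
    rfl

theorem hW_comp_a (a : X ⟶ Po i j) (ha : ∀ P : Pair i j, P.hU.fromSpec ≫ a = aS P ≫ ι P)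
    (P : Pair i j) : P.hW.fromSpec ≫ i ≫ a = Spec.map (CommRingCat.ofHom P.p) ≫ aS P ≫ ι P := by
  rw [← Category.assoc, ← IsAffineOpen.SpecMap_appLE_fromSpec i P.hU P.hW P.hWU.ge,
    Category.assoc, ha]
  rfl

theorem hW_comp_b (b : Y ⟶ Po i j) (hb : ∀ P : Pair i j, P.hV.fromSpec ≫ b = bS P ≫ ι P)
    (P : Pair i j) : P.hW.fromSpec ≫ j ≫ b = Spec.map (CommRingCat.ofHom P.q) ≫ bS P ≫ ι P := by
  rw [← Category.assoc, ← IsAffineOpen.SpecMap_appLE_fromSpec j P.hV P.hW P.hWV.ge,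
    Category.assoc, hb]
  rfl

omit [IsClosedImmersion i] in
theorem p_aS (P : Pair i j) : Spec.map (CommRingCat.ofHom P.p) ≫ aS P =
    Spec.map (CommRingCat.ofHom P.q) ≫ bS P := by
  rw [aS, bS, ← Spec.map_comp, ← Spec.map_comp, ← CommRingCat.ofHom_comp,
    ← CommRingCat.ofHom_comp, eqL.comm]

omit [IsClosedImmersion i] in
include H in
theorem exists_pair_W (z : Z) : ∃ P : Pair i j, z ∈ P.W := by
  obtain ⟨P, hP⟩ := H (j z)
  exact ⟨P, by rw [← P.hWV]; exact hP⟩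

section

variable (a : X ⟶ Po i j) (b : Y ⟶ Po i j) (ha : ∀ P : Pair i j, P.hU.fromSpec ≫ a = aS P ≫ ι P)
  (hb : ∀ P : Pair i j, P.hV.fromSpec ≫ b = bS P ≫ ι P)

include H ha hb in
theorem comm : i ≫ a = j ≫ b := by
  apply hom_ext_imm
  intro z
  obtain ⟨P, hP⟩ := exists_pair_W H z
  refine ⟨_, P.hW.fromSpec, inferInstance, by rw [P.hW.range_fromSpec]; exact hP, ?_⟩
  rw [hW_comp_a a ha, hW_comp_b b hb, ← Category.assoc, p_aS, Category.assoc]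

include ha hb in
theorem hom_ext {T : Scheme.{u}} {m₁ m₂ : Po i j ⟶ T} (h₁ : a ≫ m₁ = a ≫ m₂)
    (h₂ : b ≫ m₁ = b ≫ m₂) : m₁ = m₂ := by
  apply hom_ext_imm
  intro y
  obtain ⟨P, z, rfl⟩ := ι_surj y
  refine ⟨_, ι P, inferInstance, ⟨z, rfl⟩, ?_⟩
  apply chart_hom_ext
  · rw [← Category.assoc, ← ha, Category.assoc, h₁, ← Category.assoc, ha, Category.assoc]
  · rw [← Category.assoc, ← hb, Category.assoc, h₂, ← Category.assoc, hb, Category.assoc]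

theorem smap_mem_range {P : Pair i j} (c : P.R) (z : Spec (CommRingCat.of P.R))
    (hc : c ∉ z.asIdeal) : ι P z ∈ Set.range (ι (P.basic c)) := by
  have hloc : IsLocAway (Pair.rmap (P.basic_le c)) c := Pair.isLocAway_rmap _ _ rfl rfl
  have hrange : (Pair.smap (P.basic_le c)).opensRange = PrimeSpectrum.basicOpen c :=
    opensRange_of_isLocAway hloc
  have : z ∈ (Pair.smap (P.basic_le c)).opensRange := by rw [hrange]; exact hc
  obtain ⟨w, rfl⟩ := this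
  refine ⟨w, ?_⟩
  rw [← Scheme.Hom.comp_apply, smap_ι]

include H ha hb in
theorem exists_desc {T : Scheme.{u}} (f : X ⟶ T) (g : Y ⟶ T) (hfg : i ≫ f = j ≫ g) :
    ∃ h : Po i j ⟶ T, a ≫ h = f ∧ b ≫ h = g := by
  have hpre : ∀ T₀ : T.Opens, i ⁻¹ᵁ f ⁻¹ᵁ T₀ = j ⁻¹ᵁ g ⁻¹ᵁ T₀ := by
    intro T₀
    rw [← Scheme.Hom.comp_preimage, hfg, Scheme.Hom.comp_preimage]
  let I := {P : Pair i j // ∃ T₀ : T.Opens, IsAffineOpen T₀ ∧ P.U ≤ f ⁻¹ᵁ T₀ ∧ P.V ≤ g ⁻¹ᵁ T₀}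
  have hex : ∀ P : I, ∃ h : Spec (CommRingCat.of P.1.R) ⟶ T,
      aS P.1 ≫ h = P.1.hU.fromSpec ≫ f ∧ bS P.1 ≫ h = P.1.hV.fromSpec ≫ g := by
    rintro ⟨P, T₀, hT₀, hU, hV⟩
    exact chart_exists_desc f g hfg hT₀ hU hV
  choose h hh1 hh2 using hex
  have hcomp : ∀ {P Q : I} (hPQ : P.1 ≤ Q.1), Pair.smap hPQ ≫ h Q = h P := by
    intro P Q hPQ
    apply chart_hom_ext
    · rw [← Category.assoc, aS_smap, Category.assoc, hh1, hh1, ← Category.assoc,
        IsAffineOpen.map_fromSpec]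
    · rw [← Category.assoc, bS_smap, Category.assoc, hh2, hh2, ← Category.assoc,
        IsAffineOpen.map_fromSpec]
  have hcovX : ∀ (Q : Pair i j) (x : Spec Γ(X, Q.U)), ∃ c : Q.R, c ∉ (aS Q x).asIdeal ∧
      ∃ T₀ : T.Opens, IsAffineOpen T₀ ∧ (Q.basic c).U ≤ f ⁻¹ᵁ T₀ ∧ (Q.basic c).V ≤ g ⁻¹ᵁ T₀ := by
    intro Q x
    obtain ⟨T₀, hT₀, hyT, -⟩ :=
      exists_isAffineOpen_mem_and_subset (U := ⊤) (x := f (Q.hU.fromSpec x)) trivial
    have hxQ : Q.hU.fromSpec x ∈ Q.U := by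
      rw [← SetLike.mem_coe, ← Q.hU.range_fromSpec]; exact ⟨_, rfl⟩
    obtain ⟨c, hc1, hc2, hc3⟩ :=
      Pair.exists_basic_left Q (f ⁻¹ᵁ T₀) (g ⁻¹ᵁ T₀) (hpre T₀) (Q.hU.fromSpec x) hyT hxQ
    exact ⟨c, (aS_mem x c).mp hc1, T₀, hT₀, hc2, hc3⟩
  have hcovY : ∀ (Q : Pair i j) (x : Spec Γ(Y, Q.V)), ∃ c : Q.R, c ∉ (bS Q x).asIdeal ∧
      ∃ T₀ : T.Opens, IsAffineOpen T₀ ∧ (Q.basic c).U ≤ f ⁻¹ᵁ T₀ ∧ (Q.basic c).V ≤ g ⁻¹ᵁ T₀ := by
    intro Q x
    obtain ⟨T₀, hT₀, hyT, -⟩ :=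
      exists_isAffineOpen_mem_and_subset (U := ⊤) (x := g (Q.hV.fromSpec x)) trivial
    have hxQ : Q.hV.fromSpec x ∈ Q.V := by
      rw [← SetLike.mem_coe, ← Q.hV.range_fromSpec]; exact ⟨_, rfl⟩
    obtain ⟨c, hc1, hc2, hc3⟩ :=
      Pair.exists_basic_right Q (f ⁻¹ᵁ T₀) (g ⁻¹ᵁ T₀) (hpre T₀) (Q.hV.fromSpec x) hyT hxQ
    exact ⟨c, (bS_mem x c).mp hc1, T₀, hT₀, hc2, hc3⟩
  obtain ⟨m, hm⟩ := exists_glue (fun P : I => Spec (CommRingCat.of P.1.R)) (fun P => ι P.1) h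
    (by
      intro y
      obtain ⟨Q, z, rfl⟩ := ι_surj y
      rcases aS_bS_surj z with ⟨x, rfl⟩ | ⟨x, rfl⟩
      · obtain ⟨c, hc, hT⟩ := hcovX Q x
        exact ⟨⟨Q.basic c, hT⟩, smap_mem_range c _ hc⟩
      · obtain ⟨c, hc, hT⟩ := hcovY Q x
        exact ⟨⟨Q.basic c, hT⟩, smap_mem_range c _ hc⟩)
    (by
      rintro P Q _ ⟨y₁, rfl⟩ ⟨y₂, hy⟩
      obtain ⟨S, hSP, hSQ, w, hw1, hw2⟩ := ι_eq hy.symm
      obtain ⟨T₀, hT₀, hU, hV⟩ := P.2
      refine ⟨⟨S, T₀, hT₀, hSP.1.trans hU, hSP.2.trans hV⟩, Pair.smap hSP, Pair.smap hSQ,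
        smap_ι hSP, smap_ι hSQ, ⟨w, ?_⟩, ?_⟩
      · change ι S w = ι P.1 y₁
        rw [← smap_ι hSP, Scheme.Hom.comp_apply, hw1]
      · exact (hcomp (P := ⟨S, T₀, hT₀, hSP.1.trans hU, hSP.2.trans hV⟩) hSP).trans
          (hcomp (P := ⟨S, T₀, hT₀, hSP.1.trans hU, hSP.2.trans hV⟩) hSQ).symm)
  refine ⟨m, ?_, ?_⟩
  · apply hom_ext_imm
    intro x
    obtain ⟨Q, hQ⟩ := exists_pair H x
    obtain ⟨x', rfl⟩ : x ∈ Set.range Q.hU.fromSpec := by rw [Q.hU.range_fromSpec]; exact hQ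
    obtain ⟨c, hc, hT⟩ := hcovX Q x'
    refine ⟨_, (Q.basic c).hU.fromSpec, inferInstance, ?_, ?_⟩
    · rw [(Q.basic c).hU.range_fromSpec]
      exact (aS_mem x' c).mpr hc
    · rw [← Category.assoc, ha, Category.assoc, hm ⟨Q.basic c, hT⟩]
      exact hh1 ⟨Q.basic c, hT⟩
  · apply hom_ext_imm
    intro x
    obtain ⟨Q, hQ⟩ := H x
    obtain ⟨x', rfl⟩ : x ∈ Set.range Q.hV.fromSpec := by rw [Q.hV.range_fromSpec]; exact hQ
    obtain ⟨c, hc, hT⟩ := hcovY Q x'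
    refine ⟨_, (Q.basic c).hV.fromSpec, inferInstance, ?_, ?_⟩
    · rw [(Q.basic c).hV.range_fromSpec]
      exact (bS_mem x' c).mpr hc
    · rw [← Category.assoc, hb, Category.assoc, hm ⟨Q.basic c, hT⟩]
      exact hh2 ⟨Q.basic c, hT⟩

include H ha hb in
theorem isPushout : IsPushout i j a b := by
  refine ⟨⟨comm H a b ha hb⟩, ⟨PushoutCocone.IsColimit.mk _
    (fun s => (exists_desc H a b ha hb s.inl s.inr s.condition).choose)
    (fun s => (exists_desc H a b ha hb s.inl s.inr s.condition).choose_spec.1)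
    (fun s => (exists_desc H a b ha hb s.inl s.inr s.condition).choose_spec.2) ?_⟩⟩
  intro s m h1 h2
  apply hom_ext a b ha hb
  · rw [h1, (exists_desc H a b ha hb s.inl s.inr s.condition).choose_spec.1]
  · rw [h2, (exists_desc H a b ha hb s.inl s.inr s.condition).choose_spec.2]

end

end Groth.Agent.FlatB.PushGlue
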