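import Groth.Agent.FlatB.PushGlue
import Mathlib.AlgebraicGeometry.Morphisms.Integral
import Mathlib.Algebra.Polynomial.Lifts

/-!
# Properties of the glued pushout
-/

set_option autoImplicit false

open AlgebraicGeometry CategoryTheory Limits TopologicalSpace Opposite
open Groth.Agent.FlatB.PushRing Groth.Agent.FlatB.PushPair Groth.Agent.FlatB.PushGlue

universe u

namespace Groth.Agent.FlatB.PushMain

variable {X Y Z : Scheme.{u}} {i : Z ⟶ X} {j : Z ⟶ Y} [IsClosedImmersion i]

/-- The cover of the glued scheme by its charts. -/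
noncomputable def cov (i : Z ⟶ X) (j : Z ⟶ Y) [IsClosedImmersion i] : (Po i j).OpenCover where
  I₀ := Pair i j
  X P := Spec (CommRingCat.of P.R)
  f P := ι P
  mem₀ := by
    rw [Scheme.presieve₀_mem_precoverage_iff]
    exact ⟨ι_surj, inferInstance⟩

theorem of_charts (Q : MorphismProperty Scheme.{u}) [IsZariskiLocalAtTarget Q] {S : Scheme.{u}}
    (c : S ⟶ Po i j) (S' : Pair i j → Scheme.{u}) (e : ∀ P, S' P ⟶ S)
    (d : ∀ P : Pair i j, S' P ⟶ Spec (CommRingCat.of P.R))
    (h : ∀ P, IsPullback (d P) (e P) (ι P) c) (H : ∀ P, Q (d P)) : Q c := by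
  refine IsZariskiLocalAtTarget.of_openCover (cov i j) fun P => ?_
  have : (cov i j).pullbackHom c P = (h P).flip.isoPullback.inv ≫ d P :=
    (Iso.eq_inv_comp _).mpr (h P).flip.isoPullback_hom_snd
  rw [this]
  exact (Q.cancel_left_of_respectsIso _ _).mpr (H P)

/-- Integral elements in fibre products. -/
theorem eqL_fst_isIntegral {A A' B : Type*} [CommRing A] [CommRing A'] [CommRing B] {p : A' →+* A}
    {q : B →+* A} (hp : Function.Surjective p) (hq : q.IsIntegral) :
    (eqL.fst p q).IsIntegral := by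
  intro x
  obtain ⟨f, hf, hfx⟩ := hq (p x)
  have hlift : f ∈ Polynomial.lifts (eqL.snd p q) := by
    rw [Polynomial.lifts_iff_coeff_lifts]
    intro n
    exact eqL.snd_surjective hp _
  obtain ⟨g, hg1, -, hg2⟩ := Polynomial.lifts_and_natDegree_eq_and_monic hlift hf
  set y := Polynomial.eval₂ (eqL.fst p q) x g with hy
  have hpy : p y = 0 := by
    rw [hy, Polynomial.hom_eval₂, eqL.comm, ← Polynomial.eval₂_map, hg1, hfx]
  rcases subsingleton_or_nontrivial A' with hA' | hA'
  · exact ⟨Polynomial.X, Polynomial.monic_X, Subsingleton.elim _ _⟩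
  have : Nontrivial (eqL p q) := (eqL.fst p q).domain_nontrivial
  refine ⟨Polynomial.X * g - Polynomial.C ⟨(x * y, 0), by simp [hpy]⟩, ?_, ?_⟩
  · apply (Polynomial.monic_X.mul hg2).sub_of_left
    refine lt_of_le_of_lt Polynomial.degree_C_le ?_
    rw [Polynomial.degree_eq_natDegree (Polynomial.monic_X.mul hg2).ne_zero,
      Polynomial.natDegree_X_mul hg2.ne_zero]
    exact_mod_cast Nat.succ_pos _
  · simp [← hy]

/-- The fibre product square is cocartesian. -/
theorem isPushout_ring {A A' B : Type u} [CommRing A] [CommRing A'] [CommRing B] {p : A' →+* A}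
    {q : B →+* A} (hp : Function.Surjective p) :
    IsPushout (CommRingCat.ofHom (eqL.fst p q)) (CommRingCat.ofHom (eqL.snd p q))
      (CommRingCat.ofHom p) (CommRingCat.ofHom q) := by
  have key : ∀ s : PushoutCocone (CommRingCat.ofHom (eqL.fst p q))
      (CommRingCat.ofHom (eqL.snd p q)), RingHom.ker p ≤ RingHom.ker s.inl.hom := by
    intro s x hx
    have h := congr($(s.condition) ⟨(x, 0), by simpa using hx⟩)
    simpa using h
  have hL : ∀ (s : PushoutCocone (CommRingCat.ofHom (eqL.fst p q))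
      (CommRingCat.ofHom (eqL.snd p q))) (x : A'),
      p.liftOfSurjective hp ⟨s.inl.hom, key s⟩ (p x) = s.inl.hom x := fun s x =>
    RingHom.liftOfRightInverse_comp_apply _ _ _ _ _
  refine ⟨⟨?_⟩, ⟨PushoutCocone.IsColimit.mk _
    (fun s => CommRingCat.ofHom (p.liftOfSurjective hp ⟨s.inl.hom, key s⟩)) ?_ ?_ ?_⟩⟩
  · rw [← CommRingCat.ofHom_comp, ← CommRingCat.ofHom_comp, eqL.comm]
  · intro s
    ext x
    exact hL s x
  · intro s
    ext b
    obtain ⟨x, hx⟩ := hp (q b)
    have h : s.inl.hom x = s.inr.hom b := congr($(s.condition) ⟨(x, b), hx⟩)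
    rw [← h, ← hL s x, hx]
    rfl
  · intro s m h1 h2
    ext x
    obtain ⟨y, rfl⟩ := hp x
    have h : m.hom (p y) = s.inl.hom y := congr($h1 y)
    refine h.trans (hL s y).symm

omit [IsClosedImmersion i] in
theorem q_isIntegral [IsIntegralHom j] (P : Pair i j) : P.q.IsIntegral := by
  obtain ⟨U, V, W, hU, hV, hWU, rfl⟩ := P
  have := j.isIntegral_app V hV
  simpa [Pair.q, Scheme.Hom.appLE_eq_app] using this

omit [IsClosedImmersion i] in
theorem q_surjective [IsClosedImmersion j] (P : Pair i j) : Function.Surjective P.q := by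
  obtain ⟨U, V, W, hU, hV, hWU, rfl⟩ := P
  have := j.app_surjective V hV
  simpa [Pair.q, Scheme.Hom.appLE_eq_app] using this

theorem eqL_fst_surjective {A A' B : Type*} [CommRing A] [CommRing A'] [CommRing B] {p : A' →+* A}
    {q : B →+* A} (hq : Function.Surjective q) : Function.Surjective (eqL.fst p q) := by
  intro a
  obtain ⟨b, hb⟩ := hq (p a)
  exact ⟨⟨(a, b), hb.symm⟩, rfl⟩

variable (H : ∀ y : Y, ∃ P : Pair i j, y ∈ P.V)

section

variable (a : X ⟶ Po i j) (b : Y ⟶ Po i j) (ha : ∀ P : Pair i j, P.hU.fromSpec ≫ a = aS P ≫ ι P)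
  (hb : ∀ P : Pair i j, P.hV.fromSpec ≫ b = bS P ≫ ι P)

include H hb in
theorem isClosedImmersion_b : IsClosedImmersion b :=
  of_charts @IsClosedImmersion b _ _ _ (isPullback_b H b hb) fun P =>
    IsClosedImmersion.spec_of_surjective _ (eqL.snd_surjective P.p_surjective)

include H ha in
theorem isAffineHom_a : IsAffineHom a :=
  of_charts @IsAffineHom a _ _ _ (isPullback_a H a ha) fun _ => inferInstance

include H ha in
theorem isIntegralHom_a [IsIntegralHom j] : IsIntegralHom a :=
  of_charts @IsIntegralHom a _ _ _ (isPullback_a H a ha) fun P =>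
    IsIntegralHom.SpecMap_iff.mpr (eqL_fst_isIntegral P.p_surjective (q_isIntegral P))

include H ha in
theorem isClosedImmersion_a [IsClosedImmersion j] : IsClosedImmersion a :=
  of_charts @IsClosedImmersion a _ _ _ (isPullback_a H a ha) fun P =>
    IsClosedImmersion.spec_of_surjective _ (eqL_fst_surjective (q_surjective P))

include ha hb in
theorem surj (y : Po i j) : (∃ x, a x = y) ∨ ∃ x, b x = y := by
  obtain ⟨P, z, rfl⟩ := ι_surj y
  rcases aS_bS_surj z with ⟨x, rfl⟩ | ⟨x, rfl⟩
  · left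
    exact ⟨P.hU.fromSpec x, by rw [← Scheme.Hom.comp_apply, ha, Scheme.Hom.comp_apply]⟩
  · right
    exact ⟨P.hV.fromSpec x, by rw [← Scheme.Hom.comp_apply, hb, Scheme.Hom.comp_apply]⟩

include H ha hb in
theorem surjective_b (hi : Function.Surjective i) : Function.Surjective b := by
  intro y
  rcases surj a b ha hb y with ⟨x, rfl⟩ | h
  · obtain ⟨z, rfl⟩ := hi x
    exact ⟨j z, by rw [← Scheme.Hom.comp_apply, ← comm H a b ha hb, Scheme.Hom.comp_apply]⟩
  · exact h

include H ha hb in
theorem isPullback : IsPullback i j a b := by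
  let 𝒰 : X.OpenCover :=
    { I₀ := Pair i j
      X := fun P => Spec Γ(X, P.U)
      f := fun P => P.hU.fromSpec
      mem₀ := by
        rw [Scheme.presieve₀_mem_precoverage_iff]
        refine ⟨fun x => ?_, inferInstance⟩
        obtain ⟨P, hP⟩ := exists_pair H x
        exact ⟨P, by rw [P.hU.range_fromSpec]; exact hP⟩ }
  apply Scheme.isPullback_of_openCover i j a b 𝒰
  intro P
  change IsPullback (pullback.snd i P.hU.fromSpec) (pullback.fst i P.hU.fromSpec ≫ j)
    (P.hU.fromSpec ≫ a) b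
  have S1 : IsPullback (Spec.map (CommRingCat.ofHom P.p)) P.hW.fromSpec P.hU.fromSpec i := by
    apply IsOpenImmersion.isPullback
    · exact (IsAffineOpen.SpecMap_appLE_fromSpec i P.hU P.hW P.hWU.ge).symm
    · rw [IsAffineOpen.opensRange_fromSpec, IsAffineOpen.opensRange_fromSpec, P.hWU]
  have S2 : IsPullback (Spec.map (CommRingCat.ofHom P.p)) (Spec.map (CommRingCat.ofHom P.q))
      (aS P) (bS P) := isPullback_SpecMap_of_isPushout _ _ _ _ (isPushout_ring P.p_surjective)
  have S3 : IsPullback (bS P) P.hV.fromSpec (ι P) b := isPullback_b H b hb P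
  have S4 := S2.paste_vert S3
  have e1 : P.hW.fromSpec ≫ j = Spec.map (CommRingCat.ofHom P.q) ≫ P.hV.fromSpec :=
    (IsAffineOpen.SpecMap_appLE_fromSpec j P.hV P.hW P.hWV.ge).symm
  rw [← e1, ← ha] at S4
  refine IsPullback.of_iso S4 S1.flip.isoPullback (Iso.refl _) (Iso.refl _) (Iso.refl _)
    ?_ ?_ (by simp) (by simp)
  · simp
  · simp

end

include H in
/-- Existence and properties of the pushout of a closed immersion `i` along `j` when every point
of `Y` lies in an adapted affine pair. -/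
theorem exists_pushout : ∃ (W : Scheme.{u}) (a : X ⟶ W) (b : Y ⟶ W), IsPushout i j a b ∧
    IsPullback i j a b ∧ IsClosedImmersion b ∧ IsAffineHom a ∧
    (IsIntegralHom j → IsIntegralHom a) ∧ (IsClosedImmersion j → IsClosedImmersion a) ∧
    (Function.Surjective i → Function.Surjective b) := by
  obtain ⟨a, ha⟩ := exists_a H
  obtain ⟨b, hb⟩ := exists_b H
  exact ⟨Po i j, a, b, isPushout H a b ha hb, isPullback H a b ha hb, isClosedImmersion_b H b hb,
    isAffineHom_a H a ha, fun _ => isIntegralHom_a H a ha, fun _ => isClosedImmersion_a H a ha,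
    surjective_b H a b ha hb⟩

theorem exists_pushout' {X Y Z : Scheme.{u}} (i : Z ⟶ X) (j : Z ⟶ Y) [IsClosedImmersion i]
    (H : ∀ y : Y, ∃ (U : X.Opens) (V : Y.Opens), IsAffineOpen U ∧ IsAffineOpen V ∧ y ∈ V ∧
      i ⁻¹ᵁ U = j ⁻¹ᵁ V) : ∃ (W : Scheme.{u}) (a : X ⟶ W) (b : Y ⟶ W), IsPushout i j a b ∧
    IsPullback i j a b ∧ IsClosedImmersion b ∧ IsAffineHom a ∧
    (IsIntegralHom j → IsIntegralHom a) ∧ (IsClosedImmersion j → IsClosedImmersion a) ∧
    (Function.Surjective i → Function.Surjective b) := by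
  apply exists_pushout
  intro y
  obtain ⟨U, V, hU, hV, hy, h⟩ := H y
  exact ⟨⟨U, V, _, hU, hV, h, rfl⟩, hy⟩

end Groth.Agent.FlatB.PushMain
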