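import Groth.Agent.FlatB.PushRing
import Mathlib.AlgebraicGeometry.Morphisms.ClosedImmersion
import Mathlib.AlgebraicGeometry.Cover.Directed

/-!
# Adapted pairs of affine opens

Let `i : Z ⟶ X` and `j : Z ⟶ Y` be morphisms of schemes. An adapted pair is a pair of affine opens
`U` of `X` and `V` of `Y` with the same preimage in `Z`. To such a pair we attach the affine scheme
`Spec (Γ(X, U) ×_{Γ(Z, W)} Γ(Y, V))`. If `i` is a closed immersion these glue.
-/

set_option autoImplicit false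

open AlgebraicGeometry CategoryTheory Limits TopologicalSpace Opposite
open Groth.Agent.FlatB.PushRing

universe u

namespace Groth.Agent.FlatB.PushPair

/-- restriction of sections as a ring homomorphism -/
def res (X : Scheme.{u}) {U V : X.Opens} (h : U ≤ V) : Γ(X, V) →+* Γ(X, U) :=
  (X.presheaf.map (homOfLE h).op).hom

@[simp] theorem res_self (X : Scheme.{u}) {U : X.Opens} (h : U ≤ U) (x : Γ(X, U)) :
    res X h x = x := by
  simp [res]

theorem res_res (X : Scheme.{u}) {U V W : X.Opens} (h : U ≤ V) (h' : V ≤ W) (x : Γ(X, W)) :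
    res X h (res X h' x) = res X (h.trans h') x := by
  simp only [res, ← CommRingCat.comp_apply, ← Functor.map_comp]
  rfl

theorem basicOpen_res' (X : Scheme.{u}) {U V : X.Opens} (h : U ≤ V) (x : Γ(X, V)) :
    X.basicOpen (res X h x) = U ⊓ X.basicOpen x := Scheme.basicOpen_res X x (homOfLE h).op

theorem isLocAway_res (X : Scheme.{u}) {U : X.Opens} (hU : IsAffineOpen U) (f : Γ(X, U))
    {V : X.Opens} (h : V ≤ U) (hV : V = X.basicOpen f) : IsLocAway (res X h) f := by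
  subst hV
  have := hU.isLocalization_basicOpen f
  exact IsLocAway.of_isLocalization (A₁ := Γ(X, X.basicOpen f)) f

variable {X Y Z : Scheme.{u}} (i : Z ⟶ X) (j : Z ⟶ Y)

/-- An adapted pair of affine opens -/
structure Pair where
  /-- the open of `X` -/
  U : X.Opens
  /-- the open of `Y` -/
  V : Y.Opens
  /-- the common preimage in `Z` -/
  W : Z.Opens
  hU : IsAffineOpen U
  hV : IsAffineOpen V
  hWU : i ⁻¹ᵁ U = W
  hWV : j ⁻¹ᵁ V = W

variable {i j}

namespace Pair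

instance : Preorder (Pair i j) where
  le P Q := P.U ≤ Q.U ∧ P.V ≤ Q.V
  le_refl P := ⟨le_rfl, le_rfl⟩
  le_trans P Q R h h' := ⟨h.1.trans h'.1, h.2.trans h'.2⟩

theorem le_W {P Q : Pair i j} (h : P ≤ Q) : P.W ≤ Q.W := by
  rw [← P.hWU, ← Q.hWU]
  exact (Opens.map i.base).monotone h.1

/-- the restriction to `Z` -/
def p (P : Pair i j) : Γ(X, P.U) →+* Γ(Z, P.W) := (i.appLE P.U P.W P.hWU.ge).hom

/-- the restriction to `Z` -/
def q (P : Pair i j) : Γ(Y, P.V) →+* Γ(Z, P.W) := (j.appLE P.V P.W P.hWV.ge).hom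

theorem p_surjective [IsClosedImmersion i] (P : Pair i j) : Function.Surjective P.p := by
  obtain ⟨U, V, W, hU, hV, rfl, hWV⟩ := P
  have := i.app_surjective U hU
  simpa [Pair.p, Scheme.Hom.appLE_eq_app] using this

theorem hW [IsClosedImmersion i] (P : Pair i j) : IsAffineOpen P.W := by
  rw [← P.hWU]; exact P.hU.preimage i

theorem basicOpen_p (P : Pair i j) (f : Γ(X, P.U)) :
    Z.basicOpen (P.p f) = i ⁻¹ᵁ X.basicOpen f := by
  rw [Pair.p, Scheme.basicOpen_appLE, inf_eq_right, ← P.hWU]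
  exact (Opens.map i.base).monotone (X.basicOpen_le f)

theorem basicOpen_q (P : Pair i j) (f : Γ(Y, P.V)) :
    Z.basicOpen (P.q f) = j ⁻¹ᵁ Y.basicOpen f := by
  rw [Pair.q, Scheme.basicOpen_appLE, inf_eq_right, ← P.hWV]
  exact (Opens.map j.base).monotone (Y.basicOpen_le f)

/-- The fibre product of the rings of functions -/
abbrev R (P : Pair i j) : Type u := eqL P.p P.q

theorem p_res {P Q : Pair i j} (h : P ≤ Q) :
    P.p.comp (res X h.1) = (res Z (le_W h)).comp Q.p := by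
  ext x
  simp only [Pair.p, res, RingHom.comp_apply, ← CommRingCat.comp_apply, Scheme.Hom.map_appLE,
    Scheme.Hom.appLE_map]

theorem q_res {P Q : Pair i j} (h : P ≤ Q) :
    P.q.comp (res Y h.2) = (res Z (le_W h)).comp Q.q := by
  ext x
  simp only [Pair.q, res, RingHom.comp_apply, ← CommRingCat.comp_apply, Scheme.Hom.map_appLE,
    Scheme.Hom.appLE_map]

/-- The restriction maps -/
def rmap {P Q : Pair i j} (h : P ≤ Q) : R Q →+* R P :=
  eqL.map (res X h.1) (res Z (le_W h)) (res Y h.2) (p_res h) (q_res h)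

@[simp] theorem rmap_fst {P Q : Pair i j} (h : P ≤ Q) (x : R Q) :
    (rmap h x).1.1 = res X h.1 x.1.1 := rfl
@[simp] theorem rmap_snd {P Q : Pair i j} (h : P ≤ Q) (x : R Q) :
    (rmap h x).1.2 = res Y h.2 x.1.2 := rfl

theorem rmap_rfl (P : Pair i j) : rmap (le_refl P) = RingHom.id _ :=
  RingHom.ext fun x => eqL.ext (by simp) (by simp)

theorem rmap_comp {P Q S : Pair i j} (h : P ≤ Q) (h' : Q ≤ S) :
    (rmap h).comp (rmap h') = rmap (h.trans h') :=
  RingHom.ext fun x => eqL.ext (by simp [res_res]) (by simp [res_res])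

/-- The basic open pair attached to an element of the fibre product. -/
def basic (Q : Pair i j) (c : R Q) : Pair i j where
  U := X.basicOpen c.1.1
  V := Y.basicOpen c.1.2
  W := Z.basicOpen (Q.p c.1.1)
  hU := Q.hU.basicOpen _
  hV := Q.hV.basicOpen _
  hWU := (Q.basicOpen_p _).symm
  hWV := by rw [eqL_prop c]; exact (Q.basicOpen_q _).symm

theorem basic_le (Q : Pair i j) (c : R Q) : Q.basic c ≤ Q :=
  ⟨X.basicOpen_le _, Y.basicOpen_le _⟩

/-- If `P ≤ Q` is the basic open pair attached to `c` then `R P` is the localization of `R Q`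
away from `c`. -/
theorem isLocAway_rmap [IsClosedImmersion i] {P Q : Pair i j} (h : P ≤ Q) (c : R Q)
    (hU : P.U = X.basicOpen c.1.1) (hV : P.V = Y.basicOpen c.1.2) :
    IsLocAway (rmap h) c := by
  refine eqL.map_isLocAway _ _ _ _ _ c (isLocAway_res X Q.hU _ _ hU)
    (isLocAway_res Z Q.hW _ _ ?_) (isLocAway_res Y Q.hV _ _ hV)
  rw [Q.basicOpen_p, ← P.hWU, hU]

/-- Key topological statement, points of `Y`. -/
theorem exists_basic_right [IsClosedImmersion i] (Q : Pair i j) (U' : X.Opens) (V' : Y.Opens)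
    (h : i ⁻¹ᵁ U' = j ⁻¹ᵁ V') (v : Y) (hv : v ∈ V') (hvQ : v ∈ Q.V) :
    ∃ c : R Q, v ∈ Y.basicOpen c.1.2 ∧ X.basicOpen c.1.1 ≤ U' ∧ Y.basicOpen c.1.2 ≤ V' := by
  obtain ⟨b, hb, hvb⟩ := Q.hV.exists_basicOpen_le ⟨v, hv⟩ hvQ
  -- the ideal of functions whose basic open is contained in `U'`
  let J : Ideal Γ(X, Q.U) :=
    { carrier := {g | X.basicOpen g ≤ U'}
      add_mem' := fun {a b} ha hb x hx => by
        rcases (TopologicalSpace.Opens.mem_sup).mp ((X.basicOpen_add_le a b) hx) with h | h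
        · exact ha h
        · exact hb h
      zero_mem' := by
        change X.basicOpen (0 : Γ(X, Q.U)) ≤ U'
        rw [Scheme.basicOpen_zero]; exact bot_le
      smul_mem' := fun a b hb => by
        change X.basicOpen (a * b) ≤ U'
        rw [Scheme.basicOpen_mul]
        exact inf_le_right.trans hb }
  obtain ⟨n, g, hg, hgn⟩ := exists_pow_eq_of_forall_prime Q.p Q.p_surjective J (Q.q b) (by
    intro 𝔮 h𝔮
    set z : Z := Q.hW.fromSpec 𝔮 with hz
    have hzW : z ∈ Q.W := by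
      rw [← SetLike.mem_coe, ← Q.hW.range_fromSpec]; exact ⟨_, rfl⟩
    have key : ∀ f : Γ(Z, Q.W), z ∈ Z.basicOpen f ↔ f ∉ 𝔮.asIdeal := by
      intro f
      have := Q.hW.fromSpec_preimage_basicOpen (f := f)
      have h2 : 𝔮 ∈ Q.hW.fromSpec ⁻¹ᵁ Z.basicOpen f ↔ 𝔮 ∈ PrimeSpectrum.basicOpen f := by
        rw [this]; rfl
      exact h2
    have hz2 : z ∈ Z.basicOpen (Q.q b) := (key _).mpr h𝔮
    rw [Q.basicOpen_q] at hz2
    have hz3 : z ∈ i ⁻¹ᵁ U' := by rw [h]; exact hb hz2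
    have hz4 : i z ∈ Q.U := by
      have : z ∈ i ⁻¹ᵁ Q.U := by rw [Q.hWU]; exact hzW
      exact this
    obtain ⟨g, hg, hzg⟩ := Q.hU.exists_basicOpen_le ⟨i z, hz3⟩ hz4
    refine ⟨g, hg, ?_⟩
    rw [← key, Q.basicOpen_p]
    exact hzg)
  refine ⟨⟨(g, b ^ (n + 1)), ?_⟩, ?_, ?_, ?_⟩
  · rw [mem_eqL]
    change Q.p g = Q.q (b ^ (n + 1))
    rw [hgn, map_pow]
  · change v ∈ Y.basicOpen (b ^ (n + 1))
    rw [Scheme.basicOpen_pow _ _ (Nat.succ_pos n)]
    exact hvb
  · exact hg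
  · change Y.basicOpen (b ^ (n + 1)) ≤ V'
    rw [Scheme.basicOpen_pow _ _ (Nat.succ_pos n)]
    exact hb

/-- Key topological statement, points of `X`. -/
theorem exists_basic_left [IsClosedImmersion i] (Q : Pair i j) (U' : X.Opens) (V' : Y.Opens)
    (h : i ⁻¹ᵁ U' = j ⁻¹ᵁ V') (x : X) (hx : x ∈ U') (hxQ : x ∈ Q.U) :
    ∃ c : R Q, x ∈ X.basicOpen c.1.1 ∧ X.basicOpen c.1.1 ≤ U' ∧ Y.basicOpen c.1.2 ≤ V' := by
  by_cases hxZ : x ∈ Set.range i
  · obtain ⟨z, rfl⟩ := hxZ
    have h1 : z ∈ j ⁻¹ᵁ V' := by rw [← h]; exact hx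
    have h2 : z ∈ j ⁻¹ᵁ Q.V := by rw [Q.hWV, ← Q.hWU]; exact hxQ
    obtain ⟨c, hc1, hc2, hc3⟩ := exists_basic_right Q U' V' h (j z) h1 h2
    refine ⟨c, ?_, hc2, hc3⟩
    have h3 : z ∈ Z.basicOpen (Q.q c.1.2) := by rw [Q.basicOpen_q]; exact hc1
    rw [← eqL_prop c, Q.basicOpen_p] at h3
    exact h3
  · -- away from the closed subscheme
    let O : X.Opens := ⟨(Set.range i)ᶜ, i.isClosedEmbedding.isClosed_range.isOpen_compl⟩
    obtain ⟨f, hf, hxf⟩ := Q.hU.exists_basicOpen_le (V := U' ⊓ O) ⟨x, hx, hxZ⟩ hxQ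
    have hpf : Z.basicOpen (Q.p f) = ⊥ := by
      rw [Q.basicOpen_p, eq_bot_iff]
      intro z hz
      have := (hf hz).2
      exact this ⟨z, rfl⟩
    obtain ⟨n, hn⟩ : IsNilpotent (Q.p f) :=
      (Scheme.isNilpotent_iff_basicOpen_eq_bot_of_isCompact Q.hW.isCompact _).mpr hpf
    refine ⟨⟨(f ^ (n + 1), 0), ?_⟩, ?_, ?_, ?_⟩
    · rw [mem_eqL]
      change Q.p (f ^ (n + 1)) = Q.q 0
      rw [map_pow, pow_succ, hn, zero_mul, map_zero]
    · change x ∈ X.basicOpen (f ^ (n + 1))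
      rw [Scheme.basicOpen_pow _ _ (Nat.succ_pos n)]
      exact hxf
    · change X.basicOpen (f ^ (n + 1)) ≤ U'
      rw [Scheme.basicOpen_pow _ _ (Nat.succ_pos n)]
      exact hf.trans inf_le_left
    · change Y.basicOpen (0 : Γ(Y, Q.V)) ≤ V'
      rw [Scheme.basicOpen_zero]
      exact bot_le

/-- Every point of `Spec (R P)` has a neighbourhood which is basic open in `Spec (R Q)` and lies in
a given adapted pair of opens containing `P`. -/
theorem exists_basic_prime [IsClosedImmersion i] {P Q : Pair i j} (hPQ : P ≤ Q)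
    (U' : X.Opens) (V' : Y.Opens) (h : i ⁻¹ᵁ U' = j ⁻¹ᵁ V') (hU' : P.U ≤ U') (hV' : P.V ≤ V')
    (y : PrimeSpectrum (R P)) :
    ∃ c : R Q, rmap hPQ c ∉ y.asIdeal ∧ X.basicOpen c.1.1 ≤ U' ∧ Y.basicOpen c.1.2 ≤ V' := by
  rcases eqL.exists_prime (q := P.q) P.p_surjective y with ⟨z, rfl⟩ | ⟨z, rfl⟩
  · have hx : P.hU.fromSpec z ∈ P.U := by
      rw [← SetLike.mem_coe, ← P.hU.range_fromSpec]; exact ⟨_, rfl⟩
    obtain ⟨c, hc1, hc2, hc3⟩ := exists_basic_left Q U' V' h (P.hU.fromSpec z) (hU' hx) (hPQ.1 hx)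
    refine ⟨c, ?_, hc2, hc3⟩
    have h1 : P.hU.fromSpec z ∈ X.basicOpen (res X hPQ.1 c.1.1) := by
      rw [basicOpen_res']; exact ⟨hx, hc1⟩
    have h2 : z ∈ P.hU.fromSpec ⁻¹ᵁ X.basicOpen (res X hPQ.1 c.1.1) := h1
    rw [P.hU.fromSpec_preimage_basicOpen] at h2
    exact h2
  · have hx : P.hV.fromSpec z ∈ P.V := by
      rw [← SetLike.mem_coe, ← P.hV.range_fromSpec]; exact ⟨_, rfl⟩
    obtain ⟨c, hc1, hc2, hc3⟩ := exists_basic_right Q U' V' h (P.hV.fromSpec z) (hV' hx) (hPQ.2 hx)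
    refine ⟨c, ?_, hc2, hc3⟩
    have h1 : P.hV.fromSpec z ∈ Y.basicOpen (res Y hPQ.2 c.1.2) := by
      rw [basicOpen_res']; exact ⟨hx, hc1⟩
    have h2 : z ∈ P.hV.fromSpec ⁻¹ᵁ Y.basicOpen (res Y hPQ.2 c.1.2) := h1
    rw [P.hV.fromSpec_preimage_basicOpen] at h2
    exact h2

end Pair

theorem isOpenImmersion_of_isLocAway {A B : Type u} [CommRing A] [CommRing B] {f : A →+* B} {c : A}
    (h : IsLocAway f c) : IsOpenImmersion (Spec.map (CommRingCat.ofHom f)) := by
  let _ := f.toAlgebra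
  have := h.isLocalization
  exact IsOpenImmersion.of_isLocalization (S := B) c

theorem opensRange_of_isLocAway {A B : Type u} [CommRing A] [CommRing B] {f : A →+* B} {c : A}
    (h : IsLocAway f c) :
    haveI := isOpenImmersion_of_isLocAway h
    (Spec.map (CommRingCat.ofHom f)).opensRange = PrimeSpectrum.basicOpen c := by
  let _ := f.toAlgebra
  have := h.isLocalization
  have := isOpenImmersion_of_isLocAway h
  exact Opens.ext (PrimeSpectrum.localization_away_comap_range B c)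

theorem isOpenImmersion_of_forall {S T : Scheme.{u}} (f : S ⟶ T)
    (H : ∀ x : S, ∃ (S' : Scheme.{u}) (g : S' ⟶ S) (_ : IsOpenImmersion g) (U : T.Opens),
      f x ∈ U ∧ f ⁻¹ᵁ U = g.opensRange ∧ IsOpenImmersion (g ≫ f)) : IsOpenImmersion f := by
  refine IsZariskiLocalAtTarget.of_forall_source_exists_preimage _ fun x ↦ ?_
  obtain ⟨S', g, hg, U, hxU, hU, hgf⟩ := H x
  refine ⟨U, hxU, ?_⟩
  rw [hU]
  have : g.opensRange.ι ≫ f = g.isoOpensRange.inv ≫ g ≫ f := by
    rw [← Category.assoc, Scheme.Hom.isoOpensRange_inv_comp]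
  rw [this]
  infer_instance

namespace Pair

/-- The map of affine schemes attached to an inclusion of adapted pairs. -/
noncomputable def smap {P Q : Pair i j} (h : P ≤ Q) :
    Spec (CommRingCat.of (R P)) ⟶ Spec (CommRingCat.of (R Q)) :=
  Spec.map (CommRingCat.ofHom (rmap h))

theorem smap_rfl (P : Pair i j) : smap (le_refl P) = 𝟙 _ := by
  rw [smap, rmap_rfl]; exact Spec.map_id _

theorem smap_comp {P Q S : Pair i j} (h : P ≤ Q) (h' : Q ≤ S) :
    smap h ≫ smap h' = smap (h.trans h') := by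
  rw [smap, smap, smap, ← Spec.map_comp, ← CommRingCat.ofHom_comp, rmap_comp]

instance isOpenImmersion_smap [IsClosedImmersion i] {P Q : Pair i j} (h : P ≤ Q) :
    IsOpenImmersion (smap h) := by
  apply isOpenImmersion_of_forall
  intro y
  obtain ⟨c, hc1, hc2, hc3⟩ := exists_basic_prime h P.U P.V (P.hWU.trans P.hWV.symm) le_rfl le_rfl y
  have hloc : IsLocAway (rmap (P.basic_le (rmap h c))) (rmap h c) :=
    isLocAway_rmap _ _ rfl rfl
  have hloc2 : IsLocAway (rmap ((P.basic_le (rmap h c)).trans h)) c := by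
    refine isLocAway_rmap _ _ ?_ ?_
    · change X.basicOpen (res X h.1 c.1.1) = _
      rw [basicOpen_res', inf_eq_right]
      exact hc2
    · change Y.basicOpen (res Y h.2 c.1.2) = _
      rw [basicOpen_res', inf_eq_right]
      exact hc3
  refine ⟨_, smap (P.basic_le (rmap h c)), isOpenImmersion_of_isLocAway hloc,
    PrimeSpectrum.basicOpen c, hc1, ?_, ?_⟩
  · have := opensRange_of_isLocAway hloc
    refine Eq.trans ?_ this.symm
    rfl
  · rw [smap_comp]
    exact isOpenImmersion_of_isLocAway hloc2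

/-- The diagram of affine schemes -/
noncomputable def F (i : Z ⟶ X) (j : Z ⟶ Y) : Pair i j ⥤ Scheme.{u} where
  obj P := Spec (CommRingCat.of (R P))
  map f := smap (leOfHom f)
  map_id P := smap_rfl P
  map_comp f g := (smap_comp (leOfHom f) (leOfHom g)).symm

instance [IsClosedImmersion i] {P Q : Pair i j} (f : P ⟶ Q) : IsOpenImmersion ((F i j).map f) :=
  isOpenImmersion_smap (leOfHom f)

/-- The intersection property. -/
theorem exists_le_le [IsClosedImmersion i] {P P' Q : Pair i j} (h : P ≤ Q) (h' : P' ≤ Q)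
    (y : Spec (CommRingCat.of (R P))) (y' : Spec (CommRingCat.of (R P')))
    (hy : smap h y = smap h' y') :
    ∃ (S : Pair i j) (hS : S ≤ P) (hS' : S ≤ P') (z : Spec (CommRingCat.of (R S))),
      smap hS z = y ∧ smap hS' z = y' := by
  obtain ⟨c, hc1, hc2, hc3⟩ := exists_basic_prime h P.U P.V (P.hWU.trans P.hWV.symm) le_rfl le_rfl y
  obtain ⟨c', hc1', hc2', hc3'⟩ :=
    exists_basic_prime h' P'.U P'.V (P'.hWU.trans P'.hWV.symm) le_rfl le_rfl y'
  have e1 : (Q.basic (c * c')).U = X.basicOpen c.1.1 ⊓ X.basicOpen c'.1.1 :=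
    X.basicOpen_mul c.1.1 c'.1.1
  have e2 : (Q.basic (c * c')).V = Y.basicOpen c.1.2 ⊓ Y.basicOpen c'.1.2 :=
    Y.basicOpen_mul c.1.2 c'.1.2
  have hS : Q.basic (c * c') ≤ P :=
    ⟨by rw [e1]; exact inf_le_left.trans hc2, by rw [e2]; exact inf_le_left.trans hc3⟩
  have hS' : Q.basic (c * c') ≤ P' :=
    ⟨by rw [e1]; exact inf_le_right.trans hc2', by rw [e2]; exact inf_le_right.trans hc3'⟩
  have hloc : IsLocAway (rmap (Q.basic_le (c * c'))) (c * c') := isLocAway_rmap _ _ rfl rfl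
  have hmem : smap h y ∈ PrimeSpectrum.basicOpen (c * c') := by
    rw [PrimeSpectrum.basicOpen_mul]
    refine ⟨hc1, ?_⟩
    rw [hy]
    exact hc1'
  rw [← opensRange_of_isLocAway hloc] at hmem
  obtain ⟨z, hz⟩ := hmem
  refine ⟨Q.basic (c * c'), hS, hS', z, ?_, ?_⟩
  · apply (smap h).isOpenEmbedding.injective
    rw [← Scheme.Hom.comp_apply, smap_comp]
    exact hz
  · apply (smap h').isOpenEmbedding.injective
    rw [← Scheme.Hom.comp_apply, smap_comp, ← hy]
    exact hz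

instance [IsClosedImmersion i] : (F i j ⋙ Scheme.forget).IsLocallyDirected where
  cond {P P' Q} f f' y y' hy := by
    obtain ⟨S, hS, hS', z, hz, hz'⟩ := exists_le_le (leOfHom f) (leOfHom f') y y' hy
    exact ⟨S, homOfLE hS, homOfLE hS', z, hz, hz'⟩

end Pair

end Groth.Agent.FlatB.PushPair
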