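import Mathlib.RingTheory.Localization.Away.Basic
import Mathlib.RingTheory.Spectrum.Prime.Topology
import Mathlib.RingTheory.Ideal.Maps

/-!
# Ring theory for fibre products of rings along a surjection

For `p : A' →+* A` surjective and `q : B →+* A` we study the subring
`eqL p q = {(a, b) | p a = q b}` of `A' × B`.
-/

set_option autoImplicit false

namespace Groth.Agent.FlatB.PushRing

universe u

/-- Elementary version of "`f` is the localization away from `c`". -/
structure IsLocAway {A A₁ : Type*} [CommRing A] [CommRing A₁] (f : A →+* A₁) (c : A) : Prop where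
  unit : IsUnit (f c)
  surj : ∀ z : A₁, ∃ (n : ℕ) (a : A), z * f c ^ n = f a
  eq : ∀ a b : A, f a = f b → ∃ n : ℕ, c ^ n * a = c ^ n * b

theorem IsLocAway.of_isLocalization {A A₁ : Type*} [CommRing A] [CommRing A₁] [Algebra A A₁]
    (c : A) [IsLocalization.Away c A₁] : IsLocAway (algebraMap A A₁) c where
  unit := IsLocalization.Away.algebraMap_isUnit c
  surj z := by
    obtain ⟨n, a, h⟩ := IsLocalization.Away.surj c z
    exact ⟨n, a, h⟩
  eq a b h := IsLocalization.Away.exists_of_eq c h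

theorem IsLocAway.isLocalization {A A₁ : Type*} [CommRing A] [CommRing A₁] {f : A →+* A₁} {c : A}
    (h : IsLocAway f c) : @IsLocalization.Away A _ c A₁ _ f.toAlgebra := by
  let _ := f.toAlgebra
  refine (isLocalization_iff _ _).mpr ⟨?_, ?_, ?_⟩
  · rintro ⟨_, n, rfl⟩
    have : IsUnit (f (c ^ n)) := by rw [map_pow]; exact h.unit.pow n
    exact this
  · intro z
    obtain ⟨n, a, h⟩ := h.surj z
    refine ⟨(a, ⟨c ^ n, n, rfl⟩), ?_⟩
    simpa [RingHom.algebraMap_toAlgebra] using h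
  · intro a b hab
    obtain ⟨n, hn⟩ := h.eq a b hab
    exact ⟨⟨c ^ n, n, rfl⟩, hn⟩

/-- The fibre product of rings as a subring of the product. -/
def eqL {A A' B : Type*} [CommRing A] [CommRing A'] [CommRing B] (p : A' →+* A) (q : B →+* A) :
    Subring (A' × B) :=
  RingHom.eqLocus (p.comp (RingHom.fst A' B)) (q.comp (RingHom.snd A' B))

section

variable {A A' B : Type*} [CommRing A] [CommRing A'] [CommRing B] {p : A' →+* A} {q : B →+* A}

@[simp]
theorem mem_eqL {x : A' × B} : x ∈ eqL p q ↔ p x.1 = q x.2 := Iff.rfl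

theorem eqL_prop (x : eqL p q) : p x.1.1 = q x.1.2 := x.2

/-- The first projection -/
def eqL.fst (p : A' →+* A) (q : B →+* A) : eqL p q →+* A' :=
  (RingHom.fst A' B).comp (eqL p q).subtype

/-- The second projection -/
def eqL.snd (p : A' →+* A) (q : B →+* A) : eqL p q →+* B :=
  (RingHom.snd A' B).comp (eqL p q).subtype

@[simp] theorem eqL.fst_apply (x : eqL p q) : eqL.fst p q x = x.1.1 := rfl
@[simp] theorem eqL.snd_apply (x : eqL p q) : eqL.snd p q x = x.1.2 := rfl

theorem eqL.comm : p.comp (eqL.fst p q) = q.comp (eqL.snd p q) :=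
  RingHom.ext fun x => x.2

theorem eqL.ext {x y : eqL p q} (h₁ : x.1.1 = y.1.1) (h₂ : x.1.2 = y.1.2) : x = y :=
  Subtype.ext (Prod.ext h₁ h₂)

theorem eqL.snd_surjective (hp : Function.Surjective p) : Function.Surjective (eqL.snd p q) := by
  intro b
  obtain ⟨a, ha⟩ := hp (q b)
  exact ⟨⟨(a, b), ha⟩, rfl⟩

/-- The universal property -/
def eqL.lift {C : Type*} [CommRing C] (f : C →+* A') (g : C →+* B) (h : p.comp f = q.comp g) :
    C →+* eqL p q :=
  (f.prod g).codRestrict _ fun x => by simpa using RingHom.congr_fun h x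

@[simp] theorem eqL.lift_apply_fst {C : Type*} [CommRing C] (f : C →+* A') (g : C →+* B)
    (h : p.comp f = q.comp g) (x : C) : (eqL.lift f g h x).1.1 = f x := rfl
@[simp] theorem eqL.lift_apply_snd {C : Type*} [CommRing C] (f : C →+* A') (g : C →+* B)
    (h : p.comp f = q.comp g) (x : C) : (eqL.lift f g h x).1.2 = g x := rfl

/-- functoriality -/
def eqL.map {A₁ A₁' B₁ : Type*} [CommRing A₁] [CommRing A₁'] [CommRing B₁] {p₁ : A₁' →+* A₁}
    {q₁ : B₁ →+* A₁} (f' : A' →+* A₁') (f : A →+* A₁) (g : B →+* B₁)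
    (h : p₁.comp f' = f.comp p) (h' : q₁.comp g = f.comp q) : eqL p q →+* eqL p₁ q₁ :=
  ((f'.prodMap g).comp (eqL p q).subtype).codRestrict _ fun x => by
    have := eqL_prop x
    have h1 := RingHom.congr_fun h x.1.1
    have h2 := RingHom.congr_fun h' x.1.2
    simp only [RingHom.comp_apply] at h1 h2
    simp [h1, h2, this]

@[simp] theorem eqL.map_apply_fst {A₁ A₁' B₁ : Type*} [CommRing A₁] [CommRing A₁'] [CommRing B₁]
    {p₁ : A₁' →+* A₁} {q₁ : B₁ →+* A₁} (f' : A' →+* A₁') (f : A →+* A₁) (g : B →+* B₁)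
    (h : p₁.comp f' = f.comp p) (h' : q₁.comp g = f.comp q) (x : eqL p q) :
    (eqL.map f' f g h h' x).1.1 = f' x.1.1 := rfl
@[simp] theorem eqL.map_apply_snd {A₁ A₁' B₁ : Type*} [CommRing A₁] [CommRing A₁'] [CommRing B₁]
    {p₁ : A₁' →+* A₁} {q₁ : B₁ →+* A₁} (f' : A' →+* A₁') (f : A →+* A₁) (g : B →+* B₁)
    (h : p₁.comp f' = f.comp p) (h' : q₁.comp g = f.comp q) (x : eqL p q) :
    (eqL.map f' f g h h' x).1.2 = g x.1.2 := rfl

/-- Fibre products of rings commute with localization away from an element. -/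
theorem eqL.map_isLocAway {A₁ A₁' B₁ : Type*} [CommRing A₁] [CommRing A₁'] [CommRing B₁]
    {p₁ : A₁' →+* A₁} {q₁ : B₁ →+* A₁} (f' : A' →+* A₁') (f : A →+* A₁) (g : B →+* B₁)
    (h : p₁.comp f' = f.comp p) (h' : q₁.comp g = f.comp q) (c : eqL p q)
    (hf' : IsLocAway f' c.1.1) (hf : IsLocAway f (p c.1.1)) (hg : IsLocAway g c.1.2) :
    IsLocAway (eqL.map f' f g h h') c where
  unit := by
    obtain ⟨u, hu⟩ := hf'.unit
    obtain ⟨v, hv⟩ := hg.unit
    have e1 : p₁ (↑u : A₁') = q₁ (↑v : B₁) := by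
      rw [hu, hv]
      have h1 := RingHom.congr_fun h c.1.1
      have h2 := RingHom.congr_fun h' c.1.2
      simp only [RingHom.comp_apply] at h1 h2
      rw [h1, h2, eqL_prop c]
    have e2 : p₁ (↑u⁻¹ : A₁') = q₁ (↑v⁻¹ : B₁) := by
      have a1 : p₁ (↑u : A₁') * p₁ (↑u⁻¹ : A₁') = 1 := by rw [← map_mul]; simp
      have a2 : q₁ (↑v : B₁) * q₁ (↑v⁻¹ : B₁) = 1 := by rw [← map_mul]; simp
      calc p₁ (↑u⁻¹ : A₁') = p₁ (↑u⁻¹ : A₁') * (q₁ (↑v : B₁) * q₁ (↑v⁻¹ : B₁)) := by rw [a2, mul_one]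
        _ = (p₁ (↑u : A₁') * p₁ (↑u⁻¹ : A₁')) * q₁ (↑v⁻¹ : B₁) := by rw [e1]; ring
        _ = q₁ (↑v⁻¹ : B₁) := by rw [a1, one_mul]
    refine IsUnit.of_mul_eq_one ⟨(↑u⁻¹, ↑v⁻¹), e2⟩ ?_
    apply eqL.ext
    · change f' c.1.1 * ↑u⁻¹ = 1
      rw [← hu]; simp
    · change g c.1.2 * ↑v⁻¹ = 1
      rw [← hv]; simp
  surj z := by
    obtain ⟨n, a, ha⟩ := hf'.surj z.1.1
    obtain ⟨m, b, hb⟩ := hg.surj z.1.2
    have key : f (p (c.1.1 ^ m * a)) = f (q (c.1.2 ^ n * b)) := by
      have h1 := RingHom.congr_fun h (c.1.1 ^ m * a)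
      have h2 := RingHom.congr_fun h' (c.1.2 ^ n * b)
      simp only [RingHom.comp_apply] at h1 h2
      rw [← h1, ← h2]
      have h3 := RingHom.congr_fun h c.1.1
      have h4 := RingHom.congr_fun h' c.1.2
      simp only [RingHom.comp_apply] at h3 h4
      simp only [map_mul, map_pow, ← ha, ← hb, eqL_prop z, h3, h4, eqL_prop c]
      ring
    obtain ⟨k, hk⟩ := hf.eq _ _ key
    refine ⟨k + (m + n), ⟨(c.1.1 ^ k * (c.1.1 ^ m * a), c.1.2 ^ k * (c.1.2 ^ n * b)), ?_⟩, ?_⟩
    · rw [mem_eqL]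
      change p (c.1.1 ^ k * (c.1.1 ^ m * a)) = q (c.1.2 ^ k * (c.1.2 ^ n * b))
      rw [map_mul, map_mul q, map_pow, hk, map_pow q, eqL_prop c]
    · apply eqL.ext
      · change z.1.1 * (f' c.1.1) ^ (k + (m + n)) = f' (c.1.1 ^ k * (c.1.1 ^ m * a))
        rw [map_mul f', map_mul f', map_pow f', map_pow f', ← ha]
        ring
      · change z.1.2 * (g c.1.2) ^ (k + (m + n)) = g (c.1.2 ^ k * (c.1.2 ^ n * b))
        rw [map_mul g, map_mul g, map_pow g, map_pow g, ← hb]
        ring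
  eq a b hab := by
    have h1 : f' a.1.1 = f' b.1.1 := congrArg (fun x => x.1.1) hab
    have h2 : g a.1.2 = g b.1.2 := congrArg (fun x => x.1.2) hab
    obtain ⟨n, hn⟩ := hf'.eq _ _ h1
    obtain ⟨m, hm⟩ := hg.eq _ _ h2
    refine ⟨n + m, eqL.ext ?_ ?_⟩
    · change c.1.1 ^ (n + m) * a.1.1 = c.1.1 ^ (n + m) * b.1.1
      rw [pow_add, mul_comm (c.1.1 ^ n), mul_assoc, hn, mul_assoc]
    · change c.1.2 ^ (n + m) * a.1.2 = c.1.2 ^ (n + m) * b.1.2
      rw [pow_add, mul_assoc, hm, mul_assoc]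

/-- Every prime of the fibre product comes from one of the two factors. -/
theorem eqL.exists_prime (hp : Function.Surjective p) (P : PrimeSpectrum (eqL p q)) :
    (∃ Q : PrimeSpectrum A', PrimeSpectrum.comap (eqL.fst p q) Q = P) ∨
      ∃ Q : PrimeSpectrum B, PrimeSpectrum.comap (eqL.snd p q) Q = P := by
  by_cases H : RingHom.ker (eqL.snd p q) ≤ P.asIdeal
  · right
    have := range_comap_of_surjective _ (eqL.snd p q) (eqL.snd_surjective hp)
    have h2 : P ∈ Set.range (PrimeSpectrum.comap (eqL.snd p q)) := by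
      rw [this]; exact H
    exact h2
  · left
    obtain ⟨x, hx, hxP⟩ := Set.not_subset.mp H
    have hx2 : x.1.2 = 0 := hx
    have hx1 : p x.1.1 = 0 := by rw [eqL_prop x, hx2, map_zero]
    let m : A' → eqL p q := fun y => ⟨(x.1.1 * y, 0), by simp [hx1]⟩
    have hm1 : m 1 = x := eqL.ext (by simp [m]) (by simp [m, hx2])
    have hmadd : ∀ y z, m (y + z) = m y + m z := fun y z =>
      eqL.ext (by simp [m, mul_add]) (by simp [m])
    have hmmul : ∀ y z, m y * m z = x * m (y * z) := fun y z =>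
      eqL.ext (by simp [m]; ring) (by simp [m])
    have hmx : ∀ y : eqL p q, m y.1.1 = x * y := fun y =>
      eqL.ext (by simp [m]) (by simp [m, hx2])
    let Q : Ideal A' :=
      { carrier := {y | m y ∈ P.asIdeal}
        add_mem' := fun {y z} hy hz => by
          change m (y + z) ∈ P.asIdeal
          rw [hmadd]
          exact P.asIdeal.add_mem hy hz
        zero_mem' := by
          have : m 0 = 0 := eqL.ext (by simp [m]) (by simp [m])
          change m 0 ∈ P.asIdeal
          simp [this]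
        smul_mem' := fun y z hz => by
          change m (y * z) ∈ P.asIdeal
          replace hz : m z ∈ P.asIdeal := hz
          have := hmmul y z
          have h3 : x * m (y * z) ∈ P.asIdeal := by
            rw [← this]; exact P.asIdeal.mul_mem_left _ hz
          exact (P.isPrime.mem_or_mem h3).resolve_left hxP }
    have hQ : Q.IsPrime := by
      refine Ideal.isPrime_iff.mpr ⟨?_, ?_⟩
      · intro h
        have : (1 : A') ∈ Q := by rw [h]; trivial
        apply hxP
        have h2 : m 1 ∈ P.asIdeal := this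
        rwa [hm1] at h2
      · intro y z hyz
        have h1 : m (y * z) ∈ P.asIdeal := hyz
        have h2 : m y * m z ∈ P.asIdeal := by
          rw [hmmul]; exact P.asIdeal.mul_mem_left _ h1
        exact P.isPrime.mem_or_mem h2
    refine ⟨⟨Q, hQ⟩, ?_⟩
    apply PrimeSpectrum.ext
    ext y
    change m y.1.1 ∈ P.asIdeal ↔ _
    rw [hmx]
    exact ⟨fun h => (P.isPrime.mem_or_mem h).resolve_left hxP, fun h => P.asIdeal.mul_mem_left _ h⟩

end

/-- The algebraic heart of the description of the topology of the pushout. -/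
theorem exists_pow_eq_of_forall_prime {A A' : Type*} [CommRing A] [CommRing A'] (p : A' →+* A)
    (hp : Function.Surjective p) (J : Ideal A') (e : A)
    (H : ∀ Q : PrimeSpectrum A, e ∉ Q.asIdeal → ∃ j ∈ J, p j ∉ Q.asIdeal) :
    ∃ n : ℕ, ∃ j ∈ J, p j = e ^ (n + 1) := by
  have h1 : e ∈ (J.map p).radical := by
    rw [Ideal.radical_eq_sInf, Submodule.mem_sInf]
    rintro Q ⟨hQ, hQ'⟩
    by_contra h
    obtain ⟨j, hj, hj'⟩ := H ⟨Q, hQ'⟩ h
    exact hj' (hQ (Ideal.mem_map_of_mem p hj))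
  obtain ⟨n, hn⟩ := h1
  obtain ⟨j, hj, hj'⟩ := (Ideal.mem_map_iff_of_surjective p hp).mp hn
  obtain ⟨a, ha⟩ := hp e
  exact ⟨n, j * a, J.mul_mem_right _ hj, by rw [map_mul, hj', ha, pow_succ]⟩

end Groth.Agent.FlatB.PushRing
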