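import Groth.Agent.FlatB.PushMain
import Mathlib.Topology.Sheaves.SheafCondition.UniqueGluing

/-!
# Sections of the structure sheaf of the glued pushout

For every open `O` of the pushout, sections over `O` are pairs of sections over the preimages of `O`
which agree on `Z`.
-/

set_option autoImplicit false

open AlgebraicGeometry CategoryTheory Limits TopologicalSpace Opposite
open Groth.Agent.FlatB.PushRing Groth.Agent.FlatB.PushPair Groth.Agent.FlatB.PushGlue

universe u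

namespace Groth.Agent.FlatB.PushSections

open PushMain

variable {X Y Z : Scheme.{u}} {i : Z ⟶ X} {j : Z ⟶ Y} [IsClosedImmersion i]

/-- sections over a chart -/
noncomputable def ψ (P : Pair i j) : Γ(Po i j, O P) ⟶ CommRingCat.of P.R :=
  (ι P).appLE (O P) ⊤ (by rintro x -; exact ⟨x, rfl⟩) ≫ (Scheme.ΓSpecIso (CommRingCat.of P.R)).hom

instance (P : Pair i j) : IsIso (ψ P) := by
  have := (ι P).isIso_app (O P) le_rfl
  have h : (⊤ : (Spec (CommRingCat.of P.R)).Opens) = ι P ⁻¹ᵁ (O P) :=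
    top_le_iff.mp (by rintro x -; exact ⟨x, rfl⟩) |>.symm
  have : IsIso ((ι P).appLE (O P) ⊤ (by rintro x -; exact ⟨x, rfl⟩)) := by
    have e : (ι P).appLE (O P) ⊤ (by rintro x -; exact ⟨x, rfl⟩) =
      (ι P).app (O P) ≫ (Spec (CommRingCat.of P.R)).presheaf.map (eqToHom h).op := rfl
    rw [e]
    infer_instance
  unfold ψ
  infer_instance

variable (H : ∀ y : Y, ∃ P : Pair i j, y ∈ P.V)
variable (a : X ⟶ Po i j) (b : Y ⟶ Po i j) (ha : ∀ P : Pair i j, P.hU.fromSpec ≫ a = aS P ≫ ι P)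
  (hb : ∀ P : Pair i j, P.hV.fromSpec ≫ b = bS P ≫ ι P)

include H ha in
theorem preimage_a_O (P : Pair i j) : a ⁻¹ᵁ O P = P.U := by
  rw [O, preimage_a H a ha, IsAffineOpen.opensRange_fromSpec]

include H hb in
theorem preimage_b_O (P : Pair i j) : b ⁻¹ᵁ O P = P.V := by
  rw [O, preimage_b H b hb, IsAffineOpen.opensRange_fromSpec]

theorem fromSpec_appLE_top {X : Scheme.{u}} {U : X.Opens} (hU : IsAffineOpen U) :
    hU.fromSpec.appLE U ⊤ (by rw [hU.fromSpec_preimage_self]) ≫ (Scheme.ΓSpecIso Γ(X, U)).hom =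
      𝟙 _ := by
  rw [Scheme.Hom.appLE, hU.fromSpec_app_self, Category.assoc, Category.assoc,
    ← Functor.map_comp_assoc]
  simp

include H ha in
theorem ψ_fst (P : Pair i j) : ψ P ≫ CommRingCat.ofHom (eqL.fst P.p P.q) =
    a.appLE (O P) P.U (preimage_a_O H a ha P).ge := by
  rw [ψ, Category.assoc, ← Scheme.ΓSpecIso_naturality]
  have h1 : (ι P).appLE (O P) ⊤ (by rintro x -; exact ⟨x, rfl⟩) ≫
      (aS P).appLE ⊤ ⊤ le_top = a.appLE (O P) P.U (preimage_a_O H a ha P).ge ≫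
        P.hU.fromSpec.appLE P.U ⊤ (by rw [P.hU.fromSpec_preimage_self]) := by
    rw [Scheme.Hom.appLE_comp_appLE, Scheme.Hom.appLE_comp_appLE]
    simp only [ha]
  have h2 : (aS P).appLE ⊤ ⊤ le_top = (aS P).appTop := Scheme.Hom.appLE_eq_app _
  rw [h2] at h1
  rw [← Category.assoc]
  refine (congrArg (· ≫ (Scheme.ΓSpecIso Γ(X, P.U)).hom) h1).trans ?_
  rw [Category.assoc, fromSpec_appLE_top, Category.comp_id]

include H hb in
theorem ψ_snd (P : Pair i j) : ψ P ≫ CommRingCat.ofHom (eqL.snd P.p P.q) =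
    b.appLE (O P) P.V (preimage_b_O H b hb P).ge := by
  rw [ψ, Category.assoc, ← Scheme.ΓSpecIso_naturality]
  have h1 : (ι P).appLE (O P) ⊤ (by rintro x -; exact ⟨x, rfl⟩) ≫
      (bS P).appLE ⊤ ⊤ le_top = b.appLE (O P) P.V (preimage_b_O H b hb P).ge ≫
        P.hV.fromSpec.appLE P.V ⊤ (by rw [P.hV.fromSpec_preimage_self]) := by
    rw [Scheme.Hom.appLE_comp_appLE, Scheme.Hom.appLE_comp_appLE]
    simp only [hb]
  have h2 : (bS P).appLE ⊤ ⊤ le_top = (bS P).appTop := Scheme.Hom.appLE_eq_app _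
  rw [h2] at h1
  rw [← Category.assoc]
  refine (congrArg (· ≫ (Scheme.ΓSpecIso Γ(Y, P.V)).hom) h1).trans ?_
  rw [Category.assoc, fromSpec_appLE_top, Category.comp_id]

include H ha hb in
/-- uniqueness on charts -/
theorem chart_unique (P : Pair i j) (r r' : Γ(Po i j, O P))
    (h₁ : a.appLE (O P) P.U (preimage_a_O H a ha P).ge r =
      a.appLE (O P) P.U (preimage_a_O H a ha P).ge r')
    (h₂ : b.appLE (O P) P.V (preimage_b_O H b hb P).ge r =
      b.appLE (O P) P.V (preimage_b_O H b hb P).ge r') : r = r' := by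
  have hinj : Function.Injective (ψ P) :=
    ((ConcreteCategory.isIso_iff_bijective (ψ P)).mp inferInstance).1
  apply hinj
  rw [← ψ_fst H a ha P] at h₁
  rw [← ψ_snd H b hb P] at h₂
  exact eqL.ext h₁ h₂

include H ha hb in
/-- existence on charts -/
theorem chart_exists (P : Pair i j) (s : Γ(X, P.U)) (t : Γ(Y, P.V)) (hst : P.p s = P.q t) :
    ∃ r : Γ(Po i j, O P), a.appLE (O P) P.U (preimage_a_O H a ha P).ge r = s ∧
      b.appLE (O P) P.V (preimage_b_O H b hb P).ge r = t := by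
  obtain ⟨r, hr⟩ := ((ConcreteCategory.isIso_iff_bijective (ψ P)).mp inferInstance).2
    (⟨(s, t), hst⟩ : P.R)
  refine ⟨r, ?_, ?_⟩
  · rw [← ψ_fst H a ha P]
    change (ψ P r).1.1 = s
    rw [hr]
  · rw [← ψ_snd H b hb P]
    change (ψ P r).1.2 = t
    rw [hr]

/-- Every point of an open subset is contained in a chart contained in the open subset. -/
theorem exists_chart (V : (Po i j).Opens) (y : Po i j) (hy : y ∈ V) :
    ∃ P : Pair i j, y ∈ O P ∧ O P ≤ V := by
  obtain ⟨P, z, rfl⟩ := ι_surj y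
  obtain ⟨_, ⟨_, ⟨c, rfl⟩, rfl⟩, hc1, hc2⟩ :=
    PrimeSpectrum.isBasis_basic_opens.exists_subset_of_mem_open
    (show z ∈ ((ι P ⁻¹ᵁ V : (Spec (CommRingCat.of P.R)).Opens) : Set _) from hy) (ι P ⁻¹ᵁ V).isOpen
  refine ⟨P.basic c, smap_mem_range c z hc1, ?_⟩
  rintro _ ⟨w, rfl⟩
  have hloc : IsLocAway (Pair.rmap (P.basic_le c)) c := Pair.isLocAway_rmap _ _ rfl rfl
  have hrange : (Pair.smap (P.basic_le c)).opensRange = PrimeSpectrum.basicOpen c :=
    opensRange_of_isLocAway hloc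
  have h1 : Pair.smap (P.basic_le c) w ∈ ι P ⁻¹ᵁ V := by
    apply hc2
    rw [← hrange]
    exact ⟨w, rfl⟩
  rw [← smap_ι (P.basic_le c), Scheme.Hom.comp_apply]
  exact h1

/-- Every point in the intersection of two charts is contained in a chart for a smaller pair. -/
theorem exists_chart_le (P Q : Pair i j) (y : Po i j) (hP : y ∈ O P) (hQ : y ∈ O Q) :
    ∃ S : Pair i j, S ≤ P ∧ S ≤ Q ∧ y ∈ O S := by
  obtain ⟨z, rfl⟩ := hP
  obtain ⟨w, hw⟩ := hQ
  obtain ⟨S, hS, hS', v, hv, hv'⟩ := ι_eq hw.symm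
  refine ⟨S, hS, hS', v, ?_⟩
  rw [← smap_ι hS, Scheme.Hom.comp_apply, hv]

include H ha hb in
/-- uniqueness of sections -/
theorem unique (V : (Po i j).Opens) (r r' : Γ(Po i j, V)) (h₁ : a.app V r = a.app V r')
    (h₂ : b.app V r = b.app V r') : r = r' := by
  apply (Po i j).sheaf.eq_of_locally_eq' (fun P : {P : Pair i j // O P ≤ V} => O P.1) V
    (fun P => homOfLE P.2)
  · intro y hy
    obtain ⟨P, hP, hPV⟩ := exists_chart V y hy
    exact Opens.mem_iSup.mpr ⟨⟨P, hPV⟩, hP⟩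
  · rintro ⟨P, hP⟩
    apply chart_unique H a b ha hb P
    · change ((Po i j).presheaf.map (homOfLE hP).op ≫ a.appLE (O P) P.U _) r =
        ((Po i j).presheaf.map (homOfLE hP).op ≫ a.appLE (O P) P.U _) r'
      have hle : P.U ≤ a ⁻¹ᵁ V := by
        rw [← preimage_a_O H a ha P]
        exact (Opens.map a.base).monotone hP
      have : (Po i j).presheaf.map (homOfLE hP).op ≫
          a.appLE (O P) P.U (preimage_a_O H a ha P).ge =
          a.app V ≫ X.presheaf.map (homOfLE hle).op := by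
        rw [Scheme.Hom.map_appLE, Scheme.Hom.appLE]
      rw [this, CommRingCat.comp_apply, CommRingCat.comp_apply, h₁]
    · change ((Po i j).presheaf.map (homOfLE hP).op ≫ b.appLE (O P) P.V _) r =
        ((Po i j).presheaf.map (homOfLE hP).op ≫ b.appLE (O P) P.V _) r'
      have hle : P.V ≤ b ⁻¹ᵁ V := by
        rw [← preimage_b_O H b hb P]
        exact (Opens.map b.base).monotone hP
      have : (Po i j).presheaf.map (homOfLE hP).op ≫
          b.appLE (O P) P.V (preimage_b_O H b hb P).ge =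
          b.app V ≫ Y.presheaf.map (homOfLE hle).op := by
        rw [Scheme.Hom.map_appLE, Scheme.Hom.appLE]
      rw [this, CommRingCat.comp_apply, CommRingCat.comp_apply, h₂]

theorem appLE_res {X Y : Scheme.{u}} (f : X ⟶ Y) {U U' : Y.Opens} {V V' : X.Opens} (hU : U' ≤ U)
    (hV : V' ≤ V) (e : V ≤ f ⁻¹ᵁ U) (e' : V' ≤ f ⁻¹ᵁ U') (r : Γ(Y, U)) :
    f.appLE U' V' e' (res Y hU r) = res X hV (f.appLE U V e r) := by
  simp only [res, ← CommRingCat.comp_apply, Scheme.Hom.map_appLE, Scheme.Hom.appLE_map]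

include H ha hb in
/-- existence of sections -/
theorem exists_section (V : (Po i j).Opens) (s : Γ(X, a ⁻¹ᵁ V)) (t : Γ(Y, b ⁻¹ᵁ V))
    (W : Z.Opens) (hWa : W = i ⁻¹ᵁ a ⁻¹ᵁ V) (hWb : W = j ⁻¹ᵁ b ⁻¹ᵁ V)
    (hst : i.appLE (a ⁻¹ᵁ V) W hWa.le s = j.appLE (b ⁻¹ᵁ V) W hWb.le t) :
    ∃ r : Γ(Po i j, V), a.app V r = s ∧ b.app V r = t := by
  have hUle : ∀ P : Pair i j, O P ≤ V → P.U ≤ a ⁻¹ᵁ V := fun P hP => by
    rw [← preimage_a_O H a ha P]
    exact (Opens.map a.base).monotone hP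
  have hVle : ∀ P : Pair i j, O P ≤ V → P.V ≤ b ⁻¹ᵁ V := fun P hP => by
    rw [← preimage_b_O H b hb P]
    exact (Opens.map b.base).monotone hP
  have hWle : ∀ P : Pair i j, O P ≤ V → P.W ≤ W := fun P hP => by
    rw [← P.hWU, hWa]
    exact (Opens.map i.base).monotone (hUle P hP)
  -- the local sections
  have hloc : ∀ P : {P : Pair i j // O P ≤ V}, ∃ r : Γ(Po i j, O P.1),
      a.appLE (O P.1) P.1.U (preimage_a_O H a ha P.1).ge r = res X (hUle P.1 P.2) s ∧
      b.appLE (O P.1) P.1.V (preimage_b_O H b hb P.1).ge r = res Y (hVle P.1 P.2) t := by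
    rintro ⟨P, hP⟩
    apply chart_exists H a b ha hb P
    have h1 : P.p (res X (hUle P hP) s) = res Z (hWle P hP) (i.appLE (a ⁻¹ᵁ V) W hWa.le s) :=
      appLE_res i (hUle P hP) (hWle P hP) _ _ s
    have h2 : P.q (res Y (hVle P hP) t) = res Z (hWle P hP) (j.appLE (b ⁻¹ᵁ V) W hWb.le t) :=
      appLE_res j (hVle P hP) (hWle P hP) _ _ t
    rw [h1, h2, hst]
  choose r hr1 hr2 using hloc
  -- compatibility
  have hcomp : ∀ (P Q : {P : Pair i j // O P ≤ V}) (h : P.1 ≤ Q.1),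
      res (Po i j) (O_mono h) (r Q) = r P := by
    intro P Q h
    apply chart_unique H a b ha hb P.1
    · rw [appLE_res a (O_mono h) h.1 (preimage_a_O H a ha Q.1).ge, hr1, hr1, res_res]
    · rw [appLE_res b (O_mono h) h.2 (preimage_b_O H b hb Q.1).ge, hr2, hr2, res_res]
  have hcover : V ≤ iSup (fun P : {P : Pair i j // O P ≤ V} => O P.1) := by
    intro y hy
    obtain ⟨P, hP, hPV⟩ := exists_chart V y hy
    exact Opens.mem_iSup.mpr ⟨⟨P, hPV⟩, hP⟩
  obtain ⟨g, hg, -⟩ := (Po i j).sheaf.existsUnique_gluing'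
    (fun P : {P : Pair i j // O P ≤ V} => O P.1) V (fun P => homOfLE P.2) hcover r (by
      intro P Q
      let I := {S : Pair i j // S ≤ P.1 ∧ S ≤ Q.1}
      apply (Po i j).sheaf.eq_of_locally_eq' (fun S : I => O S.1) (O P.1 ⊓ O Q.1)
        (fun S => homOfLE (le_inf (O_mono S.2.1) (O_mono S.2.2)))
      · rintro y ⟨hy1, hy2⟩
        obtain ⟨S, hS1, hS2, hyS⟩ := exists_chart_le P.1 Q.1 y hy1 hy2
        exact Opens.mem_iSup.mpr ⟨⟨S, hS1, hS2⟩, hyS⟩
      · rintro ⟨S, hS1, hS2⟩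
        change res (Po i j) (le_inf (O_mono hS1) (O_mono hS2))
            (res (Po i j) inf_le_left (r P)) =
          res (Po i j) (le_inf (O_mono hS1) (O_mono hS2))
            (res (Po i j) inf_le_right (r Q))
        rw [res_res, res_res]
        exact (hcomp ⟨S, (O_mono hS1).trans P.2⟩ P hS1).trans
          (hcomp ⟨S, (O_mono hS1).trans P.2⟩ Q hS2).symm)
  refine ⟨g, ?_, ?_⟩
  · apply X.sheaf.eq_of_locally_eq' (fun P : {P : Pair i j // O P ≤ V} => P.1.U) (a ⁻¹ᵁ V)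
      (fun P => homOfLE (hUle P.1 P.2))
    · intro x hx
      obtain ⟨P, hP, hPV⟩ := exists_chart V (a x) hx
      refine Opens.mem_iSup.mpr ⟨⟨P, hPV⟩, ?_⟩
      change x ∈ P.U
      rw [← preimage_a_O H a ha P]
      exact hP
    · intro P
      change res X (hUle P.1 P.2) (a.app V g) = res X (hUle P.1 P.2) s
      rw [← hr1, ← hg P]
      have := appLE_res a (U := V) P.2 (hUle P.1 P.2) le_rfl (preimage_a_O H a ha P.1).ge g
      rw [Scheme.Hom.appLE_eq_app] at this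
      exact this.symm
  · apply Y.sheaf.eq_of_locally_eq' (fun P : {P : Pair i j // O P ≤ V} => P.1.V) (b ⁻¹ᵁ V)
      (fun P => homOfLE (hVle P.1 P.2))
    · intro x hx
      obtain ⟨P, hP, hPV⟩ := exists_chart V (b x) hx
      refine Opens.mem_iSup.mpr ⟨⟨P, hPV⟩, ?_⟩
      change x ∈ P.V
      rw [← preimage_b_O H b hb P]
      exact hP
    · intro P
      change res Y (hVle P.1 P.2) (b.app V g) = res Y (hVle P.1 P.2) t
      rw [← hr2, ← hg P]
      have := appLE_res b (U := V) P.2 (hVle P.1 P.2) le_rfl (preimage_b_O H b hb P.1).ge g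
      rw [Scheme.Hom.appLE_eq_app] at this
      exact this.symm

/-- Strong form of the existence of the pushout of a closed immersion `i` along a morphism `j`
such that every point of `Y` lies in an adapted affine pair, with the description of the
topology and of the sections. -/
theorem exists_pushout_sections {X Y Z : Scheme.{u}} (i : Z ⟶ X) (j : Z ⟶ Y)
    [IsClosedImmersion i]
    (H : ∀ y : Y, ∃ (U : X.Opens) (V : Y.Opens), IsAffineOpen U ∧ IsAffineOpen V ∧ y ∈ V ∧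
      i ⁻¹ᵁ U = j ⁻¹ᵁ V) :
    ∃ (W : Scheme.{u}) (a : X ⟶ W) (b : Y ⟶ W), IsPushout i j a b ∧
      IsPullback i j a b ∧ IsClosedImmersion b ∧ IsAffineHom a ∧
      (IsIntegralHom j → IsIntegralHom a) ∧ (IsClosedImmersion j → IsClosedImmersion a) ∧
      (Function.Surjective i → Function.Surjective b) ∧
      (∀ w : W, (∃ x, a x = w) ∨ ∃ y, b y = w) ∧
      (∀ (U : X.Opens) (V : Y.Opens), IsAffineOpen U → IsAffineOpen V → i ⁻¹ᵁ U = j ⁻¹ᵁ V →
        ∃ O : W.Opens, IsAffineOpen O ∧ a ⁻¹ᵁ O = U ∧ b ⁻¹ᵁ O = V) ∧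
      (∀ (O : W.Opens) (s : Γ(X, a ⁻¹ᵁ O)) (t : Γ(Y, b ⁻¹ᵁ O)) (V : Z.Opens)
        (hVa : V = i ⁻¹ᵁ a ⁻¹ᵁ O) (hVb : V = j ⁻¹ᵁ b ⁻¹ᵁ O),
        i.appLE (a ⁻¹ᵁ O) V hVa.le s = j.appLE (b ⁻¹ᵁ O) V hVb.le t →
          ∃! r : Γ(W, O), a.app O r = s ∧ b.app O r = t) ∧
      (∀ (O : W.Opens) (r r' : Γ(W, O)), a.app O r = a.app O r' → b.app O r = b.app O r' →
        r = r') := by
  have H' : ∀ y : Y, ∃ P : Pair i j, y ∈ P.V := by
    intro y
    obtain ⟨U, V, hU, hV, hy, h⟩ := H y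
    exact ⟨⟨U, V, _, hU, hV, h, rfl⟩, hy⟩
  obtain ⟨a, ha⟩ := exists_a H'
  obtain ⟨b, hb⟩ := exists_b H'
  refine ⟨Po i j, a, b, isPushout H' a b ha hb, isPullback H' a b ha hb,
    isClosedImmersion_b H' b hb, isAffineHom_a H' a ha, fun _ => isIntegralHom_a H' a ha,
    fun _ => isClosedImmersion_a H' a ha, surjective_b H' a b ha hb, surj a b ha hb, ?_, ?_, ?_⟩
  · intro U V hU hV h
    let P : Pair i j := ⟨U, V, _, hU, hV, h, rfl⟩
    exact ⟨O P, isAffineOpen_O P, preimage_a_O H' a ha P, preimage_b_O H' b hb P⟩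
  · intro O s t V hVa hVb hst
    obtain ⟨r, hr1, hr2⟩ := exists_section H' a b ha hb O s t V hVa hVb hst
    refine ⟨r, ⟨hr1, hr2⟩, ?_⟩
    rintro r' ⟨hr1', hr2'⟩
    exact unique H' a b ha hb O r' r (hr1'.trans hr1.symm) (hr2'.trans hr2.symm)
  · intro O r r' h1 h2
    exact unique H' a b ha hb O r r' h1 h2

end Groth.Agent.FlatB.PushSections
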