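import Groth.Agent.FlatB.PushGlue
import Mathlib.AlgebraicGeometry.Morphisms.IsIso

/-!
# The spectrum of a fibre product of rings is a pushout of schemes
-/

set_option autoImplicit false

open AlgebraicGeometry CategoryTheory Limits TopologicalSpace Opposite
open Groth.Agent.FlatB.PushRing Groth.Agent.FlatB.PushPair Groth.Agent.FlatB.PushGlue

universe u

namespace Groth.Agent.FlatB.PushSpec

variable {A A' B : Type u} [CommRing A] [CommRing A'] [CommRing B] (p : A' →+* A) (q : B →+* A)

/-- The top pair. -/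
noncomputable def topPair {X Y Z : Scheme.{u}} (i : Z ⟶ X) (j : Z ⟶ Y) [IsAffine X] [IsAffine Y] :
    Pair i j where
  U := ⊤
  V := ⊤
  W := ⊤
  hU := isAffineOpen_top X
  hV := isAffineOpen_top Y
  hWU := rfl
  hWV := rfl

theorem le_topPair {X Y Z : Scheme.{u}} {i : Z ⟶ X} {j : Z ⟶ Y} [IsAffine X] [IsAffine Y]
    (P : Pair i j) : P ≤ topPair i j := ⟨le_top, le_top⟩

instance {X Y Z : Scheme.{u}} (i : Z ⟶ X) (j : Z ⟶ Y) [IsClosedImmersion i] [IsAffine X]
    [IsAffine Y] : IsIso (ι (topPair i j)) := by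
  have : Surjective (ι (topPair i j)) := by
    constructor
    intro y
    obtain ⟨P, z, rfl⟩ := ι_surj y
    refine ⟨Pair.smap (le_topPair P) z, ?_⟩
    rw [← Scheme.Hom.comp_apply, smap_ι]
  rw [isIso_iff_isOpenImmersion_and_surjective]
  exact ⟨inferInstance, this⟩

theorem eqL_map_bijective {A A' B A₁ A₁' B₁ : Type*} [CommRing A] [CommRing A'] [CommRing B]
    [CommRing A₁] [CommRing A₁'] [CommRing B₁] {p : A' →+* A} {q : B →+* A} {p₁ : A₁' →+* A₁}
    {q₁ : B₁ →+* A₁} (f' : A' →+* A₁') (f : A →+* A₁) (g : B →+* B₁)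
    (h : p₁.comp f' = f.comp p) (h' : q₁.comp g = f.comp q) (hf' : Function.Bijective f')
    (hf : Function.Injective f) (hg : Function.Bijective g) :
    Function.Bijective (eqL.map f' f g h h') := by
  constructor
  · intro x y hxy
    exact eqL.ext (hf'.1 (congrArg (fun z => z.1.1) hxy)) (hg.1 (congrArg (fun z => z.1.2) hxy))
  · intro z
    obtain ⟨x, hx⟩ := hf'.2 z.1.1
    obtain ⟨y, hy⟩ := hg.2 z.1.2
    refine ⟨⟨(x, y), ?_⟩, eqL.ext hx hy⟩
    change p x = q y
    apply hf
    have h1 := RingHom.congr_fun h x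
    have h2 := RingHom.congr_fun h' y
    simp only [RingHom.comp_apply] at h1 h2
    rw [← h1, ← h2, hx, hy]
    exact eqL_prop z

/-- For `p` surjective the spectrum of the fibre product ring is a pushout of schemes. -/
theorem isPushout_Spec (hp : Function.Surjective p) :
    IsPushout (Spec.map (CommRingCat.ofHom p)) (Spec.map (CommRingCat.ofHom q))
      (Spec.map (CommRingCat.ofHom (eqL.fst p q))) (Spec.map (CommRingCat.ofHom (eqL.snd p q))) := by
  set i := Spec.map (CommRingCat.ofHom p) with hi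
  set j := Spec.map (CommRingCat.ofHom q) with hj
  have : IsClosedImmersion i := IsClosedImmersion.spec_of_surjective _ hp
  have H : ∀ y : Spec (CommRingCat.of B), ∃ P : Pair i j, y ∈ P.V := fun y =>
    ⟨topPair i j, trivial⟩
  obtain ⟨a, ha⟩ := exists_a H
  obtain ⟨b, hb⟩ := exists_b H
  have hpo := isPushout H a b ha hb
  have h1 : (topPair i j).p.comp (Scheme.ΓSpecIso (CommRingCat.of A')).inv.hom =
      (Scheme.ΓSpecIso (CommRingCat.of A)).inv.hom.comp p := by
    have := congrArg CommRingCat.Hom.hom (Scheme.ΓSpecIso_inv_naturality (CommRingCat.ofHom p))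
    refine Eq.trans ?_ this.symm
    have h2 : (topPair i j).p = i.appTop.hom := by
      change (i.appLE ⊤ ⊤ _).hom = _
      rw [Scheme.Hom.appTop, Scheme.Hom.app_eq_appLE]
      rfl
    rw [h2]
    rfl
  have h2 : (topPair i j).q.comp (Scheme.ΓSpecIso (CommRingCat.of B)).inv.hom =
      (Scheme.ΓSpecIso (CommRingCat.of A)).inv.hom.comp q := by
    have := congrArg CommRingCat.Hom.hom (Scheme.ΓSpecIso_inv_naturality (CommRingCat.ofHom q))
    refine Eq.trans ?_ this.symm
    have h2 : (topPair i j).q = j.appTop.hom := by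
      change (j.appLE ⊤ ⊤ _).hom = _
      rw [Scheme.Hom.appTop, Scheme.Hom.app_eq_appLE]
      rfl
    rw [h2]
    rfl
  let e : eqL p q →+* (topPair i j).R := eqL.map _ _ _ h1 h2
  have hbij : ∀ R : CommRingCat.{u}, Function.Bijective (Scheme.ΓSpecIso R).inv.hom := fun R =>
    (Scheme.ΓSpecIso R).symm.commRingCatIsoToRingEquiv.bijective
  have he : Function.Bijective e := eqL_map_bijective _ _ _ _ _ (hbij _) (hbij _).1 (hbij _)
  have : IsIso (CommRingCat.ofHom e) :=
    (RingEquiv.ofBijective e he).toCommRingCatIso.isIso_hom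
  let iso : Po i j ≅ Spec (CommRingCat.of (eqL p q)) :=
    (asIso (ι (topPair i j))).symm ≪≫ asIso (Spec.map (CommRingCat.ofHom e))
  refine IsPushout.of_iso hpo (Iso.refl _) (Iso.refl _) (Iso.refl _) iso (by simp) (by simp) ?_ ?_
  · have h3 := ha (topPair i j)
    have h4 : (topPair i j).hU.fromSpec = Spec.map (Scheme.ΓSpecIso (CommRingCat.of A')).inv := by
      refine (IsAffineOpen.fromSpec_top (X := Spec (CommRingCat.of A'))).trans ?_
      exact Scheme.isoSpec_Spec_inv _
    rw [h4] at h3
    have h5 : Spec.map (Scheme.ΓSpecIso (CommRingCat.of A')).inv ≫ a ≫ iso.hom =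
        aS (topPair i j) ≫ Spec.map (CommRingCat.ofHom e) := by
      refine (Category.assoc _ _ _).symm.trans ((congrArg (fun z => z ≫ iso.hom) h3).trans ?_)
      simp only [iso, Iso.trans_hom, Iso.symm_hom, asIso_inv, asIso_hom, Category.assoc,
        IsIso.hom_inv_id_assoc]
    rw [← cancel_epi (Spec.map (Scheme.ΓSpecIso (CommRingCat.of A')).inv), h5, aS,
      Iso.refl_hom, Category.id_comp, ← Spec.map_comp, ← Spec.map_comp]
    rfl
  · have h3 := hb (topPair i j)
    have h4 : (topPair i j).hV.fromSpec = Spec.map (Scheme.ΓSpecIso (CommRingCat.of B)).inv := by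
      refine (IsAffineOpen.fromSpec_top (X := Spec (CommRingCat.of B))).trans ?_
      exact Scheme.isoSpec_Spec_inv _
    rw [h4] at h3
    have h5 : Spec.map (Scheme.ΓSpecIso (CommRingCat.of B)).inv ≫ b ≫ iso.hom =
        bS (topPair i j) ≫ Spec.map (CommRingCat.ofHom e) := by
      refine (Category.assoc _ _ _).symm.trans ((congrArg (fun z => z ≫ iso.hom) h3).trans ?_)
      simp only [iso, Iso.trans_hom, Iso.symm_hom, asIso_inv, asIso_hom, Category.assoc,
        IsIso.hom_inv_id_assoc]
    rw [← cancel_epi (Spec.map (Scheme.ΓSpecIso (CommRingCat.of B)).inv), h5, bS,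
      Iso.refl_hom, Category.id_comp, ← Spec.map_comp, ← Spec.map_comp]
    rfl

end Groth.Agent.FlatB.PushSpec
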