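import Mathlib.RingTheory.ZariskisMainTheorem
import Mathlib.RingTheory.Spectrum.Prime.Chevalley
import Mathlib.RingTheory.Extension.Presentation.Core
import Mathlib.RingTheory.Finiteness.Descent
import Mathlib.RingTheory.Spectrum.Prime.Noetherian

/-!
# The locus of finite fibres of a finitely presented algebra is constructible
-/

set_option autoImplicit false

universe u

namespace Groth.Agent.FlatB.QFConstr

open TensorProduct PrimeSpectrum

/-- Being quasi-finite at a prime is an open condition. -/
theorem isOpen_quasiFiniteAt {R S : Type u} [CommRing R] [CommRing S] [Algebra R S]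
    [Algebra.FiniteType R S] :
    IsOpen {q : PrimeSpectrum S | Algebra.QuasiFiniteAt R q.asIdeal} := by
  rw [isOpen_iff_forall_mem_open]
  intro q0 hq0
  have : Algebra.QuasiFiniteAt R q0.asIdeal := hq0
  obtain ⟨S', hS', r, hr, H⟩ :=
    Algebra.QuasiFiniteAt.exists_fg_and_exists_notMem_and_awayMap_bijective (R := R) q0.asIdeal
  refine ⟨basicOpen r.1, ?_, (basicOpen r.1).isOpen, hr⟩
  intro q hq
  have hrq : r.1 ∉ q.asIdeal := hq
  have : Module.Finite R S' := ⟨(Submodule.fg_top _).mpr hS'⟩
  have : Algebra.QuasiFinite R (Localization.Away r) := .trans _ S' _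
  have : Algebra.QuasiFinite R (Localization.Away r.1) :=
    .of_surjective_algHom (Localization.awayMapₐ S'.val r) H.2
  let f : Localization.Away r.1 →ₐ[S] Localization.AtPrime q.asIdeal :=
    IsLocalization.Away.liftAlgHom r.1 (f := Algebra.ofId _ _) <|
      IsLocalization.map_units (M := q.asIdeal.primeCompl) (Localization.AtPrime q.asIdeal)
        ⟨r, hrq⟩
  refine .of_forall_exists_mul_mem_range (f.restrictScalars R) fun x ↦ ?_
  obtain ⟨x, ⟨s, hs⟩, rfl⟩ := IsLocalization.exists_mk'_eq q.asIdeal.primeCompl x
  exact ⟨algebraMap _ _ s, by simpa using IsLocalization.map_units _ ⟨s, hs⟩,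
    algebraMap _ _ x, by simp⟩

/-- A fibre is finite iff the algebra is quasi-finite at all its points. -/
theorem finite_fiber_iff {R S : Type u} [CommRing R] [CommRing S] [Algebra R S]
    [Algebra.FiniteType R S] (p : PrimeSpectrum R) :
    Module.Finite p.asIdeal.ResidueField (p.asIdeal.Fiber S) ↔
      ∀ q : PrimeSpectrum S, q.comap (algebraMap R S) = p → Algebra.QuasiFiniteAt R q.asIdeal := by
  have h1 : Module.Finite p.asIdeal.ResidueField (p.asIdeal.Fiber S) ↔
      DiscreteTopology (PrimeSpectrum (p.asIdeal.Fiber S)) := by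
    rw [Module.finite_iff_isArtinianRing, isArtinianRing_iff_isNoetherianRing_krullDimLE_zero]
    have : IsJacobsonRing (p.asIdeal.Fiber S) :=
      isJacobsonRing_of_finiteType (A := p.asIdeal.ResidueField)
    constructor
    · rintro ⟨h, h'⟩
      have : IsArtinianRing (p.asIdeal.Fiber S) :=
        isArtinianRing_iff_isNoetherianRing_krullDimLE_zero.mpr ⟨h, h'⟩
      infer_instance
    · intro h
      exact ⟨Algebra.FiniteType.isNoetherianRing p.asIdeal.ResidueField _,
        (PrimeSpectrum.discreteTopology_iff_finite_and_krullDimLE_zero.mp inferInstance).right⟩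
  rw [h1, ← (PrimeSpectrum.preimageHomeomorphFiber R S p).discreteTopology_iff,
    discreteTopology_iff_isOpen_singleton]
  constructor
  · rintro h q rfl
    rw [Algebra.quasiFiniteAt_iff_isOpen_singleton_fiber]
    exact h ⟨q, rfl⟩
  · rintro h ⟨q, rfl⟩
    exact (Algebra.quasiFiniteAt_iff_isOpen_singleton_fiber q).mp (h q rfl)

theorem isConstructible_finite_fiber_noeth {R S : Type u} [CommRing R] [CommRing S] [Algebra R S]
    [IsNoetherianRing R] [Algebra.FiniteType R S] :
    Topology.IsConstructible {p : PrimeSpectrum R |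
      Module.Finite p.asIdeal.ResidueField (p.asIdeal.Fiber S)} := by
  have hS : IsNoetherianRing S := Algebra.FiniteType.isNoetherianRing R S
  rw [← Topology.isConstructible_compl]
  have hfp : (algebraMap R S).FinitePresentation := by
    rw [RingHom.finitePresentation_algebraMap]
    exact Algebra.FinitePresentation.of_finiteType.mp inferInstance
  have hc : Topology.IsConstructible
      {q : PrimeSpectrum S | Algebra.QuasiFiniteAt R q.asIdeal}ᶜ := by
    rw [Topology.isConstructible_compl]
    refine IsCompact.isConstructible ?_ isOpen_quasiFiniteAt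
    exact TopologicalSpace.NoetherianSpace.isCompact _
  have := isConstructible_comap_image hfp hc
  convert this
  ext p
  simp only [Set.mem_compl_iff, Set.mem_setOf_eq, Set.mem_image]
  rw [finite_fiber_iff]
  push Not
  constructor
  · rintro ⟨q, hq, h⟩
    exact ⟨q, h, hq⟩
  · rintro ⟨q, h, hq⟩
    exact ⟨q, hq, h⟩

theorem isRetrocompact_comap_preimage {R S : Type u} [CommRing R] [CommRing S] (f : R →+* S)
    (s : Set (PrimeSpectrum R)) (hs : IsOpen s) (hc : IsRetrocompact s) :
    IsRetrocompact (comap f ⁻¹' s) := by
  obtain ⟨t, rfl⟩ := isCompact_isOpen_iff.mp ⟨hc.isCompact, hs⟩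
  rw [Set.preimage_compl, preimage_comap_zeroLocus]
  exact isRetrocompact_zeroLocus_compl (t.finite_toSet.image f)

/-- Preimages of constructible sets under maps of spectra are constructible. -/
theorem isConstructible_comap_preimage {R S : Type u} [CommRing R] [CommRing S] (f : R →+* S)
    {s : Set (PrimeSpectrum R)} (hs : Topology.IsConstructible s) :
    Topology.IsConstructible (comap f ⁻¹' s) :=
  hs.preimage (PrimeSpectrum.continuous_comap f) (isRetrocompact_comap_preimage f)

/-- Finiteness of the fibre is insensitive to base change. -/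
theorem finite_fiber_baseChange {R R' S : Type u} [CommRing R] [CommRing R'] [CommRing S]
    [Algebra R R'] [Algebra R S] (p : PrimeSpectrum R') :
    Module.Finite p.asIdeal.ResidueField (p.asIdeal.Fiber (R' ⊗[R] S)) ↔
      Module.Finite (p.comap (algebraMap R R')).asIdeal.ResidueField
        ((p.comap (algebraMap R R')).asIdeal.Fiber S) := by
  let p0 := p.comap (algebraMap R R')
  let φ : p0.asIdeal.ResidueField →+* p.asIdeal.ResidueField :=
    Ideal.ResidueField.map p0.asIdeal p.asIdeal (algebraMap R R') rfl
  let _ : Algebra p0.asIdeal.ResidueField p.asIdeal.ResidueField := φ.toAlgebra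
  have hst : IsScalarTower R p0.asIdeal.ResidueField p.asIdeal.ResidueField := by
    refine IsScalarTower.of_algebraMap_eq fun x => ?_
    rw [RingHom.algebraMap_toAlgebra]
    simp only [φ]
    rw [IsScalarTower.algebraMap_apply R R' p.asIdeal.ResidueField]
    exact (Ideal.ResidueField.map_algebraMap _ _ _ _ _).symm
  let e1 : p.asIdeal.ResidueField ⊗[R'] (R' ⊗[R] S) ≃ₗ[p.asIdeal.ResidueField]
      p.asIdeal.ResidueField ⊗[R] S :=
    TensorProduct.AlgebraTensorModule.cancelBaseChange R R' p.asIdeal.ResidueField
      p.asIdeal.ResidueField S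
  let e2 : p.asIdeal.ResidueField ⊗[p0.asIdeal.ResidueField] (p0.asIdeal.ResidueField ⊗[R] S)
      ≃ₗ[p.asIdeal.ResidueField] p.asIdeal.ResidueField ⊗[R] S :=
    TensorProduct.AlgebraTensorModule.cancelBaseChange R p0.asIdeal.ResidueField
      p.asIdeal.ResidueField p.asIdeal.ResidueField S
  constructor
  · intro h
    have : Module.Finite p.asIdeal.ResidueField
        (p.asIdeal.ResidueField ⊗[p0.asIdeal.ResidueField] (p0.asIdeal.ResidueField ⊗[R] S)) :=
      Module.Finite.equiv (e1.trans e2.symm)
    exact Module.Finite.of_finite_tensorProduct_of_faithfullyFlat p.asIdeal.ResidueField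
  · intro h
    exact Module.Finite.equiv (e2.trans e1.symm)

/-- The locus of finite fibres of a finitely presented algebra is constructible. -/
theorem isConstructible_finite_fiber {R S : Type u} [CommRing R] [CommRing S] [Algebra R S]
    [Algebra.FinitePresentation R S] :
    Topology.IsConstructible {p : PrimeSpectrum R |
      Module.Finite p.asIdeal.ResidueField (p.asIdeal.Fiber S)} := by
  let P := Algebra.Presentation.ofFinitePresentation R S
  let R₀ := P.Core
  have hN : IsNoetherianRing R₀ := Algebra.FiniteType.isNoetherianRing ℤ R₀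
  let S₀ := P.ModelOfHasCoeffs R₀
  let e : R ⊗[R₀] S₀ ≃ₐ[R] S := P.tensorModelOfHasCoeffsEquiv R₀
  have h0 := isConstructible_finite_fiber_noeth (R := R₀) (S := S₀)
  have h1 := isConstructible_comap_preimage (algebraMap R₀ R) h0
  convert h1 using 1
  ext p
  simp only [Set.mem_setOf_eq, Set.mem_preimage]
  rw [← finite_fiber_baseChange]
  have e' : p.asIdeal.Fiber (R ⊗[R₀] S₀) ≃ₗ[p.asIdeal.ResidueField] p.asIdeal.Fiber S :=
    TensorProduct.AlgebraTensorModule.congr (LinearEquiv.refl _ _) e.toLinearEquiv
  constructor
  · intro h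
    exact Module.Finite.equiv e'.symm
  · intro h
    exact Module.Finite.equiv e'

end Groth.Agent.FlatB.QFConstr
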