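import Groth.Agent.FlatB.QFGen2
import Groth.Agent.FlatB.QFConstr
import Mathlib.AlgebraicGeometry.ZariskisMainTheorem
import Mathlib.AlgebraicGeometry.Morphisms.Flat
import Mathlib.AlgebraicGeometry.Morphisms.FinitePresentation

/-!
# Flat finitely presented morphisms which are quasi-finite over a dense subset are quasi-finite
-/

set_option autoImplicit false

universe u

namespace Groth.Agent.FlatB.QFDense

open TensorProduct PrimeSpectrum

/-- A flat finitely presented algebra with finite fibres over a dense set of primes is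
quasi-finite. -/
theorem quasiFinite_of_dense {A B : Type u} [CommRing A] [CommRing B] [Algebra A B]
    [Module.Flat A B] [Algebra.FinitePresentation A B] (D : Set (PrimeSpectrum A)) (hD : Dense D)
    (h : ∀ p ∈ D, Module.Finite p.asIdeal.ResidueField (p.asIdeal.Fiber B)) :
    Algebra.QuasiFinite A B := by
  have hft : Algebra.FiniteType A B := inferInstance
  let Z : Set (PrimeSpectrum A) :=
    {p : PrimeSpectrum A | Module.Finite p.asIdeal.ResidueField (p.asIdeal.Fiber B)}ᶜ
  have hZo : IsOpen Z := by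
    refine isOpen_of_stableUnderGeneralization_of_isConstructible ?_
      (Topology.isConstructible_compl.mpr QFConstr.isConstructible_finite_fiber)
    intro p p' hpp' hp hp'
    apply hp
    have hle : p'.asIdeal ≤ p.asIdeal := (PrimeSpectrum.le_iff_specializes p' p).mpr hpp'
    exact QFGen2.finite_fiber_of_le p'.asIdeal p.asIdeal hle hp'
  have hZe : Z = ∅ := by
    by_contra hne
    obtain ⟨p, hpZ, hpD⟩ := hD.inter_open_nonempty Z hZo (Set.nonempty_iff_ne_empty.mpr hne)
    exact hpZ (h p hpD)
  refine ⟨fun P hP => ?_⟩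
  by_contra hn
  have : (⟨P, hP⟩ : PrimeSpectrum A) ∈ Z := hn
  rw [hZe] at this
  exact this

open AlgebraicGeometry CategoryTheory Limits

/-- A flat morphism locally of finite presentation which is quasi-finite at all points over a dense
subset of the target is locally quasi-finite. -/
theorem locallyQuasiFinite_of_dense {X S : Scheme.{u}} (f : X ⟶ S) [Flat f]
    [LocallyOfFinitePresentation f] (D : Set S) (hD : Dense D)
    (h : ∀ x : X, f x ∈ D → f.QuasiFiniteAt x) : LocallyQuasiFinite f := by
  refine ⟨fun {W} hW {V} hV e => ?_⟩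
  algebraize [(f.appLE W V e).hom]
  have hflat : Module.Flat Γ(S, W) Γ(X, V) := f.flat_appLE hW hV e
  have hfp : Algebra.FinitePresentation Γ(S, W) Γ(X, V) :=
    f.finitePresentation_appLE hW hV e
  let D' : Set (PrimeSpectrum Γ(S, W)) := hW.fromSpec ⁻¹' D
  have hD' : Dense D' := hD.preimage hW.fromSpec.isOpenEmbedding.isOpenMap
  refine quasiFinite_of_dense D' hD' ?_
  intro p hp
  rw [QFConstr.finite_fiber_iff]
  intro q hq
  have hq' : PrimeSpectrum.comap (f.appLE W V e).hom q = p := hq
  have hcomm : hV.fromSpec ≫ f = Spec.map (f.appLE W V e) ≫ hW.fromSpec :=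
    (hW.SpecMap_appLE_fromSpec f hV e).symm
  have hx1 : f (hV.fromSpec q) = hW.fromSpec (PrimeSpectrum.comap (f.appLE W V e).hom q) := by
    rw [← Scheme.Hom.comp_apply, hcomm, Scheme.Hom.comp_apply]
    rfl
  have hxq : f.QuasiFiniteAt (hV.fromSpec q) := by
    apply h
    rw [hx1, hq']
    exact hp
  have hxV : hV.fromSpec q ∈ V := by
    have : hV.fromSpec q ∈ Set.range hV.fromSpec := ⟨q, rfl⟩
    rwa [hV.range_fromSpec] at this
  have h1 := hxq.quasiFiniteAt hV hW e hxV
  have h2 : hV.primeIdealOf ⟨hV.fromSpec q, hxV⟩ = q :=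
    hV.fromSpec.isOpenEmbedding.injective (hV.fromSpec_primeIdealOf ⟨hV.fromSpec q, hxV⟩)
  rw [h2] at h1
  unfold RingHom.QuasiFiniteAt at h1
  exact h1

/-- If the restriction of `f` over an open `U` is locally quasi-finite then `f` is quasi-finite at
all points over `U`. -/
theorem quasiFiniteAt_of_restrict {X S : Scheme.{u}} (f : X ⟶ S) (U : S.Opens)
    [LocallyQuasiFinite (f ∣_ U)] (x : X) (hx : f x ∈ U) : f.QuasiFiniteAt x := by
  let x' : (f ⁻¹ᵁ U : X.Opens) := ⟨x, hx⟩
  have h1 : (f ∣_ U).QuasiFiniteAt x' := (f ∣_ U).quasiFiniteAt x'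
  have h2 : (f ∣_ U ≫ U.ι).QuasiFiniteAt x' := Scheme.Hom.quasiFiniteAt_comp_iff.mpr h1
  rw [morphismRestrict_ι, Scheme.Hom.quasiFiniteAt_comp_iff_of_isOpenImmersion] at h2
  have h3 : (f ⁻¹ᵁ U).ι x' = x := rfl
  rwa [h3] at h2

end Groth.Agent.FlatB.QFDense
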