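import Mathlib.RingTheory.Valuation.LocalSubring
import Mathlib.RingTheory.Flat.TorsionFree
import Mathlib.RingTheory.Localization.Integral
import Mathlib.RingTheory.LocalRing.ResidueField.Fiber
import Mathlib.RingTheory.Finiteness.Descent
import Mathlib.RingTheory.QuasiFinite.Basic
import Mathlib.RingTheory.Algebraic.Integral
import Mathlib.RingTheory.Valuation.ValuationRing

/-!
# Finite generic fibre implies finite special fibre, for flat algebras of finite type
-/

set_option autoImplicit false

universe u

namespace Groth.Agent.FlatB.QFGen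

open TensorProduct Polynomial

/-- Over a valuation ring, a nonzero polynomial is a nonzero scalar multiple of a polynomial with
a unit coefficient. -/
theorem exists_eq_C_mul {V : Type*} [CommRing V] [IsDomain V] [ValuationRing V] (P : V[X])
    (hP : P ≠ 0) : ∃ (c : V) (Q : V[X]), c ≠ 0 ∧ P = C c * Q ∧ ∃ i, Q.coeff i = 1 := by
  classical
  -- find a coefficient dividing all the others
  have key : ∀ s : Finset ℕ, s.Nonempty → ∃ i ∈ s, ∀ j ∈ s, P.coeff i ∣ P.coeff j := by
    intro s hs
    induction hs using Finset.Nonempty.cons_induction with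
    | singleton a => exact ⟨a, by simp, by simp⟩
    | cons a s ha hs ih =>
      obtain ⟨i, hi, hi'⟩ := ih
      rcases ValuationRing.dvd_total (P.coeff a) (P.coeff i) with h | h
      · refine ⟨a, by simp, ?_⟩
        intro j hj
        rcases Finset.mem_cons.mp hj with rfl | hj
        · exact dvd_rfl
        · exact h.trans (hi' j hj)
      · refine ⟨i, Finset.mem_cons_of_mem hi, ?_⟩
        intro j hj
        rcases Finset.mem_cons.mp hj with rfl | hj
        · exact h
        · exact hi' j hj
  obtain ⟨i, hi, hi'⟩ := key P.support (by simpa using hP)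
  have hall : ∀ j, P.coeff i ∣ P.coeff j := by
    intro j
    by_cases hj : j ∈ P.support
    · exact hi' j hj
    · rw [Polynomial.notMem_support_iff.mp hj]
      exact dvd_zero _
  have hdvd : C (P.coeff i) ∣ P := by
    rw [Polynomial.C_dvd_iff_dvd_coeff]
    exact hall
  obtain ⟨Q, hQ⟩ := hdvd
  have hc : P.coeff i ≠ 0 := Polynomial.mem_support_iff.mp hi
  refine ⟨P.coeff i, Q, hc, hQ, i, ?_⟩
  have := congrArg (fun R => Polynomial.coeff R i) hQ
  simp only [Polynomial.coeff_C_mul] at this
  exact (mul_left_cancel₀ hc (by rw [mul_one]; exact this)).symm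

/-- Over a valuation ring `V` with fraction field `K`, a flat `V`-algebra of finite type with finite
generic fibre has finite special fibre. -/
theorem finite_special_fibre {V K C : Type*} [CommRing V] [IsDomain V] [ValuationRing V]
    [Field K] [Algebra V K] [IsFractionRing V K] [CommRing C] [Algebra V C] [Module.Flat V C]
    [Algebra.FiniteType V C] [Module.Finite K (K ⊗[V] C)] :
    Module.Finite (IsLocalRing.ResidueField V) (IsLocalRing.ResidueField V ⊗[V] C) := by
  have hint : Algebra.IsIntegral (IsLocalRing.ResidueField V)
      (IsLocalRing.ResidueField V ⊗[V] C) := by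
    constructor
    intro y
    obtain ⟨x, rfl⟩ : ∃ x : C, (1 : IsLocalRing.ResidueField V) ⊗ₜ[V] x = y := by
      have hs : Function.Surjective
          (Algebra.TensorProduct.includeRight : C →ₐ[V] IsLocalRing.ResidueField V ⊗[V] C) :=
        Algebra.TensorProduct.includeRight_surjective _ IsLocalRing.residue_surjective
      obtain ⟨x, hx⟩ := hs y
      exact ⟨x, by simpa using hx⟩
    -- `x` is algebraic over `V`
    have hx : IsIntegral K ((1 : K) ⊗ₜ[V] x) := Algebra.IsIntegral.isIntegral _
    have halg : IsAlgebraic V ((1 : K) ⊗ₜ[V] x) :=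
      (IsFractionRing.isAlgebraic_iff V K (K ⊗[V] C)).mpr hx.isAlgebraic
    obtain ⟨P, hP0, hP⟩ := halg
    have hinj : Function.Injective
        (Algebra.TensorProduct.includeRight : C →ₐ[V] K ⊗[V] C) :=
      Algebra.TensorProduct.includeRight_injective (IsFractionRing.injective V K)
    have hP' : aeval x P = 0 := by
      apply hinj
      rw [map_zero, ← Polynomial.aeval_algHom_apply]
      exact hP
    obtain ⟨c, Q, hc, rfl, i, hi⟩ := exists_eq_C_mul P hP0
    have hQ : aeval x Q = 0 := by
      rw [map_mul, aeval_C, ← Algebra.smul_def] at hP'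
      have htf : Module.IsTorsionFree V C := inferInstance
      exact (smul_eq_zero_iff_right hc).mp hP'
    have hQ1 : aeval ((1 : IsLocalRing.ResidueField V) ⊗ₜ[V] x)
        (Q.map (algebraMap V (IsLocalRing.ResidueField V))) = 0 := by
      rw [Polynomial.aeval_map_algebraMap]
      have : (1 : IsLocalRing.ResidueField V) ⊗ₜ[V] x =
        (Algebra.TensorProduct.includeRight : C →ₐ[V] IsLocalRing.ResidueField V ⊗[V] C) x := rfl
      rw [this, Polynomial.aeval_algHom_apply, hQ, map_zero]
    have hne : Q.map (algebraMap V (IsLocalRing.ResidueField V)) ≠ 0 := by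
      intro h0
      have := congrArg (fun R => Polynomial.coeff R i) h0
      simp [Polynomial.coeff_map, hi] at this
    exact (IsAlgebraic.isIntegral ⟨_, hne, hQ1⟩)
  exact Algebra.IsIntegral.finite

end Groth.Agent.FlatB.QFGen
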