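import Groth.Agent.FlatB.QFGen

/-!
# Finiteness of fibres is stable under specialization for flat algebras of finite type
-/

set_option autoImplicit false

universe u

namespace Groth.Agent.FlatB.QFGen2

open TensorProduct Polynomial

/-- Let `A → B` be flat of finite type and `p' ≤ p` primes of `A`. If the fibre of `B` at `p'` is
finite then so is the fibre at `p`. -/
theorem finite_fiber_of_le {A B : Type u} [CommRing A] [CommRing B] [Algebra A B] [Module.Flat A B]
    [Algebra.FiniteType A B] (p' p : Ideal A) [p'.IsPrime] [p.IsPrime] (hle : p' ≤ p)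
    (h : Module.Finite p'.ResidueField (p'.Fiber B)) : Module.Finite p.ResidueField (p.Fiber B) := by
  have hg : ∀ y : p.primeCompl, IsUnit (algebraMap A p'.ResidueField y) := by
    intro y
    rw [isUnit_iff_ne_zero]
    intro h0
    exact y.2 (hle (Ideal.algebraMap_residueField_eq_zero.mp h0))
  let f : Localization.AtPrime p →+* p'.ResidueField := IsLocalization.lift hg
  have hf : f.comp (algebraMap A (Localization.AtPrime p)) = algebraMap A p'.ResidueField :=
    IsLocalization.lift_comp hg
  obtain ⟨V, hV, hloc⟩ := IsLocalRing.exists_factor_valuationRing f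
  let g0 : Localization.AtPrime p →+* V := f.codRestrict V.toSubring hV
  have hg0 : IsLocalHom g0 := hloc
  let _ : Algebra A V := (g0.comp (algebraMap A (Localization.AtPrime p))).toAlgebra
  have hst : IsScalarTower A V p'.ResidueField := by
    refine IsScalarTower.of_algebraMap_eq' ?_
    rw [← hf]
    rfl
  have h1 : Module.Finite p'.ResidueField (p'.ResidueField ⊗[V] (V ⊗[A] B)) :=
    Module.Finite.equiv
      (TensorProduct.AlgebraTensorModule.cancelBaseChange A V p'.ResidueField p'.ResidueField B).symm
  have h2 : Module.Finite (IsLocalRing.ResidueField V)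
      (IsLocalRing.ResidueField V ⊗[V] (V ⊗[A] B)) :=
    QFGen.finite_special_fibre (K := p'.ResidueField)
  have h3 : Module.Finite (IsLocalRing.ResidueField V)
      (IsLocalRing.ResidueField V ⊗[A] B) :=
    Module.Finite.equiv
      (TensorProduct.AlgebraTensorModule.cancelBaseChange A V (IsLocalRing.ResidueField V)
        (IsLocalRing.ResidueField V) B)
  let φ : p.ResidueField →+* IsLocalRing.ResidueField V := IsLocalRing.ResidueField.map g0
  let _ : Algebra p.ResidueField (IsLocalRing.ResidueField V) := φ.toAlgebra
  have hst2 : IsScalarTower A p.ResidueField (IsLocalRing.ResidueField V) := by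
    refine IsScalarTower.of_algebraMap_eq' ?_
    rfl
  have h4 : Module.Finite (IsLocalRing.ResidueField V)
      (IsLocalRing.ResidueField V ⊗[p.ResidueField] (p.ResidueField ⊗[A] B)) :=
    Module.Finite.equiv
      (TensorProduct.AlgebraTensorModule.cancelBaseChange A p.ResidueField
        (IsLocalRing.ResidueField V) (IsLocalRing.ResidueField V) B).symm
  exact Module.Finite.of_finite_tensorProduct_of_faithfullyFlat (IsLocalRing.ResidueField V)

end Groth.Agent.FlatB.QFGen2
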